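import Cfsg.Agent.BaseTwo73.Split

/-!
# Signs of commutation over the fields with three and five elements
-/

set_option autoImplicit false
set_option linter.style.haveILetI false

namespace CfsgLib.BaseTwo73

open CfsgLib.RegOrbit

universe v u

variable {V : Type v} [AddCommGroup V] {K : Type u} [Field K] [Module K V]
  {G E : Subgroup (AutGp V)}

local notation:80 a " ⋅ " v:81 => ((a : AutGp _) : AddMonoid.End _) v

/-- Every element of the group squares to a scalar, a square one over five elements. -/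
def SqHyp (K : Type u) [Field K] [Module K V] (E : Subgroup (AutGp V)) : Prop :=
  ∀ x ∈ E, ∃ c : K, (∀ v : V, x ⋅ (x ⋅ v) = c • v) ∧ (Nat.card K = 5 → IsSquare c)

/-- Commutation up to a scalar. -/
def Sgn (x y : AutGp V) (t : K) : Prop := ∀ v : V, x ⋅ (y ⋅ v) = t • y ⋅ (x ⋅ v)

/-- Linearity. -/
def Lin (K : Type u) [Field K] [Module K V] (x : AutGp V) : Prop :=
  ∀ (t : K) (v : V), x ⋅ (t • v) = t • x ⋅ v

theorem natCast_surj {p : ℕ} (hp : p.Prime) (hK : Nat.card K = p) (t : K) :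
    ∃ k < p, (k : K) = t := by
  haveI := Fact.mk hp
  haveI : Finite K := Nat.finite_of_card_ne_zero (hK ▸ hp.ne_zero)
  haveI : Fact (Nat.card K).Prime := ⟨hK.symm ▸ hp⟩
  have htop : AddSubgroup.zmultiples (1 : K) = ⊤ :=
    ((AddSubgroup.zmultiples (1 : K)).eq_bot_or_eq_top_of_prime_card).resolve_left
      fun h0 => one_ne_zero (AddSubgroup.zmultiples_eq_bot.1 h0)
  obtain ⟨m, hm⟩ : t ∈ AddSubgroup.zmultiples (1 : K) := by rw [htop]; exact AddSubgroup.mem_top _
  have h0 : (p : K) = 0 := by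
    haveI := Fintype.ofFinite K
    rw [← hK, Nat.card_eq_fintype_card]; exact FiniteField.cast_card_eq_zero K
  refine ⟨(m % p).toNat, by
    have h1 : m % (p : ℤ) < p := Int.emod_lt_of_pos m (by exact_mod_cast hp.pos)
    have h2 : 0 ≤ m % (p : ℤ) := Int.emod_nonneg m (by exact_mod_cast hp.ne_zero)
    omega, ?_⟩
  rw [← hm]
  show ((m % p).toNat : K) = m • (1 : K)
  rw [← Int.cast_natCast, Int.toNat_of_nonneg (Int.emod_nonneg _ (by exact_mod_cast hp.ne_zero)),
    zsmul_one]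
  conv_rhs => rw [← Int.emod_add_mul_ediv m p]
  push_cast
  rw [h0, zero_mul, add_zero]

theorem lin_of_prime {p : ℕ} (hp : p.Prime) (hK : Nat.card K = p) (a : AutGp V) : Lin K a := by
  intro t v
  obtain ⟨k, -, rfl⟩ := natCast_surj hp hK t
  rw [Nat.cast_smul_eq_nsmul, Nat.cast_smul_eq_nsmul, map_nsmul]

theorem Sys.linE (s : Sys K G E) {x : AutGp V} (hx : x ∈ E) : Lin K x := s.lin x hx

variable {x y z : AutGp V} {a b : K}

theorem Sgn.mul_right (h1 : Sgn x y a) (h2 : Sgn x z b) (hy : Lin K y) : Sgn x (y * z) (a * b) :=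
  fun v => by rw [mul_apply', h1, h2, hy, smul_smul, mul_apply']

theorem Sgn.mul_left (h1 : Sgn x z a) (h2 : Sgn y z b) (hx : Lin K x) : Sgn (x * y) z (a * b) :=
  fun v => by rw [mul_apply', h2, hx, h1, smul_smul, mul_apply', mul_comm b]

theorem Sgn.symm (h : Sgn x y a) (ha : a * a = 1) : Sgn y x a := fun v => by
  rw [h v, smul_smul, ha, one_smul]

theorem Sgn.refl (x : AutGp V) : Sgn x x (1 : K) := fun v => by rw [one_smul]

theorem Sgn.unique [Nontrivial V] (h1 : Sgn x y a) (h2 : Sgn x y b) : a = b := by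
  obtain ⟨v, hv⟩ := exists_ne (0 : V)
  exact smul_left_injective K (map_ne_zero' y (map_ne_zero' x hv)) ((h1 v).symm.trans (h2 v))

theorem Sgn.commute (h : Sgn x y (1 : K)) : x * y = y * x :=
  mul_comm_iff.2 fun v => by rw [h, one_smul]

theorem sgn_sign [Nontrivial V] (s : Sys K G E) (hsq : SqHyp K E) (hx : x ∈ E) (hy : y ∈ E) :
    Sgn x y (1 : K) ∨ Sgn x y (-1 : K) := by
  obtain ⟨t, ht⟩ := s.comm x hx y hy
  obtain ⟨c, hc, -⟩ := hsq x hx
  obtain ⟨v, hv⟩ := exists_ne (0 : V)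
  have h1 := hc (y ⋅ v)
  rw [ht, s.lin x hx, ht, smul_smul, hc, s.lin y hy, smul_smul] at h1
  have hc0 : c ≠ 0 := fun h => map_ne_zero' x (map_ne_zero' x hv) (by rw [hc, h, zero_smul])
  have h2 : t * t * c = c := smul_left_injective K (map_ne_zero' y hv) h1
  rcases mul_self_eq_one_iff.1 (mul_right_cancel₀ hc0 (h2.trans (one_mul c).symm)) with h | h
  · exact Or.inl (h ▸ ht)
  · exact Or.inr (h ▸ ht)

/-- Separation by an element with eigenvalues `1` and `-1`. -/
theorem sep (h2 : (2 : K) ≠ 0) {p q : V} (hp : x ⋅ p = p) (hq : x ⋅ q = -q) (h : p + q = 0) :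
    p = 0 ∧ q = 0 := by
  have h1 := congrArg ((x : AddMonoid.End V) : V → V) h
  rw [map_add, map_zero, hp, hq] at h1
  have h3 : (2 : K) • p = 0 := by
    rw [two_smul]
    calc p + p = (p + -q) + (p + q) := by abel
      _ = 0 := by rw [h1, h, add_zero]
  have hp0 := (smul_eq_zero.1 h3).resolve_left h2
  exact ⟨hp0, by rwa [hp0, zero_add] at h⟩

theorem SqHyp.sub [Finite V] {s : Sys K G E} (hsq : SqHyp K E) (D : Split s) :
    SqHyp K D.E₁ := by
  intro x hx
  obtain ⟨m, hm, rfl⟩ := D.mem_E₁.1 hx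
  obtain ⟨c, hc, hc'⟩ := hsq m (D.mem_M.1 hm).1
  exact ⟨c, fun v => Subtype.ext (hc v), hc'⟩

section Lift

variable [Finite V] {s : Sys K G E} (D : Split s)

include D

theorem Split.lift {e : AutGp D.W} (he : e ∈ D.E₁) :
    ∃ m, m ∈ E ∧ Sgn D.l m (1 : K) ∧ ∀ v : D.W, (e ⋅ v : D.W) = m ⋅ (v : V) := by
  obtain ⟨m, hm, rfl⟩ := D.mem_E₁.1 he
  exact ⟨m, (D.mem_M.1 hm).1, fun v => by rw [one_smul]; exact (D.mem_M.1 hm).2 v,
    fun v => D.res_apply _ v⟩

theorem Split.lift_sgn {e f : AutGp D.W} {m n : AutGp V} (hm : m ∈ E) (hn : n ∈ E) {t : K}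
    (hem : ∀ v : D.W, (e ⋅ v : D.W) = m ⋅ (v : V)) (hfn : ∀ v : D.W, (f ⋅ v : D.W) = n ⋅ (v : V))
    (h : Sgn e f t) : Sgn m n t := by
  obtain ⟨t', ht⟩ := s.comm m hm n hn
  have h1 := congrArg Subtype.val (h ⟨D.w₀, D.w₀_fix⟩)
  rw [Submodule.coe_smul, hem, hfn, hfn, hem, ht] at h1
  have : t' = t := smul_left_injective K (map_ne_zero' n (map_ne_zero' m D.w₀_ne)) h1
  exact this ▸ ht

theorem Split.lift_sq (hsq : SqHyp K E) {e : AutGp D.W} {m : AutGp V} (hm : m ∈ E) {c : K}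
    (hem : ∀ v : D.W, (e ⋅ v : D.W) = m ⋅ (v : V)) (he : ∀ v : D.W, e ⋅ (e ⋅ v) = c • v)
    (v : V) : m ⋅ (m ⋅ v) = c • v := by
  obtain ⟨c', hc, -⟩ := hsq m hm
  have h1 := congrArg Subtype.val (he ⟨D.w₀, D.w₀_fix⟩)
  rw [hem, hem, hc, Submodule.coe_smul] at h1
  rw [hc, smul_left_injective K D.w₀_ne h1]

theorem Split.l_sq (hr : D.r = 2) (v : V) : D.l ⋅ (D.l ⋅ v) = v := by
  rw [← mul_apply', ← pow_two, ← hr, D.pow_r, one_apply']

theorem Split.r_eq_two (hK : Nat.card K = 3 ∨ Nat.card K = 5) : D.r = 2 := by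
  haveI : Finite K := Nat.finite_of_card_ne_zero (by rcases hK with h | h <;> omega)
  haveI := Fintype.ofFinite K
  have h1 : D.r ∣ Nat.card K - 1 := by
    rw [← D.prim.pow_eq_one_iff_dvd, Nat.card_eq_fintype_card]
    exact FiniteField.pow_card_sub_one_eq_one D.ω D.ω_ne_zero
  rcases hK with h | h <;> rw [h] at h1 <;>
    norm_num at h1
  · exact (Nat.prime_dvd_prime_iff_eq D.hr Nat.prime_two).1 h1
  · exact (Nat.prime_dvd_prime_iff_eq D.hr Nat.prime_two).1
      ((Nat.prime_dvd_prime_iff_eq D.hr Nat.prime_two).1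
        (D.hr.dvd_of_dvd_pow (show D.r ∣ 2 ^ 2 by norm_num; exact h1)) ▸ dvd_rfl)

theorem Split.ω_eq (hr : D.r = 2) : D.ω = -1 := by
  refine (mul_self_eq_one_iff.1 ?_).resolve_left D.ω_ne
  rw [← pow_two, ← hr, D.ω_pow]

theorem Split.finrank_eq (hr : D.r = 2) :
    Module.finrank K V = 2 * Module.finrank K D.W := by
  let f : (D.W × D.W) →ₗ[K] V :=
    { toFun := fun p => (p.1 : V) + D.h ⋅ (p.2 : V)
      map_add' := fun p p' => by
        simp only [Prod.fst_add, Prod.snd_add, Submodule.coe_add, map_add]; abel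
      map_smul' := fun t p => by
        simp only [Prod.smul_fst, Prod.smul_snd, Submodule.coe_smul, RingHom.id_apply, smul_add,
          s.lin _ D.hh] }
  haveI : Module.Finite K V := Module.Finite.of_finite
  have hbij : Function.Bijective f := by
    refine ⟨(injective_iff_map_eq_zero f).2 fun p hp => ?_, fun v => ?_⟩
    · have hx : D.l ⋅ (D.h ⋅ (p.2 : V)) = D.ω • D.h ⋅ (p.2 : V) := D.h_eigen p.2.2
      have h1 : D.l ⋅ (p.1 : V) = (1 : K) • (p.1 : V) := by rw [one_smul]; exact p.1.2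
      have h0 : (p.1 : V) + D.h ⋅ (p.2 : V) = 0 := hp
      have hP := congrArg (D.proj 1) h0
      rw [map_add, map_zero, D.proj_self one_ne_zero h1, D.proj_other (one_pow _) hx D.ω_ne,
        add_zero] at hP
      have hp1 : (p.1 : V) = 0 := (smul_eq_zero.1 hP).resolve_left D.r_ne_zero
      rw [hp1, zero_add] at h0
      exact Prod.ext (Subtype.ext hp1) (Subtype.ext (inj' D.h (h0.trans (map_zero _).symm)))
    · obtain ⟨c, hc, rfl⟩ := D.decomp v
      refine ⟨(⟨c 0, hc 0⟩, ⟨c 1, hc 1⟩), ?_⟩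
      rw [hr, Finset.sum_range_succ, Finset.sum_range_one, pow_zero, pow_one]
      rfl
  rw [← (LinearEquiv.ofBijective f hbij).finrank_eq, Module.finrank_prod, two_mul]

end Lift

end CfsgLib.BaseTwo73
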