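import Cfsg.Agent.BaseTwo73.CertSound
import Cfsg.Agent.BaseTwo73.Signs

/-!
# Coordinates from generators
-/

set_option autoImplicit false
set_option linter.style.haveILetI false

namespace CfsgLib.BaseTwo73.Cert

open CfsgLib.RegOrbit

universe v

variable {V : Type v} [AddCommGroup V]

local notation:80 a " ⋅ " v:81 => ((a : AutGp _) : AddMonoid.End _) v

/-- Coordinates without a group. -/
def Coord.pre {q n : ℕ} (bs : List V) (hlen : bs.length = n) (hq : ∀ v : V, q • v = 0)
    (hlt : 1 < q) (hnorm : NormMat q n (one n))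
    (hinj : ∀ c c', Norm q n c → Norm q n c' → lsum c bs = lsum c' bs → c = c')
    (hspan : ∀ v : V, ∃ c, Norm q n c ∧ lsum c bs = v)
    (hone : (one n).map (fun col => lsum col bs) = bs) :
    Coord q n (⊥ : Subgroup (AutGp V)) [one n] [] where
  bs := bs
  len := hlen
  hq := hq
  one_lt := hlt
  inj := hinj
  span := hspan
  one_mat := hone
  one_norm := hnorm
  mem e he := ⟨one n, List.mem_singleton.2 rfl, by
    rw [Subgroup.mem_bot.1 he, hone]; exact List.map_id' _⟩
  real m hm := ⟨1, one_mem _, by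
    rw [List.mem_singleton.1 hm, hone]; exact List.map_id' _⟩
  norm_els m hm := List.mem_singleton.1 hm ▸ hnorm
  gens_els g hg := absurd hg List.not_mem_nil

variable {q n : ℕ} (C₀ : Coord q n (⊥ : Subgroup (AutGp V)) [one n] [])

include C₀

theorem Coord.mat_smul {e z : AutGp V} {A : List (List ℕ)} (hA : C₀.Mat e A) {k : ℕ}
    (hz : ∀ v : V, z ⋅ v = k • v) : C₀.Mat (z * e) (A.map (smulv q k)) := by
  refine ⟨⟨by rw [List.length_map]; exact hA.1.1, fun c hc => ?_⟩, ?_⟩
  · obtain ⟨x, hx, rfl⟩ := List.mem_map.1 hc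
    exact norm_smulv C₀.one_lt k (hA.1.2 x hx)
  · calc C₀.bs.map (fun v => (z * e) ⋅ v) = (C₀.bs.map fun v => e ⋅ v).map fun v => k • v := by
          rw [List.map_map]
          exact List.map_congr_left fun v _ => by rw [mul_apply', hz]; rfl
      _ = (A.map (smulv q k)).map C₀.vec := by
          rw [hA.2, List.map_map, List.map_map]
          exact List.map_congr_left fun c _ => (lsum_smulv C₀.hq k c C₀.bs).symm

theorem Coord.real_words {E : Subgroup (AutGp V)} :
    ∀ gs : List (List (List ℕ)), (∀ g ∈ gs, ∃ e ∈ E, C₀.Mat e g) →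
      ∀ A ∈ words q n gs, ∃ e ∈ E, C₀.Mat e A
  | [], _, A, hA => by
    rw [words, List.mem_singleton] at hA
    exact ⟨1, one_mem E, hA ▸ C₀.mat_one⟩
  | g :: gs, h, A, hA => by
    have ih := Coord.real_words gs fun x hx => h x (List.mem_cons_of_mem _ hx)
    rw [words, List.mem_append] at hA
    rcases hA with hA | hA
    · exact ih A hA
    · obtain ⟨B, hB, rfl⟩ := List.mem_map.1 hA
      obtain ⟨b, hb, hbB⟩ := ih B hB
      obtain ⟨a, ha, haA⟩ := h g List.mem_cons_self
      exact ⟨a * b, E.mul_mem ha hb, C₀.mat_mul haA hbB⟩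

/-- The closure properties of the list. -/
def closed (q n : ℕ) (els gens : List (List (List ℕ))) : Bool :=
  (els.all fun m => decide (m.length = n) &&
    m.all fun c => decide (c.length = n) && c.all fun x => decide (x < q)) &&
  (els.all fun m => gens.all fun g => els.contains (mul q n g m)) &&
  (gens.all fun g => els.contains g) &&
  ((List.range q).all fun k => decide (k = 0) || els.contains ((one n).map (smulv q k)))

/-- Coordinates for a group reached from the scalars by the generators. -/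
noncomputable def Coord.build {E : Subgroup (AutGp V)} (gens : List (List (List ℕ)))
    (hgen : ∀ g ∈ gens, ∃ e ∈ E, C₀.Mat e g)
    (hscal : ∀ k, 0 < k → k < q → ∃ z ∈ E, ∀ v : V, z ⋅ v = k • v)
    (hclosed : closed q n (products q n gens.reverse) gens = true)
    (hind : ∀ P : AutGp V → Prop,
      (∀ γ ∈ E, (∃ g ∈ gens, C₀.Mat γ g) → ∀ x, P x → P (γ * x)) →
      (∀ z, ∀ k, 0 < k → k < q → (∀ v : V, z ⋅ v = k • v) → P z) → ∀ e ∈ E, P e) :
    Coord q n E (products q n gens.reverse) gens where
  bs := C₀.bs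
  len := C₀.len
  hq := C₀.hq
  one_lt := C₀.one_lt
  inj := C₀.inj
  span := C₀.span
  one_mat := C₀.one_mat
  one_norm := C₀.one_norm
  mem := by
    simp only [closed, Bool.and_eq_true, List.all_eq_true, List.contains_iff_mem,
      Bool.or_eq_true, decide_eq_true_eq] at hclosed
    obtain ⟨⟨⟨-, hmul⟩, -⟩, hsc⟩ := hclosed
    intro e he
    obtain ⟨m, hm, hM⟩ : ∃ m ∈ products q n gens.reverse, C₀.Mat e m := by
      refine hind (fun x => ∃ m ∈ products q n gens.reverse, C₀.Mat x m) ?_ ?_ e he
      · rintro γ - ⟨g, hg, hG⟩ x ⟨m, hm, hM⟩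
        exact ⟨_, hmul m hm g hg, C₀.mat_mul hG hM⟩
      · intro z k hk hkq hz
        refine ⟨_, (hsc k (List.mem_range.2 hkq)).resolve_left hk.ne', ?_⟩
        have h := C₀.mat_smul C₀.mat_one hz
        rwa [mul_one] at h
    exact ⟨m, hm, hM.2⟩
  real := by
    intro m hm
    obtain ⟨A, hA, hmA⟩ := List.mem_flatMap.1 hm
    obtain ⟨e, he, hE⟩ := C₀.real_words gens.reverse
      (fun g hg => hgen g (List.mem_reverse.1 hg)) A hA
    obtain ⟨k, hk, rfl⟩ := List.mem_map.1 hmA
    rw [List.mem_range] at hk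
    obtain ⟨z, hz, hzv⟩ := hscal (k + 1) (by omega) (by omega)
    exact ⟨z * e, E.mul_mem hz he, (C₀.mat_smul hE hzv).2⟩
  norm_els := by
    simp only [closed, Bool.and_eq_true, List.all_eq_true, decide_eq_true_eq] at hclosed
    exact fun m hm => ⟨(hclosed.1.1.1 m hm).1, fun c hc =>
      ⟨((hclosed.1.1.1 m hm).2 c hc).1, fun x hx => ((hclosed.1.1.1 m hm).2 c hc).2 x hx⟩⟩
  gens_els := by
    simp only [closed, Bool.and_eq_true, List.all_eq_true, List.contains_iff_mem] at hclosed
    exact hclosed.1.2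

end CfsgLib.BaseTwo73.Cert
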