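import Mathlib.Data.List.Basic
import Mathlib.Data.Nat.Basic

/-!
# Bases of two vectors: a search in the normalizer of a small group of symplectic type

Matrices are lists of columns; entries are natural numbers below the modulus.
-/

set_option autoImplicit false

namespace CfsgLib.BaseTwo73.Cert

/-- A multiple of the first vector added to the second. -/
def axpy (q c : ℕ) : List ℕ → List ℕ → List ℕ :=
  List.zipWith fun x a => (c * x + a) % q

/-- The combination of the columns with the given coefficients. -/
def comb (q n : ℕ) : List (List ℕ) → List ℕ → List ℕ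
  | col :: cs, c :: v => if c = 0 then comb q n cs v else axpy q c col (comb q n cs v)
  | _, _ => List.replicate n 0

/-- The product of two matrices. -/
def mul (q n : ℕ) (A B : List (List ℕ)) : List (List ℕ) := B.map (comb q n A)

/-- The identity matrix. -/
def one (n : ℕ) : List (List ℕ) :=
  (List.range n).map fun j => (List.range n).map fun i => if i = j then 1 else 0

/-- Powers. -/
def pow (q n : ℕ) (A : List (List ℕ)) : ℕ → List (List ℕ)
  | 0 => one n
  | k + 1 => mul q n A (pow q n A k)

/-- All ordered products of the generators. -/
def words (q n : ℕ) : List (List (List ℕ)) → List (List (List ℕ))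
  | [] => [one n]
  | g :: gs => words q n gs ++ (words q n gs).map fun A => mul q n g A

/-- All scalar multiples of a matrix. -/
def scalars (q : ℕ) (A : List (List ℕ)) : List (List (List ℕ)) :=
  (List.range (q - 1)).map fun s => A.map (List.map fun x => (s + 1) * x % q)

/-- All ordered products of the generators times a scalar. -/
def products (q n : ℕ) (gs : List (List (List ℕ))) : List (List (List ℕ)) :=
  (words q n gs).flatMap (scalars q)

/-- A multiple of a vector. -/
def smulv (q c : ℕ) (v : List ℕ) : List ℕ := v.map fun x => c * x % q

/-- Data of one search: the group, a generic vector `w`, a vector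
`u = c₀ w + c₁ e₁ w + c₂ e₂ w`, further elements completing a basis, and the coordinates of the
standard basis in it. -/
structure Job where
  q : ℕ
  n : ℕ
  els : List (List (List ℕ))
  gens : List (List (List ℕ))
  w : List ℕ
  u : List ℕ
  c₀ : ℕ
  c₁ : ℕ
  c₂ : ℕ
  e₁ : List (List ℕ)
  e₂ : List (List ℕ)
  third : Option (List (List ℕ))
  P : List (List ℕ)

/-- The translates of `w` spanning the space. -/
def span (q n : ℕ) (w : List ℕ) (f₁ f₂ : List (List ℕ)) (f₃ : Option (List (List ℕ))) :
    List (List ℕ) :=
  let v₁ := comb q n f₁ w
  let b := [w, v₁, comb q n f₂ w, comb q n f₂ v₁]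
  match f₃ with
  | none => b
  | some f => b ++ b.map (comb q n f)

/-- The first image is chosen with the relations of `e₁`. -/
def Job.ok₁ (J : Job) (f : List (List ℕ)) : Bool :=
  (List.range J.q).any fun s =>
    decide (comb J.q J.n J.e₁ (comb J.q J.n J.e₁ J.w) = smulv J.q s J.w) &&
      decide (comb J.q J.n f (comb J.q J.n f J.w) = smulv J.q s J.w)

/-- The second image is chosen so that `u` is fixed. -/
def Job.ok₂ (J : Job) (f₁ f₂ : List (List ℕ)) : Bool :=
  decide (axpy J.q J.c₁ (comb J.q J.n f₁ J.w) (axpy J.q J.c₂ (comb J.q J.n f₂ J.w)
    (smulv J.q J.c₀ J.w)) = J.u)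

/-- The third image is chosen with the relations of the third element. -/
def Job.ok₃ (J : Job) (f₁ : List (List ℕ)) (e f : List (List ℕ)) : Bool :=
  (List.range J.q).any fun s =>
    decide (comb J.q J.n e (comb J.q J.n J.e₁ J.w) =
        smulv J.q s (comb J.q J.n J.e₁ (comb J.q J.n e J.w))) &&
      decide (comb J.q J.n f (comb J.q J.n f₁ J.w) =
        smulv J.q s (comb J.q J.n f₁ (comb J.q J.n f J.w)))

/-- The matrices of the candidates for an element fixing `w` and `u`. -/
def Job.cands (J : Job) : List (List (List ℕ)) :=
  (J.els.filter J.ok₁).flatMap fun f₁ =>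
    (J.els.filter (J.ok₂ f₁)).flatMap fun f₂ =>
      match J.third with
      | none => [J.P.map (comb J.q J.n (span J.q J.n J.w f₁ f₂ none))]
      | some e => (J.els.filter (J.ok₃ f₁ e)).map fun f₃ =>
          J.P.map (comb J.q J.n (span J.q J.n J.w f₁ f₂ (some f₃)))

/-- A candidate must move each generator into the group and fix `w` and `u`. -/
def Job.good (J : Job) (A : List (List ℕ)) : Bool :=
  decide (comb J.q J.n A J.w = J.w) && decide (comb J.q J.n A J.u = J.u) &&
    J.gens.all fun g => J.els.any fun m => decide (mul J.q J.n A g = mul J.q J.n m A)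

/-- The survivors, without repetition of the search. -/
def Job.result (J : Job) : List (List (List ℕ)) :=
  (J.cands.filter J.good).filter fun A => decide (A ≠ one J.n)

/-- A power generates a subgroup of order three. -/
def three (q n : ℕ) (A : List (List ℕ)) : Bool :=
  (List.range 13).any fun j =>
    decide (pow q n A j ≠ one n) && decide (pow q n A (3 * j) = one n)

/-- The vector is fixed by the identity only. -/
def generic (q n : ℕ) (els : List (List (List ℕ))) (w : List ℕ) : Bool :=
  els.all fun m => decide (comb q n m w ≠ w) || decide (m = one n)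

/-- The vector lies outside the orbit. -/
def outside (q n : ℕ) (els : List (List (List ℕ))) (w u : List ℕ) : Bool :=
  els.all (fun m => decide (comb q n m w ≠ u)) && decide (u ≠ List.replicate n 0)

end CfsgLib.BaseTwo73.Cert
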