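import Cfsg.Agent.RegOrbit.Reduction
import Mathlib.RingTheory.RootsOfUnity.PrimitiveRoots
import Mathlib.Algebra.Field.GeomSum
import Mathlib.LinearAlgebra.FiniteDimensional.Basic
import Mathlib.Tactic

/-!
# Bases of two vectors in coprime actions: definitions
-/

set_option autoImplicit false
set_option linter.style.haveILetI false

namespace CfsgLib.BaseTwo73

open CfsgLib.RegOrbit

universe v u

variable {V : Type v} [AddCommGroup V]

local notation:80 a " ⋅ " v:81 => ((a : AutGp _) : AddMonoid.End _) v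

/-- A group normalizing a group of symplectic type that contains all the scalars. -/
structure Sys (K : Type u) [Field K] [Module K V] (G E : Subgroup (AutGp V)) : Prop where
  le : E ≤ G
  norm : ∀ a ∈ G, ∀ e ∈ E, a * e * a⁻¹ ∈ E
  cop : (Nat.card G).Coprime (Nat.card V)
  semi : ∀ a ∈ G, ∀ t : K, ∃ t' : K, ∀ v : V, a ⋅ (t • v) = t' • a ⋅ v
  lin : ∀ e ∈ E, ∀ (t : K) (v : V), e ⋅ (t • v) = t • e ⋅ v
  scal : ∀ t : K, t ≠ 0 → ∃ z ∈ E, ∀ v : V, z ⋅ v = t • v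
  comm : ∀ x ∈ E, ∀ y ∈ E, ∃ t : K, ∀ v : V, x ⋅ (y ⋅ v) = t • y ⋅ (x ⋅ v)
  rad : ∀ x ∈ E, (∀ y ∈ E, x * y = y * x) → ∃ t : K, ∀ v : V, x ⋅ v = t • v

/-- The two vectors are fixed together by the identity only. -/
def Pair (G : Subgroup (AutGp V)) (x y : V) : Prop :=
  ∀ a ∈ G, a ⋅ x = x → a ⋅ y = y → a = 1

/-- A vector fixed by no element of the group but the identity. -/
def Gen (E : Subgroup (AutGp V)) (x : V) : Prop :=
  ∀ e ∈ E, e ⋅ x = x → e = 1

/-- A nonzero vector outside the orbit of the first one. -/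
def Out (E : Subgroup (AutGp V)) (x y : V) : Prop :=
  y ≠ 0 ∧ ∀ e ∈ E, e ⋅ x ≠ y

/-- The induction hypothesis: small coprime solvable groups have bases of two vectors. -/
def CopBelow (N : ℕ) : Prop :=
  ∀ (W : Type v) (_ : AddCommGroup W) (_ : Finite W) (B : Subgroup (AutGp W)),
    Nat.card W < N → Group.IsSolvable B → (Nat.card B).Coprime (Nat.card W) → RegOrbit.Base B

theorem inj' (a : AutGp V) : Function.Injective ((a : AddMonoid.End V) : V → V) := fun x y h => by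
  rw [← inv_apply' a x, h, inv_apply']

theorem map_ne_zero' (a : AutGp V) {x : V} (hx : x ≠ 0) : a ⋅ x ≠ 0 := fun h =>
  hx (inj' a (h.trans (map_zero _).symm))

theorem ext' {a b : AutGp V} (h : ∀ v : V, a ⋅ v = b ⋅ v) : a = b :=
  Units.ext (AddMonoidHom.ext h)

theorem mul_comm_iff {x y : AutGp V} : x * y = y * x ↔ ∀ v : V, x ⋅ (y ⋅ v) = y ⋅ (x ⋅ v) :=
  ⟨fun h v => by rw [← mul_apply', h, mul_apply'], fun h => ext' h⟩

theorem Pair.mono {G H : Subgroup (AutGp V)} {x y : V} (h : Pair G x y) (hHG : H ≤ G) :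
    Pair H x y := fun a ha => h a (hHG ha)

theorem Pair.base {G : Subgroup (AutGp V)} {x y : V} (h : Pair G x y) : RegOrbit.Base G :=
  ⟨x, y, h⟩

theorem Pair.ne_zero_right {G : Subgroup (AutGp V)} {x y : V} (h : Pair G x y) (hx : x ≠ 0) :
    ∃ y' : V, y' ≠ 0 ∧ Pair G x y' := by
  by_cases hy : y = 0
  · exact ⟨x, hx, fun a ha h1 _ => h a ha h1 (by rw [hy, map_zero])⟩
  · exact ⟨y, hy, h⟩

theorem Pair.neg {G : Subgroup (AutGp V)} {x y : V} (h : Pair G x y) : Pair G x (-y) :=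
  fun a ha h1 h2 => h a ha h1 (by rw [map_neg] at h2; exact neg_injective h2)

/-- A base can be moved so that its first vector is not zero. -/
theorem exists_pair_ne_zero [Nontrivial V] {G : Subgroup (AutGp V)} (h : RegOrbit.Base G) :
    ∃ x y : V, x ≠ 0 ∧ Pair G x y := by
  obtain ⟨x, y, h⟩ := h
  by_cases hx : x = 0
  · by_cases hy : y = 0
    · obtain ⟨z, hz⟩ := exists_ne (0 : V)
      exact ⟨z, z, hz, fun a ha _ _ => h a ha (by rw [hx, map_zero]) (by rw [hy, map_zero])⟩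
    · exact ⟨y, y, hy, fun a ha h1 _ => h a ha (by rw [hx, map_zero]) h1⟩
  · exact ⟨x, y, hx, h⟩

variable {K : Type u} [Field K] [Module K V] {G E : Subgroup (AutGp V)}

theorem Sys.lin_of_fix (s : Sys K G E) {a : AutGp V} (ha : a ∈ G) {U : Submodule K V} {u : V}
    (hu : u ∈ U) (hu0 : u ≠ 0) (hfix : ∀ c ∈ U, a ⋅ c = c) (t : K) (v : V) :
    a ⋅ (t • v) = t • a ⋅ v := by
  obtain ⟨t', ht⟩ := s.semi a ha t
  have h := ht u
  rw [hfix _ (U.smul_mem t hu), hfix u hu] at h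
  rw [ht, smul_left_injective K hu0 h]

theorem Sys.comm_iff (s : Sys K G E) [Nontrivial V] {x y : AutGp V} (_hx : x ∈ E) (_hy : y ∈ E)
    {t : K} (ht : ∀ v : V, x ⋅ (y ⋅ v) = t • y ⋅ (x ⋅ v)) : x * y = y * x ↔ t = 1 := by
  rw [mul_comm_iff]
  refine ⟨fun h => ?_, fun h v => by rw [ht, h, one_smul]⟩
  obtain ⟨v, hv⟩ := exists_ne (0 : V)
  have h1 := ht v
  rw [h v] at h1
  have h2 : y ⋅ (x ⋅ v) ≠ 0 := map_ne_zero' y (map_ne_zero' x hv)
  exact smul_left_injective K h2 (h1.symm.trans (one_smul K _).symm)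

theorem Sys.smul_mem' (s : Sys K G E) {t : K} (ht : t ≠ 0) {e : AutGp V} (he : e ∈ E) :
    ∃ f ∈ E, ∀ v : V, f ⋅ v = t • e ⋅ v := by
  obtain ⟨z, hz, hzv⟩ := s.scal t ht
  exact ⟨z * e, E.mul_mem hz he, fun v => by rw [mul_apply', hzv]⟩

theorem Sys.inv_lin (s : Sys K G E) {e : AutGp V} (he : e ∈ E) (t : K) (v : V) :
    e⁻¹ ⋅ (t • v) = t • e⁻¹ ⋅ v :=
  s.lin _ (E.inv_mem he) t v

/-- Commutation with a power. -/
theorem Sys.pow_swap (s : Sys K G E) {x y : AutGp V} (_hx : x ∈ E) (hy : y ∈ E) {t : K}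
    (ht : ∀ v : V, x ⋅ (y ⋅ v) = t • y ⋅ (x ⋅ v)) (k : ℕ) (v : V) :
    x ⋅ ((y ^ k) ⋅ v) = t ^ k • (y ^ k) ⋅ (x ⋅ v) := by
  induction k with
  | zero => rw [pow_zero, pow_zero, one_smul]; rfl
  | succ k ih => rw [pow_succ', mul_apply', ht, ih, s.lin y hy, smul_smul, pow_succ', mul_apply']

/-- Commutation with a power on the left. -/
theorem Sys.pow_swap' (s : Sys K G E) {x y : AutGp V} (hx : x ∈ E) (_hy : y ∈ E) {t : K}
    (ht : ∀ v : V, x ⋅ (y ⋅ v) = t • y ⋅ (x ⋅ v)) (k : ℕ) (v : V) :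
    (x ^ k) ⋅ (y ⋅ v) = t ^ k • y ⋅ ((x ^ k) ⋅ v) := by
  induction k with
  | zero => rw [pow_zero, pow_zero, one_smul]; rfl
  | succ k ih =>
    rw [pow_succ', mul_apply', ih, s.lin x hx, ht, smul_smul, mul_apply', pow_succ]

end CfsgLib.BaseTwo73
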