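import Cfsg.Agent.BaseTwo73.Cert
import Cfsg.Agent.BaseTwo73.Defs

/-!
# The meaning of the search
-/

set_option autoImplicit false
set_option linter.style.haveILetI false

namespace CfsgLib.BaseTwo73.Cert

open CfsgLib.RegOrbit

universe v

variable {V : Type v} [AddCommGroup V]

local notation:80 a " ⋅ " v:81 => ((a : AutGp _) : AddMonoid.End _) v

/-- The vector with given natural coordinates. -/
def lsum : List ℕ → List V → V
  | c :: cs, x :: xs => c • x + lsum cs xs
  | _, _ => 0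

/-- Entries below the modulus, of the right length. -/
def Norm (q n : ℕ) (c : List ℕ) : Prop := c.length = n ∧ ∀ x ∈ c, x < q

/-- All columns are normal. -/
def NormMat (q n : ℕ) (A : List (List ℕ)) : Prop := A.length = n ∧ ∀ c ∈ A, Norm q n c

theorem lsum_map (f : V →+ V) : ∀ (c : List ℕ) (x : List V), f (lsum c x) = lsum c (x.map f)
  | [], _ => map_zero f
  | _ :: _, [] => map_zero f
  | c :: cs, x :: xs => by
    rw [lsum, List.map_cons, lsum, map_add, map_nsmul, lsum_map f cs xs]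

theorem lsum_map' (a : AutGp V) (c : List ℕ) (x : List V) :
    a ⋅ lsum c x = lsum c (x.map fun v => a ⋅ v) :=
  lsum_map (a : AddMonoid.End V) c x

theorem lsum_replicate : ∀ (n : ℕ) (x : List V), lsum (List.replicate n 0) x = 0
  | 0, _ => rfl
  | _ + 1, [] => rfl
  | n + 1, x :: xs => by rw [List.replicate_succ, lsum, lsum_replicate n xs, zero_nsmul, add_zero]

theorem nsmul_mod {q : ℕ} {v : V} (hv : q • v = 0) (k : ℕ) : (k % q) • v = k • v := by
  conv_rhs => rw [← Nat.mod_add_div k q, add_nsmul, mul_comm, mul_nsmul', hv, nsmul_zero, add_zero]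

theorem lsum_axpy {q : ℕ} (hq : ∀ v : V, q • v = 0) (k : ℕ) : ∀ (x a : List ℕ) (b : List V),
    x.length = b.length → a.length = b.length →
      lsum (axpy q k x a) b = k • lsum x b + lsum a b
  | [], [], [], _, _ => by simp [axpy, lsum]
  | [], _ :: _, b, h1, h2 => by cases b <;> simp_all
  | _ :: _, [], b, h1, h2 => by cases b <;> simp_all
  | x :: xs, a :: as, b :: bs, h1, h2 => by
    have h := lsum_axpy hq k xs as bs (by simpa using h1) (by simpa using h2)
    simp only [axpy] at h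
    simp only [axpy, List.zipWith_cons_cons, lsum, h, nsmul_mod (hq b), add_nsmul, mul_nsmul',
      nsmul_add]
    abel

theorem norm_replicate {q : ℕ} (hq : 1 < q) (n : ℕ) : Norm q n (List.replicate n 0) :=
  ⟨List.length_replicate, fun x hx => by rw [List.eq_of_mem_replicate hx]; omega⟩

theorem mem_axpy_lt {q : ℕ} (hq : 1 < q) (k : ℕ) : ∀ (x a : List ℕ), ∀ y ∈ axpy q k x a, y < q
  | [], _, y, h => by simp [axpy] at h
  | _ :: _, [], y, h => by simp [axpy] at h
  | x :: xs, a :: as, y, h => by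
    simp only [axpy, List.zipWith_cons_cons, List.mem_cons] at h
    rcases h with rfl | h
    · exact Nat.mod_lt _ (by omega)
    · exact mem_axpy_lt hq k xs as y (by simpa [axpy] using h)

theorem norm_axpy {q n : ℕ} (hq : 1 < q) (k : ℕ) {x a : List ℕ} (hx : x.length = n)
    (ha : a.length = n) : Norm q n (axpy q k x a) :=
  ⟨by simp [axpy, hx, ha], mem_axpy_lt hq k x a⟩

theorem norm_smulv {q n : ℕ} (hq : 1 < q) (k : ℕ) {x : List ℕ} (hx : Norm q n x) :
    Norm q n (smulv q k x) :=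
  ⟨by simp [smulv, hx.1], fun y hy => by
    simp only [smulv, List.mem_map] at hy
    obtain ⟨z, -, rfl⟩ := hy
    exact Nat.mod_lt _ (by omega)⟩

theorem lsum_smulv {q : ℕ} (hq : ∀ v : V, q • v = 0) (k : ℕ) : ∀ (x : List ℕ) (b : List V),
    lsum (smulv q k x) b = k • lsum x b
  | [], _ => by simp [smulv, lsum]
  | _ :: _, [] => by simp [smulv, lsum]
  | x :: xs, b :: bs => by
    have h := lsum_smulv hq k xs bs
    simp only [smulv] at h
    simp only [smulv, List.map_cons, lsum, h, nsmul_mod (hq b), mul_nsmul', nsmul_add]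

theorem norm_comb {q n : ℕ} (hq : 1 < q) : ∀ (A : List (List ℕ)) (c : List ℕ),
    (∀ col ∈ A, Norm q n col) → Norm q n (comb q n A c)
  | [], c, _ => by cases c <;> exact norm_replicate hq n
  | _ :: _, [], _ => norm_replicate hq n
  | col :: cs, k :: ks, h => by
    have h1 := norm_comb hq cs ks fun x hx => h x (List.mem_cons_of_mem _ hx)
    rw [comb]
    split
    · exact h1
    · exact norm_axpy hq k (h col List.mem_cons_self).1 h1.1

theorem lsum_comb {q n : ℕ} (hq1 : 1 < q) (hq : ∀ v : V, q • v = 0) {b : List V}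
    (hb : b.length = n) : ∀ (A : List (List ℕ)) (c : List ℕ), (∀ col ∈ A, Norm q n col) →
      lsum (comb q n A c) b = lsum c (A.map fun col => lsum col b)
  | [], c, _ => by cases c <;> simp [comb, lsum, lsum_replicate]
  | _ :: _, [], _ => by simp [comb, lsum, lsum_replicate]
  | col :: cs, k :: ks, h => by
    have hcs : ∀ x ∈ cs, Norm q n x := fun x hx => h x (List.mem_cons_of_mem _ hx)
    have ih := lsum_comb hq1 hq hb cs ks hcs
    rw [comb, List.map_cons, lsum]
    split
    · rename_i hk; rw [hk, zero_nsmul, zero_add, ih]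
    · rw [lsum_axpy hq k _ _ b ((h col List.mem_cons_self).1.trans hb.symm)
        ((norm_comb hq1 cs ks hcs).1.trans hb.symm), ih]

/-- Coordinates in which the group has the listed matrices. -/
structure Coord (q n : ℕ) (E : Subgroup (AutGp V)) (els gens : List (List (List ℕ))) where
  bs : List V
  len : bs.length = n
  hq : ∀ v : V, q • v = 0
  one_lt : 1 < q
  inj : ∀ c c', Norm q n c → Norm q n c' → lsum c bs = lsum c' bs → c = c'
  span : ∀ v : V, ∃ c, Norm q n c ∧ lsum c bs = v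
  one_mat : (one n).map (fun col => lsum col bs) = bs
  one_norm : NormMat q n (one n)
  mem : ∀ e ∈ E, ∃ m ∈ els, bs.map (fun v => e ⋅ v) = m.map fun col => lsum col bs
  real : ∀ m ∈ els, ∃ e ∈ E, bs.map (fun v => e ⋅ v) = m.map fun col => lsum col bs
  norm_els : ∀ m ∈ els, NormMat q n m
  gens_els : ∀ g ∈ gens, g ∈ els

variable {q n : ℕ} {E : Subgroup (AutGp V)} {els gens : List (List (List ℕ))}
  (C : Coord q n E els gens)

include C

/-- The vector of a column. -/
def Coord.vec (c : List ℕ) : V := lsum c C.bs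

/-- The matrix of an automorphism. -/
def Coord.Mat (a : AutGp V) (A : List (List ℕ)) : Prop :=
  NormMat q n A ∧ C.bs.map (fun v => a ⋅ v) = A.map C.vec

theorem Coord.apply_vec {a : AutGp V} {A : List (List ℕ)} (hA : C.Mat a A) (c : List ℕ) :
    a ⋅ C.vec c = C.vec (comb q n A c) := by
  rw [Coord.vec, lsum_map', Coord.vec, lsum_comb C.one_lt C.hq C.len _ _ hA.1.2]
  exact congrArg (lsum c) hA.2

theorem Coord.map_vec_inj : ∀ {A B : List (List ℕ)}, (∀ c ∈ A, Norm q n c) →
    (∀ c ∈ B, Norm q n c) → A.map C.vec = B.map C.vec → A = B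
  | [], [], _, _, _ => rfl
  | [], _ :: _, _, _, h => by simp at h
  | _ :: _, [], _, _, h => by simp at h
  | a :: as, b :: bs, ha, hb, h => by
    simp only [List.map_cons, List.cons.injEq] at h
    rw [C.inj a b (ha a List.mem_cons_self) (hb b List.mem_cons_self) h.1,
      Coord.map_vec_inj (fun x hx => ha x (List.mem_cons_of_mem _ hx))
        (fun x hx => hb x (List.mem_cons_of_mem _ hx)) h.2]

theorem Coord.mat_unique {a : AutGp V} {A B : List (List ℕ)} (hA : C.Mat a A) (hB : C.Mat a B) :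
    A = B :=
  C.map_vec_inj hA.1.2 hB.1.2 (hA.2.symm.trans hB.2)

theorem Coord.exists_mat (a : AutGp V) : ∃ A, C.Mat a A := by
  choose f hf1 hf2 using fun v : V => C.span (a ⋅ v)
  refine ⟨C.bs.map f, ⟨by rw [List.length_map, C.len], fun c hc => ?_⟩, ?_⟩
  · obtain ⟨v, -, rfl⟩ := List.mem_map.1 hc; exact hf1 v
  · rw [List.map_map]
    exact List.map_congr_left fun v _ => (hf2 v).symm

theorem Coord.mat_one : C.Mat 1 (one n) := by
  refine ⟨C.one_norm, ?_⟩
  rw [show C.vec = fun col => lsum col C.bs from rfl, C.one_mat]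
  exact List.map_id' _

theorem Coord.mat_mul {a b : AutGp V} {A B : List (List ℕ)} (hA : C.Mat a A) (hB : C.Mat b B) :
    C.Mat (a * b) (mul q n A B) := by
  refine ⟨⟨by rw [mul, List.length_map]; exact hB.1.1, fun c hc => ?_⟩, ?_⟩
  · obtain ⟨x, -, rfl⟩ := List.mem_map.1 hc; exact norm_comb C.one_lt _ _ hA.1.2
  · calc C.bs.map (fun v => (a * b) ⋅ v) = (C.bs.map fun v => b ⋅ v).map fun v => a ⋅ v := by
          rw [List.map_map]; rfl
      _ = B.map fun c => a ⋅ C.vec c := by rw [hB.2, List.map_map]; rfl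
      _ = (mul q n A B).map C.vec := by
          rw [mul, List.map_map]
          exact List.map_congr_left fun c _ => C.apply_vec hA c

theorem Coord.mat_pow {a : AutGp V} {A : List (List ℕ)} (hA : C.Mat a A) :
    ∀ k, C.Mat (a ^ k) (pow q n A k)
  | 0 => by rw [pow_zero]; exact C.mat_one
  | k + 1 => by rw [pow_succ']; exact C.mat_mul hA (Coord.mat_pow hA k)

theorem Coord.eq_one {a : AutGp V} (hA : C.Mat a (one n)) : a = 1 :=
  eq_one_of_forall fun v => by
    obtain ⟨c, -, rfl⟩ := C.span v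
    rw [lsum_map']
    exact congrArg (lsum c) (hA.2.trans C.one_mat)

theorem Coord.mat_of_mem {e : AutGp V} (he : e ∈ E) : ∃ m ∈ els, C.Mat e m := by
  obtain ⟨m, hm, h⟩ := C.mem e he
  exact ⟨m, hm, C.norm_els m hm, h⟩

theorem Coord.mat_real {m : List (List ℕ)} (hm : m ∈ els) : ∃ e ∈ E, C.Mat e m := by
  obtain ⟨e, he, h⟩ := C.real m hm
  exact ⟨e, he, C.norm_els m hm, h⟩

/-- The listed vector is fixed by the identity only. -/
theorem Coord.gen {w : List ℕ} (hw : Norm q n w) (h : generic q n els w = true) :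
    Gen E (C.vec w) := by
  intro e he hew
  obtain ⟨m, hm, hM⟩ := C.mat_of_mem he
  have h1 := List.all_eq_true.1 h m hm
  simp only [Bool.or_eq_true, decide_eq_true_eq] at h1
  rcases h1 with h1 | h1
  · exact absurd (C.inj _ _ (norm_comb C.one_lt _ _ hM.1.2) hw (by
      rw [← Coord.vec, ← C.apply_vec hM, hew]; rfl)) h1
  · exact C.eq_one (h1 ▸ hM)

/-- The second listed vector is outside the orbit of the first. -/
theorem Coord.out {w u : List ℕ} (hu : Norm q n u) (h : outside q n els w u = true) :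
    Out E (C.vec w) (C.vec u) := by
  simp only [outside, Bool.and_eq_true, List.all_eq_true, decide_eq_true_eq] at h
  refine ⟨fun h0 => h.2 (C.inj _ _ hu (norm_replicate C.one_lt n) ?_), fun e he hew => ?_⟩
  · rw [lsum_replicate]; exact h0
  · obtain ⟨m, hm, hM⟩ := C.mat_of_mem he
    exact h.1 m hm (C.inj _ _ (norm_comb C.one_lt _ _ hM.1.2) hu (by
      rw [← Coord.vec, ← C.apply_vec hM, hew]; rfl))

omit C in
/-- The standing conditions on a job. -/
def Job.valid (J : Job) : Bool :=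
  decide (J.w.length = J.n) && J.w.all (fun x => decide (x < J.q)) &&
  decide (J.u.length = J.n) && J.u.all (fun x => decide (x < J.q)) &&
  J.els.contains J.e₁ && J.els.contains J.e₂ && J.ok₁ J.e₁ && J.ok₂ J.e₁ J.e₂ &&
  (match J.third with
    | none => true
    | some e => J.els.contains e && J.ok₃ J.e₁ e e) &&
  decide (J.P.map (comb J.q J.n (Cert.span J.q J.n J.w J.e₁ J.e₂ J.third)) = one J.n)

/-- A nontrivial element fixing both vectors of a job is found by the search. -/
theorem Coord.search {J : Job} (hJq : J.q = q) (hJn : J.n = n) (hJe : J.els = els)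
    (hJg : J.gens = gens) (hv : J.valid = true) {a : AutGp V} (hn : ∀ e ∈ E, a * e * a⁻¹ ∈ E)
    (h1 : a ⋅ C.vec J.w = C.vec J.w) (h2 : a ⋅ C.vec J.u = C.vec J.u) (ha : a ≠ 1) :
    ∃ A ∈ J.result, C.Mat a A := by
  obtain ⟨q', n', els', gens', w, u, c₀, c₁, c₂, e₁, e₂, third, P⟩ := J
  subst hJq hJn hJe hJg
  simp only [Job.valid, Bool.and_eq_true, decide_eq_true_eq, List.all_eq_true,
    List.contains_iff_mem] at hv
  obtain ⟨⟨⟨⟨⟨⟨⟨⟨⟨hw1, hw2⟩, hu1⟩, hu2⟩, he₁⟩, he₂⟩, hok₁⟩, hok₂⟩, hthird⟩, hP⟩ := hv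
  have hw : Norm q' n' w := ⟨hw1, hw2⟩
  have hu : Norm q' n' u := ⟨hu1, hu2⟩
  obtain ⟨A, hA⟩ := C.exists_mat a
  have hlt := C.one_lt
  have hAn := hA.1.2
  have hnorm : ∀ m ∈ els', ∀ c, Norm q' n' (comb q' n' m c) := fun m hm c =>
    norm_comb hlt _ _ (C.norm_els m hm).2
  have hApp : ∀ c, C.vec (comb q' n' A c) = a ⋅ C.vec c := fun c => (C.apply_vec hA c).symm
  have hAw : comb q' n' A w = w :=
    C.inj _ _ (norm_comb hlt _ _ hAn) hw ((hApp w).trans h1)
  have hAu : comb q' n' A u = u :=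
    C.inj _ _ (norm_comb hlt _ _ hAn) hu ((hApp u).trans h2)
  -- moving the group elements
  have hconj : ∀ m ∈ els', ∃ f ∈ els', mul q' n' A m = mul q' n' f A ∧
      ∀ c, comb q' n' A (comb q' n' m c) = comb q' n' f (comb q' n' A c) := by
    intro m hm
    obtain ⟨e, he, hM⟩ := C.mat_real hm
    obtain ⟨f, hf, hF⟩ := C.mat_of_mem (hn e he)
    refine ⟨f, hf, C.mat_unique (C.mat_mul hA hM) (by
      have h := C.mat_mul hF hA
      rwa [show a * e * a⁻¹ * a = a * e by group] at h), fun c => ?_⟩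
    refine C.inj _ _ (norm_comb hlt _ _ hAn) (hnorm f hf _) ?_
    show C.vec _ = C.vec _
    rw [hApp, ← C.apply_vec hM, ← C.apply_vec hF, hApp, ← mul_apply', ← mul_apply']
    congr 2
    group
  have hsm : ∀ k c, Norm q' n' c →
      comb q' n' A (smulv q' k c) = smulv q' k (comb q' n' A c) := by
    intro k c hc
    refine C.inj _ _ (norm_comb hlt _ _ hAn) (norm_smulv hlt k (norm_comb hlt _ _ hAn)) ?_
    show C.vec _ = lsum _ C.bs
    rw [hApp, Coord.vec, lsum_smulv C.hq, map_nsmul, lsum_smulv C.hq]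
    exact congrArg _ (hApp c).symm
  obtain ⟨f₁, hf₁, -, hf₁'⟩ := hconj e₁ he₁
  obtain ⟨f₂, hf₂, -, hf₂'⟩ := hconj e₂ he₂
  have hok₁' : Job.ok₁ ⟨q', n', els', gens', w, u, c₀, c₁, c₂, e₁, e₂, third, P⟩ f₁ = true := by
    simp only [Job.ok₁, List.any_eq_true, Bool.and_eq_true, decide_eq_true_eq] at hok₁ ⊢
    obtain ⟨k, hk, h3, -⟩ := hok₁
    refine ⟨k, hk, h3, ?_⟩
    have h4 := congrArg (comb q' n' A) h3
    rwa [hf₁', hf₁', hAw, hsm k w hw, hAw] at h4
  have hok₂' : Job.ok₂ ⟨q', n', els', gens', w, u, c₀, c₁, c₂, e₁, e₂, third, P⟩ f₁ f₂ = true := by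
    simp only [Job.ok₂, decide_eq_true_eq] at hok₂ ⊢
    have h4 := congrArg (comb q' n' A) hok₂
    rw [hAu] at h4
    refine Eq.trans ?_ h4
    have n0 := norm_smulv hlt c₀ hw
    have n2 := norm_axpy hlt c₂ (hnorm e₂ he₂ w).1 n0.1
    refine C.inj _ _ (norm_axpy hlt c₁ (hnorm f₁ hf₁ w).1 (norm_axpy hlt c₂ (hnorm f₂ hf₂ w).1
      n0.1).1) (norm_comb hlt _ _ hAn) ?_
    show _ = C.vec _
    rw [hApp]
    simp only [Coord.vec]
    rw [lsum_axpy C.hq _ _ _ _ ((hnorm f₁ hf₁ w).1.trans C.len.symm)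
        ((norm_axpy hlt c₂ (hnorm f₂ hf₂ w).1 n0.1).1.trans C.len.symm),
      lsum_axpy C.hq _ _ _ _ ((hnorm f₂ hf₂ w).1.trans C.len.symm) (n0.1.trans C.len.symm),
      lsum_axpy C.hq _ _ _ _ ((hnorm e₁ he₁ w).1.trans C.len.symm) (n2.1.trans C.len.symm),
      lsum_axpy C.hq _ _ _ _ ((hnorm e₂ he₂ w).1.trans C.len.symm) (n0.1.trans C.len.symm),
      map_add, map_add, map_nsmul, map_nsmul, lsum_smulv C.hq, map_nsmul]
    change c₁ • C.vec _ + (c₂ • C.vec _ + c₀ • C.vec w) = _
    rw [show a ⋅ lsum w C.bs = C.vec w from h1]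
    have k1 : a ⋅ lsum (comb q' n' e₁ w) C.bs = C.vec (comb q' n' f₁ w) := by
      rw [show a ⋅ lsum (comb q' n' e₁ w) C.bs = _ from (hApp _).symm, hf₁', hAw]
    have k2 : a ⋅ lsum (comb q' n' e₂ w) C.bs = C.vec (comb q' n' f₂ w) := by
      rw [show a ⋅ lsum (comb q' n' e₂ w) C.bs = _ from (hApp _).symm, hf₂', hAw]
    rw [k1, k2]
  have hAone : (one n').map (comb q' n' A) = A :=
    (C.mat_unique (C.mat_mul hA C.mat_one) (by rw [mul_one]; exact hA))
  have hcomb : ∀ (B : List (List ℕ)) (p : List ℕ), (∀ c ∈ B, Norm q' n' c) →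
      comb q' n' A (comb q' n' B p) = comb q' n' (B.map (comb q' n' A)) p := by
    intro B p hB
    have hB' : ∀ c ∈ B.map (comb q' n' A), Norm q' n' c := fun c hc => by
      obtain ⟨x, -, rfl⟩ := List.mem_map.1 hc; exact norm_comb hlt _ _ hAn
    refine C.inj _ _ (norm_comb hlt _ _ hAn) (norm_comb hlt _ _ hB') ?_
    show C.vec _ = lsum _ C.bs
    rw [hApp, Coord.vec, lsum_comb hlt C.hq C.len _ _ hB, lsum_map',
      lsum_comb hlt C.hq C.len _ _ hB', List.map_map, List.map_map]
    exact congrArg (lsum p) (List.map_congr_left fun c _ => (hApp c).symm)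
  have hmemA : ∀ S S' : List (List ℕ), (∀ c ∈ S, Norm q' n' c) → S.map (comb q' n' A) = S' →
      P.map (comb q' n' S) = one n' → P.map (comb q' n' S') = A := by
    intro S S' hS hSS hP'
    conv_rhs => rw [← hAone, ← hP', List.map_map]
    rw [← hSS]
    exact List.map_congr_left fun p _ => (hcomb S p hS).symm
  have hspan0 : ∀ c ∈ Cert.span q' n' w e₁ e₂ none, Norm q' n' c := by
    intro c hc
    simp only [Cert.span, List.mem_cons, List.not_mem_nil, or_false] at hc
    rcases hc with rfl | rfl | rfl | rfl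
    exacts [hw, hnorm _ he₁ _, hnorm _ he₂ _, hnorm _ he₂ _]
  have hspanA : (Cert.span q' n' w e₁ e₂ none).map (comb q' n' A) = Cert.span q' n' w f₁ f₂ none := by
    simp only [Cert.span, List.map_cons, List.map_nil, hf₁', hf₂', hAw]
  refine ⟨A, ?_, hA⟩
  simp only [Job.result, List.mem_filter, decide_eq_true_eq]
  refine ⟨⟨?_, ?_⟩, fun h => ha (C.eq_one (h ▸ hA))⟩
  · simp only [Job.cands, List.mem_flatMap, List.mem_filter]
    refine ⟨f₁, ⟨hf₁, hok₁'⟩, f₂, ⟨hf₂, hok₂'⟩, ?_⟩
    match third, hthird, hP with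
    | none, _, hP =>
      simp only [List.mem_singleton]
      exact (hmemA _ _ hspan0 hspanA hP).symm
    | some e, hthird, hP =>
      simp only [Bool.and_eq_true, List.contains_iff_mem] at hthird
      obtain ⟨he, hok⟩ := hthird
      obtain ⟨f₃, hf₃, -, hf₃'⟩ := hconj e he
      have hok₃' : Job.ok₃ ⟨q', n', els', gens', w, u, c₀, c₁, c₂, e₁, e₂, some e, P⟩ f₁ e f₃
          = true := by
        simp only [Job.ok₃, List.any_eq_true, Bool.and_eq_true, decide_eq_true_eq] at hok ⊢
        obtain ⟨k, hk, h3, -⟩ := hok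
        refine ⟨k, hk, h3, ?_⟩
        have h4 := congrArg (comb q' n' A) h3
        rwa [hf₃', hf₁', hAw, hsm _ _ (hnorm _ he₁ _), hf₁', hf₃', hAw] at h4
      simp only [List.mem_map, List.mem_filter]
      refine ⟨f₃, ⟨hf₃, hok₃'⟩, hmemA _ _ ?_ ?_ hP⟩
      · intro c hc
        have hc' : c ∈ Cert.span q' n' w e₁ e₂ none ∨
            c ∈ (Cert.span q' n' w e₁ e₂ none).map (comb q' n' e) :=
          List.mem_append.1 hc
        rcases hc' with hc' | hc'
        · exact hspan0 c hc'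
        · obtain ⟨x, -, rfl⟩ := List.mem_map.1 hc'; exact hnorm _ he _
      · show (Cert.span q' n' w e₁ e₂ none ++ (Cert.span q' n' w e₁ e₂ none).map (comb q' n' e)).map
          (comb q' n' A) = Cert.span q' n' w f₁ f₂ none ++
            (Cert.span q' n' w f₁ f₂ none).map (comb q' n' f₃)
        rw [List.map_append, hspanA, List.map_map, ← hspanA, List.map_map]
        exact congrArg _ (List.map_congr_left fun c _ => hf₃' c)
  · simp only [Job.good, Bool.and_eq_true, decide_eq_true_eq, List.all_eq_true, List.any_eq_true]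
    refine ⟨⟨hAw, hAu⟩, fun g hg => ?_⟩
    obtain ⟨f, hf, hmul, -⟩ := hconj g (C.gens_els g hg)
    exact ⟨f, hf, hmul⟩

/-- A group without elements of order three contains no matrix of order three. -/
theorem Coord.not_three {G : Subgroup (AutGp V)} [Finite V] (h3 : ¬ 3 ∣ Nat.card G)
    {x : AutGp V} (hx : x ∈ G) {X : List (List ℕ)} (hX : C.Mat x X) : three q n X ≠ true := by
  intro h
  simp only [three, List.any_eq_true, Bool.and_eq_true, decide_eq_true_eq] at h
  obtain ⟨j, -, hj, hj'⟩ := h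
  have hy : orderOf (x ^ j) = 3 := by
    haveI := Fact.mk Nat.prime_three
    refine orderOf_eq_prime ?_ fun h1 => hj ?_
    · rw [← pow_mul, mul_comm]
      exact C.eq_one (hj' ▸ C.mat_pow hX (3 * j))
    · exact C.mat_unique (C.mat_pow hX j) (h1 ▸ C.mat_one)
  refine h3 (hy ▸ ?_)
  rw [← Subgroup.orderOf_mk (x ^ j) (G.pow_mem hx j)]
  exact orderOf_dvd_natCard _

end CfsgLib.BaseTwo73.Cert
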