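import Cfsg.Agent.BaseTwo73.Data

/-!
# The searches are carried out by the kernel
-/

set_option autoImplicit false
set_option maxRecDepth 100000

namespace CfsgLib.BaseTwo73.Cert

/-- The element found by the first search in dimension eight. -/
def hit1 : List (List ℕ) :=
  [[2, 0, 1, 0, 1, 0, 1, 0],
    [0, 2, 0, 1, 0, 1, 0, 1],
    [1, 0, 2, 0, 1, 0, 1, 0],
    [0, 1, 0, 2, 0, 1, 0, 1],
    [1, 0, 1, 0, 2, 0, 1, 0],
    [0, 1, 0, 1, 0, 2, 0, 1],
    [1, 0, 1, 0, 1, 0, 2, 0],
    [0, 1, 0, 1, 0, 1, 0, 2]]

/-- The element found by the second search in dimension eight. -/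
def hit2 : List (List ℕ) :=
  [[2, 0, 2, 2, 0, 1, 1, 2],
    [0, 1, 1, 2, 1, 0, 1, 1],
    [1, 2, 0, 1, 1, 1, 1, 0],
    [1, 1, 1, 0, 2, 1, 0, 2],
    [0, 1, 2, 1, 1, 0, 2, 2],
    [1, 0, 2, 2, 0, 2, 1, 2],
    [2, 2, 1, 0, 1, 2, 0, 2],
    [1, 2, 0, 2, 1, 1, 2, 0]]

theorem valid5 : jobJ5.valid = true := by decide +kernel

theorem generic5 : generic 5 4 els5 jobJ5.w = true := by decide +kernel

theorem outside5 : outside 5 4 els5 jobJ5.w jobJ5.u = true := by decide +kernel

theorem result5 : jobJ5.result = [] := by decide +kernel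

theorem valid3 : (jobK1.valid && jobK2.valid && jobK3.valid) = true := by decide +kernel

theorem generic3 : generic 3 4 els3 jobK1.w = true := by decide +kernel

theorem outside3 : (outside 3 4 els3 jobK1.w jobK1.u && outside 3 4 els3 jobK1.w jobK2.u &&
    outside 3 4 els3 jobK1.w jobK3.u) = true := by
  decide +kernel

theorem result3 : (jobK1.result.all fun a => jobK2.result.all fun b => jobK3.result.all fun c =>
    three 3 4 a || three 3 4 b || three 3 4 c || three 3 4 (mul 3 4 a b) ||
      three 3 4 (mul 3 4 a c) || three 3 4 (mul 3 4 b c)) = true := by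
  decide +kernel

theorem valid8 : (jobL1.valid && jobL2.valid) = true := by decide +kernel

theorem generic8 : generic 3 8 els8 jobL1.w = true := by decide +kernel

theorem outside8 : (outside 3 8 els8 jobL1.w jobL1.u && outside 3 8 els8 jobL1.w jobL2.u) = true := by
  decide +kernel

theorem result8a : (jobL1.result.all fun a => decide (a = hit1)) = true := by decide +kernel

theorem result8b : (jobL2.result.all fun a => decide (a = hit2)) = true := by decide +kernel

theorem three8 : three 3 8 (mul 3 8 hit1 hit2) = true := by decide +kernel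

end CfsgLib.BaseTwo73.Cert
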