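import Cfsg.Agent.BaseTwo73.SetBase

/-!
# Colourings with three colours of solvable permutation groups without elements of order three
-/

set_option autoImplicit false
set_option linter.style.haveILetI false

namespace CfsgLib.BaseTwo73

open Equiv Subgroup CfsgLib.RegOrbit

universe w

/-- Some colouring with three colours is preserved only by the identity. -/
def Colour3 {Ω : Type w} (G : Subgroup (Perm Ω)) : Prop :=
  ∃ c : Ω → Fin 3, ∀ g ∈ G, (∀ x, c (g x) = c x) → g = 1

theorem not_three_of_dvd {a b : ℕ} (h : a ∣ b) (h3 : ¬ 3 ∣ b) : ¬ 3 ∣ a := fun h' => h3 (h'.trans h)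

/-- Three inequivalent distinguishing colourings from one. -/
theorem exists_three_colourings {F : Type w} [Finite F] (x₀ : F) {H : Subgroup (Perm F)}
    (h3 : ¬ 3 ∣ Nat.card H) (h : Colour3 H) :
    ∃ S : Fin 3 → F → Fin 3, (∀ k l, ∀ g ∈ H, (∀ x, S k (g x) = S l x) → k = l) ∧
      ∀ k, ∀ g ∈ H, (∀ x, S k (g x) = S k x) → g = 1 := by
  classical
  obtain ⟨c, hc⟩ := h
  by_cases hconst : ∀ x, c x = c x₀
  · exact ⟨fun k _ => k, fun k l g _ h => h x₀,
      fun k g hg _ => hc g hg fun x => by rw [hconst, hconst x]⟩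
  push Not at hconst
  obtain ⟨x₁, hx₁⟩ := hconst
  let P : Subgroup (H × Perm (Fin 3)) :=
    { carrier := {p | ∀ x, c ((p.1 : Perm F) x) = p.2 (c x)}
      one_mem' := fun x => rfl
      mul_mem' := fun {p r} hp hr x => by
        show c ((p.1 : Perm F) ((r.1 : Perm F) x)) = p.2 (r.2 (c x))
        rw [hp, hr]
      inv_mem' := fun {p} hp x => by
        show c ((p.1 : Perm F)⁻¹ x) = p.2⁻¹ (c x)
        rw [eq_comm, Perm.inv_eq_iff_eq, ← hp]
        exact (congrArg c (perm_apply_inv _ _)).symm }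
  let fst : P →* H := (MonoidHom.fst _ _).comp P.subtype
  have two : ∀ (σ : Perm (Fin 3)) (a b : Fin 3), a ≠ b → σ a = a → σ b = b → σ = 1 := by decide
  have hfst : Function.Injective fst := by
    refine (injective_iff_map_eq_one fst).2 fun p hp => Subtype.ext (Prod.ext hp ?_)
    have h1 : ∀ x, (p : H × Perm (Fin 3)).2 (c x) = c x := fun x => by
      rw [← p.2 x, show (p : H × Perm (Fin 3)).1 = 1 from hp]; rfl
    exact two _ _ _ hx₁ (h1 x₁) (h1 x₀)
  let S : Subgroup (Perm (Fin 3)) := P.map (MonoidHom.snd _ _)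
  have hS : ¬ 3 ∣ Nat.card S := not_three_of_dvd
    ((Subgroup.card_map_dvd _ _).trans (Subgroup.card_dvd_of_injective fst hfst)) h3
  refine ⟨fun k x => (finRotate 3 ^ (k : ℕ)) (c x), fun k l g hg hkl => ?_,
    fun k g hg hk => hc g hg fun x => (finRotate 3 ^ (k : ℕ)).injective (hk x)⟩
  have hmem : (finRotate 3 ^ (k : ℕ))⁻¹ * finRotate 3 ^ (l : ℕ) ∈ S :=
    ⟨(⟨g, hg⟩, (finRotate 3 ^ (k : ℕ))⁻¹ * finRotate 3 ^ (l : ℕ)), fun x => by
      show c (g x) = ((finRotate 3 ^ (k : ℕ))⁻¹ * finRotate 3 ^ (l : ℕ)) (c x)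
      rw [Perm.mul_apply, eq_comm, Perm.inv_eq_iff_eq]
      exact (hkl x).symm, rfl⟩
  have hcube : ∀ k l : Fin 3, ((finRotate 3 ^ (k : ℕ))⁻¹ * finRotate 3 ^ (l : ℕ)) ^ 3 = 1 := by
    decide +kernel
  have hone : ∀ k l : Fin 3, (finRotate 3 ^ (k : ℕ))⁻¹ * finRotate 3 ^ (l : ℕ) = 1 → k = l := by
    decide +kernel
  refine hone k l ?_
  by_contra hne
  refine hS ?_
  haveI := Fact.mk Nat.prime_three
  have h := orderOf_dvd_natCard (⟨_, hmem⟩ : S)
  rwa [Subgroup.orderOf_mk, orderOf_eq_prime (hcube k l) hne] at h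

/-- Colouring along an equivariant map. -/
theorem colour3_of_map {Ω B : Type w} [Finite Ω] [Finite B] {G : Subgroup (Perm Ω)}
    (π : Ω → B) (τ : G →* Perm B) (hτ : ∀ (g : G) x, π ((g : Perm Ω) x) = τ g (π x))
    (hB : Colour3 τ.range)
    (hF : ∀ b : B, ∃ S : Fin 3 → Ω → Fin 3,
      (∀ k l, ∀ g : G, τ g b = b → (∀ x, π x = b → S k ((g : Perm Ω) x) = S l x) → k = l) ∧
      ∀ k, ∀ g : G, τ g b = b → (∀ x, π x = b → S k ((g : Perm Ω) x) = S k x) →
        ∀ x, π x = b → (g : Perm Ω) x = x) :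
    Colour3 G := by
  classical
  obtain ⟨T, hT⟩ := hB
  choose S hS1 hS2 using hF
  let rel : Setoid B :=
    { r := fun b c => ∃ g : G, τ g b = c
      iseqv := ⟨fun b => ⟨1, by rw [map_one]; rfl⟩, fun {b c} => fun ⟨g, hg⟩ =>
        ⟨g⁻¹, by rw [map_inv, ← hg]; exact perm_inv_apply _ _⟩,
        fun {b c d} => fun ⟨g, hg⟩ ⟨h, hh⟩ => ⟨h * g, by rw [map_mul, Perm.mul_apply, hg, hh]⟩⟩ }
  let r : B → B := fun b => (Quotient.mk rel b).out
  have hr : ∀ b, ∃ g : G, τ g (r b) = b := fun b => Quotient.mk_out (s := rel) b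
  choose t ht using hr
  refine ⟨fun x => S (r (π x)) (T (π x)) ((t (π x) : Perm Ω)⁻¹ x), fun g hg hgS => ?_⟩
  set γ : G := ⟨g, hg⟩ with hγ
  have hrr : ∀ b, r (τ γ b) = r b := fun b => congrArg Quotient.out (Quotient.sound ⟨γ⁻¹, by
    rw [map_inv]; exact perm_inv_apply _ _⟩)
  have hstab : ∀ b, τ ((t (τ γ b))⁻¹ * γ * t b) (r b) = r b := fun b => by
    rw [map_mul, map_mul, Perm.mul_apply, Perm.mul_apply, ht b, map_inv,
      Perm.inv_eq_iff_eq, ← hrr b, ht]
  have hcol : ∀ b x, π x = r b →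
      S (r b) (T (τ γ b)) ((((t (τ γ b))⁻¹ * γ * t b : G) : Perm Ω) x) = S (r b) (T b) x := by
    intro b x hx
    have h1 := hgS ((t b : Perm Ω) x)
    have hπ1 : π ((t b : Perm Ω) x) = b := by rw [hτ, hx, ht]
    have hπ2 : π (g ((t b : Perm Ω) x)) = τ γ b := by rw [hτ γ, hπ1]
    simp only [hπ1, hπ2, hrr b, perm_inv_apply] at h1
    exact h1
  have hTfix : ∀ b, T (τ γ b) = T b := fun b => hS1 (r b) _ _ _ (hstab b) (hcol b)
  have hτ1 : τ γ = 1 := hT (τ γ) ⟨γ, rfl⟩ hTfix
  refine Equiv.ext fun y => ?_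
  set b := π y with hb
  have hb' : τ γ b = b := by rw [hτ1]; rfl
  have h1 := hstab b
  have h2 := hcol b
  rw [hb'] at h1 h2
  have h3 := hS2 (r b) (T b) _ h1 h2 ((t b : Perm Ω)⁻¹ y) (by
    rw [← Subgroup.coe_inv, hτ, map_inv, Perm.inv_eq_iff_eq, ht])
  rw [Subgroup.coe_mul, Subgroup.coe_mul, Subgroup.coe_inv, Perm.mul_apply, Perm.mul_apply,
    Perm.inv_eq_iff_eq, perm_apply_inv] at h3
  exact h3

theorem mul_pow_four_lt {s : ℕ} (h : 16 ≤ s) : (4 * s) ^ 4 < 3 ^ s := by
  induction s, h using Nat.le_induction with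
  | base => norm_num
  | succ s hs ih =>
    have h1 : (4 * (s + 1)) ^ 4 ≤ 3 * (4 * s) ^ 4 := by
      have e : (4 * (s + 1)) ^ 4 = 256 * ((s + 1) ^ 2 * (s + 1) ^ 2) := by ring
      have e' : (4 * s) ^ 4 = 256 * (s ^ 2 * s ^ 2) := by ring
      have h2 : 7 * (s + 1) ^ 2 ≤ 12 * s ^ 2 := by nlinarith
      rw [e, e']
      nlinarith [Nat.mul_le_mul h2 h2]
    calc (4 * (s + 1)) ^ 4 ≤ 3 * (4 * s) ^ 4 := h1
      _ < 3 * 3 ^ s := Nat.mul_lt_mul_of_pos_left ih (by norm_num)
      _ = 3 ^ (s + 1) := by rw [pow_succ']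

/-- Counting colourings preserved by some element. -/
theorem colour3_of_count {Ω : Type w} [Finite Ω] {G : Subgroup (Perm Ω)} {s : ℕ}
    (hm : Nat.card Ω = 4 * s) (hs : 16 ≤ s) (hG : Nat.card G ≤ Nat.card Ω ^ 4)
    (hfix : ∀ g ∈ G, g ≠ 1 → 2 * Nat.card {x // g x = x} ≤ Nat.card Ω) : Colour3 G := by
  classical
  haveI : Fintype Ω := Fintype.ofFinite Ω
  haveI : Fintype G := Fintype.ofFinite G
  set N := Fintype.card Ω with hN
  rw [Nat.card_eq_fintype_card (α := Ω), ← hN] at hm hG
  have hbound : ∀ g : G, g ≠ 1 →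
      (Finset.univ.filter fun c : Ω → Fin 3 => ∀ x, c ((g : Perm Ω) x) = c x).card ≤
        3 ^ (3 * s) := by
    intro g hg
    set σ : Perm Ω := (g : Perm Ω) with hσ
    let idx := Fintype.equivFin Ω
    let R : Finset Ω := Finset.univ.filter fun x => ∀ k : ℕ, idx x ≤ idx ((σ ^ k) x)
    have hmoved : ∀ x ∈ R, σ x ∈ R → σ x = x := by
      intro x hx hσx
      simp only [R, Finset.mem_filter] at hx hσx
      have h1 := hx.2 1
      have h2 := hσx.2 (orderOf σ - 1)
      rw [pow_one] at h1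
      rw [← Perm.mul_apply, ← pow_succ, Nat.sub_add_cancel (orderOf_pos σ), pow_orderOf_eq_one,
        Perm.one_apply] at h2
      exact idx.injective (le_antisymm h2 h1)
    have hRcard : 2 * R.card ≤ N + (Finset.univ.filter fun x => σ x = x).card := by
      set F : Finset Ω := Finset.univ.filter fun x => σ x = x with hF
      have hsub : (R \ F).image σ ⊆ Finset.univ \ R := fun y hy => by
        obtain ⟨x, hx, rfl⟩ := Finset.mem_image.1 hy
        simp only [Finset.mem_sdiff, F, Finset.mem_filter, Finset.mem_univ, true_and] at hx ⊢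
        exact fun h => hx.2 (hmoved x hx.1 h)
      have h1 := Finset.card_le_card hsub
      rw [Finset.card_image_of_injective _ σ.injective, Finset.card_univ_sdiff] at h1
      have h2 := Finset.card_le_card (show R ⊆ (R \ F) ∪ F from fun x hx => by
        by_cases h : x ∈ F <;> simp [hx, h])
      have h3 := Finset.card_union_le (R \ F) F
      have h4 := Finset.card_le_univ R
      omega
    have hF : 2 * (Finset.univ.filter fun x => σ x = x).card ≤ N := by
      have h := hfix σ g.2 fun h => hg (Subtype.ext h)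
      rwa [Nat.card_eq_fintype_card, Fintype.card_subtype, Nat.card_eq_fintype_card] at h
    have hR : R.card ≤ 3 * s := by omega
    calc (Finset.univ.filter fun c : Ω → Fin 3 => ∀ x, c (σ x) = c x).card
        ≤ Fintype.card (R → Fin 3) := by
          refine le_trans (Finset.card_le_card_of_injOn (fun c => fun r : R => c r)
            (fun c _ => Finset.mem_univ _) ?_) (le_of_eq Finset.card_univ)
          intro c hc c' hc' hcc
          simp only [Finset.coe_filter, Set.mem_setOf_eq, Finset.mem_univ, true_and] at hc hc'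
          have hpow : ∀ d : Ω → Fin 3, (∀ x, d (σ x) = d x) → ∀ (k : ℕ) x,
              d ((σ ^ k) x) = d x := by
            intro d hd k
            induction k with
            | zero => intro x; rfl
            | succ k ih => intro x; rw [pow_succ', Perm.mul_apply, hd, ih]
          funext x
          obtain ⟨y, ⟨k, rfl⟩, hy⟩ := Set.exists_min_image (Set.range fun k : ℕ => (σ ^ k) x)
            idx (Set.toFinite _) ⟨_, 0, rfl⟩
          have hyR : (σ ^ k) x ∈ R := Finset.mem_filter.2 ⟨Finset.mem_univ _, fun j =>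
            hy _ ⟨j + k, show (σ ^ (j + k)) x = (σ ^ j) ((σ ^ k) x) by rw [pow_add, Perm.mul_apply]⟩⟩
          rw [← hpow c hc k, ← hpow c' hc' k]
          exact congrFun hcc ⟨_, hyR⟩
      _ ≤ 3 ^ (3 * s) := by
          rw [Fintype.card_fun, Fintype.card_coe, Fintype.card_fin]
          exact Nat.pow_le_pow_right (by norm_num) hR
  by_contra hno
  have hall : ∀ c : Ω → Fin 3, ∃ g : G, g ≠ 1 ∧ ∀ x, c ((g : Perm Ω) x) = c x := by
    intro c
    by_contra h
    push Not at h
    refine hno ⟨c, fun g hg hgc => ?_⟩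
    by_contra hne
    obtain ⟨x, hx⟩ := h ⟨g, hg⟩ fun e => hne (congrArg Subtype.val e)
    exact hx (hgc x)
  have hsub : (Finset.univ : Finset (Ω → Fin 3)) ⊆ ((Finset.univ : Finset G).erase 1).biUnion
      fun g => Finset.univ.filter fun c : Ω → Fin 3 => ∀ x, c ((g : Perm Ω) x) = c x := by
    intro c _
    obtain ⟨g, hg, hgc⟩ := hall c
    exact Finset.mem_biUnion.2 ⟨g, Finset.mem_erase.2 ⟨hg, Finset.mem_univ _⟩,
      Finset.mem_filter.2 ⟨Finset.mem_univ _, hgc⟩⟩
  have h1 := (Finset.card_le_card hsub).trans (Finset.card_biUnion_le_card_mul _ _ _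
    fun g hg => hbound g (Finset.mem_erase.1 hg).1)
  rw [Finset.card_univ, Fintype.card_fun, Fintype.card_fin, ← hN] at h1
  have h2 : ((Finset.univ : Finset G).erase 1).card ≤ N ^ 4 :=
    (Finset.card_le_univ _).trans (Nat.card_eq_fintype_card (α := G) ▸ hG)
  have h3 : 3 ^ N ≤ N ^ 4 * 3 ^ (3 * s) := h1.trans (Nat.mul_le_mul_right _ h2)
  rw [hm, show 3 ^ (4 * s) = 3 ^ s * 3 ^ (3 * s) by rw [← pow_add]; congr 1; omega] at h3
  have h4 := Nat.le_of_mul_le_mul_right h3 (by positivity)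
  exact absurd (mul_pow_four_lt hs) (not_lt.2 h4)

/-- The affine case. -/
theorem colour3_affine {Ω : Type w} [Finite Ω] [Nonempty Ω] {G : Subgroup (Perm Ω)}
    (hsol : Group.IsSolvable G) (h3 : ¬ 3 ∣ Nat.card G) (N : Subgroup G) [N.Normal] (hne : N ≠ ⊥)
    (hmin : ∀ K : Subgroup G, K.Normal → K ≤ N → K = ⊥ ∨ K = N)
    (htrans : ∀ x y : Ω, ∃ u ∈ N, ((u : G) : Perm Ω) x = y) : Colour3 G := by
  classical
  haveI := hsol
  have hab := Solvable.mul_comm_of_minimal_normal hne hmin
  obtain ⟨x₀⟩ := ‹Nonempty Ω›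
  have hfree : ∀ u ∈ N, ∀ x : Ω, ((u : G) : Perm Ω) x = x → u = 1 := by
    intro u hu x hux
    refine Subtype.ext (Equiv.ext fun y => ?_)
    obtain ⟨v, hv, hvx⟩ := htrans x y
    have h1 : ((u * v : G) : Perm Ω) x = ((v * u : G) : Perm Ω) x := by rw [hab u hu v hv]
    simp only [Subgroup.coe_mul, Perm.mul_apply, hux, hvx] at h1
    simpa using h1
  let e : N → Ω := fun u => ((u : G) : Perm Ω) x₀
  have he : Function.Bijective e := by
    refine ⟨fun u v huv => ?_, fun y => ?_⟩
    · have h1 : (((v : G)⁻¹ * u : G) : Perm Ω) x₀ = x₀ := by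
        simp only [Subgroup.coe_mul, Subgroup.coe_inv, Perm.mul_apply]
        rw [show ((u : G) : Perm Ω) x₀ = ((v : G) : Perm Ω) x₀ from huv, perm_inv_apply]
      exact Subtype.ext (inv_mul_eq_one.1
        (hfree _ (N.mul_mem (N.inv_mem v.2) u.2) x₀ h1)).symm
    · obtain ⟨u, hu, huy⟩ := htrans x₀ y
      exact ⟨⟨u, hu⟩, huy⟩
  letI : CommGroup N :=
    { (inferInstance : Group N) with mul_comm := fun a b => Subtype.ext (hab a a.2 b b.2) }
  let H : Subgroup G := MulAction.stabilizer G x₀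
  have hmemH : ∀ h : G, h ∈ H ↔ (h : Perm Ω) x₀ = x₀ := fun h => Iff.rfl
  let φ : H →* MulAut N := (MulAut.conjNormal (H := N)).comp H.subtype
  have hφv : ∀ (h : H) (u : N), ((φ h u : N) : G) = (h : G) * u * (h : G)⁻¹ := fun h u => rfl
  have heh : ∀ (h : H) (u : N), e (φ h u) = ((h : G) : Perm Ω) (e u) := by
    intro h u
    show (((φ h u : N) : G) : Perm Ω) x₀ = _
    rw [hφv, Subgroup.coe_mul, Subgroup.coe_mul, Subgroup.coe_inv, Perm.mul_apply, Perm.mul_apply,
      (Perm.inv_eq_iff_eq).2 ((hmemH h).1 h.2).symm]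
  let ψ₀ : H →* AddMonoid.End (Additive N) :=
    { toFun := fun h => (MonoidHom.toAdditive (φ h).toMonoidHom : Additive N →+ Additive N)
      map_one' := AddMonoidHom.ext fun x => by
        show Additive.ofMul (φ 1 x.toMul) = x
        rw [map_one]; rfl
      map_mul' := fun a b => AddMonoidHom.ext fun x => by
        show Additive.ofMul (φ (a * b) x.toMul) = Additive.ofMul (φ a (φ b x.toMul))
        rw [map_mul]; rfl }
  let ψ : H →* AutGp (Additive N) := ψ₀.toHomUnits
  have hψ : ∀ h (u : N), (ψ h : AddMonoid.End (Additive N)) (Additive.ofMul u) =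
      Additive.ofMul (φ h u) := fun h u => rfl
  have hψe : ∀ (h : H) (x : Additive N),
      e ((ψ h : AddMonoid.End (Additive N)) x).toMul = ((h : G) : Perm Ω) (e x.toMul) :=
    fun h x => heh h x.toMul
  have hψinj : ∀ h : H, ψ h = 1 → h = 1 := fun h h1 => by
    refine Subtype.ext (Subtype.ext (Equiv.ext fun y => ?_))
    obtain ⟨u, rfl⟩ := he.2 y
    have := hψe h (Additive.ofMul u)
    rw [h1] at this
    exact this.symm
  -- irreducibility
  have hirr : Irred ψ.range := by
    intro U hU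
    set L : Subgroup N := AddSubgroup.toSubgroup' U with hL'
    have hLmem : ∀ u : N, u ∈ L ↔ Additive.ofMul u ∈ U := fun u => Iff.rfl
    have hLn : (L.map N.subtype).Normal := by
      refine ⟨fun z hz g => ?_⟩
      obtain ⟨u, hu, rfl⟩ := hz
      obtain ⟨v, hv, hvg⟩ := htrans x₀ ((g : Perm Ω) x₀)
      have hh : v⁻¹ * g ∈ H := by
        rw [hmemH, Subgroup.coe_mul, Subgroup.coe_inv, Perm.mul_apply, ← hvg, perm_inv_apply]
      refine ⟨φ ⟨_, hh⟩ u, (hLmem _).2 (hψ ⟨_, hh⟩ u ▸ hU _ ⟨_, rfl⟩ _ ((hLmem u).1 hu)), ?_⟩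
      show ((φ ⟨v⁻¹ * g, hh⟩ u : N) : G) = g * u * g⁻¹
      rw [hφv]
      have hc : v * (v⁻¹ * g * u * (v⁻¹ * g)⁻¹) = (v⁻¹ * g * u * (v⁻¹ * g)⁻¹) * v :=
        hab v hv _ (hφv ⟨_, hh⟩ u ▸ (φ ⟨_, hh⟩ u).2)
      calc v⁻¹ * g * u * (v⁻¹ * g)⁻¹ = v * (v⁻¹ * g * u * (v⁻¹ * g)⁻¹) * v⁻¹ := by
            rw [hc, mul_inv_cancel_right]
        _ = g * u * g⁻¹ := by group
    rcases hmin _ hLn (map_subtype_le L) with h1 | h1
    · have h2 : L = ⊥ := map_injective N.subtype_injective (h1.trans (Subgroup.map_bot _).symm)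
      refine Or.inl ((AddSubgroup.eq_bot_iff_forall _).2 fun x hx => ?_)
      have : x.toMul ∈ L := hx
      rw [h2, Subgroup.mem_bot] at this
      exact this
    · have h2 : L = ⊤ := map_injective N.subtype_injective (h1.trans (by
        rw [← MonoidHom.range_eq_map, range_subtype]))
      refine Or.inr (eq_top_iff.2 fun x _ => ?_)
      exact (hLmem x.toMul).1 (h2 ▸ Subgroup.mem_top _)
  have hcr : CR ψ.range := by
    intro U hU
    rcases hirr U hU with h | h
    · exact ⟨⊤, fun _ _ _ _ => AddSubgroup.mem_top _, by rw [h, bot_inf_eq], by rw [h, bot_sup_eq]⟩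
    · exact ⟨⊥, fun a _ u hu => by rw [AddSubgroup.mem_bot] at hu ⊢; rw [hu, map_zero],
        inf_bot_eq _, by rw [h, sup_bot_eq]⟩
  haveI hnt : Nontrivial (Additive N) := by
    haveI : Nontrivial N := N.nontrivial_iff_ne_bot.2 hne
    infer_instance
  have hψsol : Group.IsSolvable ψ.range := Group.isSolvable_of_surjective ψ.rangeRestrict_surjective
  have hψ3 : ¬ 3 ∣ Nat.card ψ.range := not_three_of_dvd
    ((Subgroup.card_range_dvd ψ).trans H.card_subgroup_dvd_card) h3
  have hbase := BaseThree.base_of_solvable hψsol hcr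
  obtain ⟨q, hq, hqx⟩ := BaseThree.exists_prime_nsmul_eq_zero hirr
  haveI := Fact.mk hq
  have hq3 : q ≠ 3 := by
    intro h
    obtain ⟨x, hx⟩ := exists_ne (0 : Additive N)
    refine h3 ?_
    have h1 : addOrderOf x = q := addOrderOf_eq_prime (hqx x) hx
    rw [← h, ← h1]
    exact (addOrderOf_dvd_natCard x).trans N.card_subgroup_dvd_card
  -- from a set with trivial stabilizer
  have hset : SetBase ψ.range → Colour3 G := by
    rintro ⟨S, hS⟩
    let ei := Equiv.ofBijective e he
    let c : Ω → Fin 3 := fun y =>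
      if y = x₀ then 0 else if Additive.ofMul (ei.symm y) ∈ S then 1 else 2
    refine ⟨c, fun g hg hgc => ?_⟩
    have hc0 : ∀ y, c y = 0 → y = x₀ := fun y hy => by
      simp only [c] at hy
      split_ifs at hy with h1 h2
      · exact h1
      all_goals exact absurd hy (by decide)
    have h0 : g x₀ = x₀ := hc0 _ (by rw [hgc]; simp [c])
    set h : H := ⟨⟨g, hg⟩, h0⟩ with hh
    have hψ1 : ψ h = 1 := by
      refine hS _ ⟨h, rfl⟩ fun x => ?_
      by_cases hx : x = 0
      · rw [hx, map_zero]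
      have hne0 : ∀ z : Additive N, z ≠ 0 → e z.toMul ≠ x₀ := fun z hz h' =>
        hz (by
          have h'' : z.toMul = (1 : N) := he.1 (h'.trans (by simp [e]))
          exact h'')
      have hx' : (ψ h : AddMonoid.End (Additive N)) x ≠ 0 := fun h' => hx (by
        rw [← inv_apply' (ψ h) x, h', map_zero])
      have h1 := hgc (e x.toMul)
      rw [show g (e x.toMul) = e ((ψ h : AddMonoid.End (Additive N)) x).toMul from
        (hψe h x).symm] at h1
      simp only [c, if_neg (hne0 x hx), if_neg (hne0 _ hx')] at h1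
      have hinv : ∀ z : N, ei.symm (e z) = z := fun z => ei.symm_apply_apply z
      simp only [hinv, ofMul_toMul] at h1
      by_cases hs : x ∈ S <;>
        by_cases hs' : (ψ h : AddMonoid.End (Additive N)) x ∈ S <;>
        simp [hs, hs'] at h1 ⊢
    exact congrArg (fun z : H => ((z : G) : Perm Ω)) (hψinj h hψ1)
  by_cases hq5 : 5 ≤ q
  · letI : Module (ZMod q) (Additive N) := AddCommGroup.zmodModule hqx
    exact hset (SetBase.of_indep hq5 hbase)
  have hq2 : q = 2 := by
    have h2 := hq.two_le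
    interval_cases q
    · rfl
    · exact absurd rfl hq3
    · norm_num at hq
  subst hq2
  by_cases hm : Nat.card (Additive N) < 64
  · exact hset (SetBase.of_small hψsol hψ3 hirr hqx hm)
  push Not at hm
  have hcard : Nat.card Ω = Nat.card (Additive N) :=
    (Nat.card_eq_of_bijective e he).symm.trans (Nat.card_congr Additive.ofMul)
  obtain ⟨s, hs⟩ : 4 ∣ Nat.card (Additive N) := by
    haveI := Fact.mk Nat.prime_two
    obtain ⟨d, hd⟩ := IsPGroup.iff_card.1 (fun x : Multiplicative (Additive N) =>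
      ⟨1, by rw [pow_one]; exact hqx x⟩ : IsPGroup 2 (Multiplicative (Additive N)))
    have hd' : Nat.card (Additive N) = 2 ^ d := hd
    rw [hd'] at hm ⊢
    have : 2 ≤ d := by
      by_contra h
      have := Nat.pow_le_pow_right (show 0 < 2 by norm_num) (show d ≤ 1 by omega)
      omega
    exact (pow_dvd_pow 2 this)
  obtain ⟨a₁, a₂, a₃, hb⟩ := hbase
  choose v hv hvx using fun g : G => htrans x₀ ((g : Perm Ω) x₀)
  have hin : ∀ g : G, (v g)⁻¹ * g ∈ H := fun g => by
    rw [hmemH, Subgroup.coe_mul, Subgroup.coe_inv, Perm.mul_apply, ← hvx g, perm_inv_apply]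
  refine colour3_of_count (s := s) (hcard.trans hs) (by omega) ?_ ?_
  · let A : G → AutGp (Additive N) := fun g => ψ ⟨_, hin g⟩
    let f : G → Ω × Additive N × Additive N × Additive N := fun g =>
      ((g : Perm Ω) x₀, (A g : AddMonoid.End (Additive N)) a₁,
        (A g : AddMonoid.End (Additive N)) a₂, (A g : AddMonoid.End (Additive N)) a₃)
    have hf : Function.Injective f := by
      intro g g' h
      simp only [f, Prod.mk.injEq] at h
      obtain ⟨h0, h1, h2, h3'⟩ := h
      have hvv : v g = v g' := congrArg Subtype.val (he.1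
        (show e ⟨v g, hv g⟩ = e ⟨v g', hv g'⟩ from (hvx g).trans (h0.trans (hvx g').symm)))
      have hA : (A g')⁻¹ * A g = 1 := by
        refine hb _ (mul_mem (inv_mem ⟨_, rfl⟩) ⟨_, rfl⟩) ?_ ?_ ?_
        · rw [mul_apply', h1, inv_apply']
        · rw [mul_apply', h2, inv_apply']
        · rw [mul_apply', h3', inv_apply']
      simp only [A, ← map_inv, ← map_mul] at hA
      have := congrArg (fun z : H => (z : G)) (hψinj _ hA)
      simp only [Subgroup.coe_mul, Subgroup.coe_inv, Subgroup.coe_one, hvv, inv_mul_eq_one] at this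
      exact mul_left_cancel this.symm
    refine (Nat.card_le_card_of_injective f hf).trans (le_of_eq ?_)
    rw [Nat.card_prod, Nat.card_prod, Nat.card_prod, ← hcard]
    ring
  · intro g hg hne1
    by_cases hz : ∀ x, g x ≠ x
    · haveI : IsEmpty {x // g x = x} := ⟨fun x => hz x x.2⟩
      simp
    push Not at hz
    obtain ⟨y, hy⟩ := hz
    obtain ⟨⟨u, hu⟩, huy⟩ := he.2 y
    have huy' : ((u : G) : Perm Ω) x₀ = y := huy
    set h : H := ⟨u⁻¹ * ⟨g, hg⟩ * u, by
      rw [hmemH, Subgroup.coe_mul, Subgroup.coe_mul, Subgroup.coe_inv, Perm.mul_apply,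
        Perm.mul_apply, huy', hy, ← huy', perm_inv_apply]⟩ with hh
    have hne : fixAdd (ψ h) ≠ ⊤ := fun htop => hne1 (by
      have h1 : h = 1 := hψinj h (eq_one_of_forall fun x => show x ∈ fixAdd (ψ h) by
        rw [htop]; trivial)
      have h2' : u⁻¹ * (⟨g, hg⟩ : G) * u = 1 := congrArg Subtype.val h1
      have h5 : (⟨g, hg⟩ : G) = 1 := by
        calc (⟨g, hg⟩ : G) = u * (u⁻¹ * (⟨g, hg⟩ : G) * u) * u⁻¹ := by group
          _ = 1 := by rw [h2', mul_one, mul_inv_cancel]
      exact congrArg Subtype.val h5)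
    have hlt := natCard_lt_of_ne_top hne
    have hdvd := AddSubgroup.card_addSubgroup_dvd_card (fixAdd (ψ h))
    have hle : 2 * Nat.card (fixAdd (ψ h)) ≤ Nat.card (Additive N) := by
      obtain ⟨k, hk⟩ := hdvd
      rcases k with _ | _ | k
      · simp only [mul_zero] at hk
        exact absurd hk (Nat.card_pos).ne'
      · omega
      · rw [hk, mul_comm]
        exact Nat.mul_le_mul_left _ (by omega)
    rw [hcard]
    refine le_trans (le_of_eq (congrArg (2 * ·) ?_)) hle
    refine Nat.card_congr ?_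
    refine (Equiv.subtypeEquiv ((Additive.toMul.trans (Equiv.ofBijective e he)).trans
      ((u : G) : Perm Ω)) fun z => ?_).symm
    show (ψ h : AddMonoid.End (Additive N)) z = z ↔
      g (((u : G) : Perm Ω) (e z.toMul)) = ((u : G) : Perm Ω) (e z.toMul)
    have h6 : e ((ψ h : AddMonoid.End (Additive N)) z).toMul =
        ((u : G) : Perm Ω)⁻¹ (g (((u : G) : Perm Ω) (e z.toMul))) := hψe h z
    refine ⟨fun h7 => ?_, fun h7 => ?_⟩
    · rw [h7, eq_comm, Perm.inv_eq_iff_eq] at h6
      exact h6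
    · rw [h7, perm_inv_apply] at h6
      exact Additive.toMul.injective (he.1 h6)

/-- A solvable permutation group has a distinguishing colouring with three colours. -/
theorem exists_colour3 (n : ℕ) : ∀ (Ω : Type w)
    [Finite Ω], Nat.card Ω = n → ∀ G : Subgroup (Perm Ω), Group.IsSolvable G →
    ¬ 3 ∣ Nat.card G → Colour3 G := by
  induction n using Nat.strong_induction_on with
  | _ n ih =>
  intro Ω _ hn G hsol h3
  classical
  haveI := hsol
  by_cases hG : G = ⊥
  · exact ⟨fun _ => 0, fun g hg _ => mem_bot.1 (hG ▸ hg)⟩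
  have step : ∀ N : Subgroup G, N.Normal → N ≠ ⊥ →
      ¬ (∀ x y : Ω, ∃ u ∈ N, ((u : G) : Perm Ω) x = y) → Colour3 G := by
    intro N hN hN1 hNt
    let rel : Setoid Ω :=
      { r := fun x y => ∃ u ∈ N, ((u : G) : Perm Ω) x = y
        iseqv := ⟨fun x => ⟨1, one_mem _, rfl⟩, fun {x y} => fun ⟨u, hu, h⟩ =>
          ⟨u⁻¹, inv_mem hu, by rw [← h, Subgroup.coe_inv]; exact perm_inv_apply _ _⟩,
          fun {x y z} => fun ⟨u, hu, h⟩ ⟨v, hv, h'⟩ =>
            ⟨v * u, mul_mem hv hu, by rw [Subgroup.coe_mul, Perm.mul_apply, h, h']⟩⟩ }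
    let π : Ω → Quotient rel := Quotient.mk rel
    have hmove : ∀ (g : G) x y, rel.r x y → rel.r ((g : Perm Ω) x) ((g : Perm Ω) y) := by
      rintro g x y ⟨u, hu, h⟩
      refine ⟨g * u * g⁻¹, hN.conj_mem u hu g, ?_⟩
      simp only [Subgroup.coe_mul, Subgroup.coe_inv, Perm.mul_apply, perm_inv_apply, h]
    let τfun : G → Quotient rel → Quotient rel := fun g =>
      Quotient.map (g : Perm Ω) fun x y h => hmove g x y h
    have hτone : ∀ q, τfun 1 q = q := fun q => Quotient.inductionOn q fun x => rfl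
    have hτmul : ∀ g h q, τfun (g * h) q = τfun g (τfun h q) := fun g h q =>
      Quotient.inductionOn q fun x => rfl
    let τ : G →* Perm (Quotient rel) :=
      { toFun := fun g => ⟨τfun g, τfun g⁻¹,
          fun q => by rw [← hτmul, inv_mul_cancel, hτone],
          fun q => by rw [← hτmul, mul_inv_cancel, hτone]⟩
        map_one' := Equiv.ext hτone
        map_mul' := fun g h => Equiv.ext (hτmul g h) }
    have hπ : Function.Surjective π := Quotient.mk_surjective
    have hτ : ∀ (g : G) x, π ((g : Perm Ω) x) = τ g (π x) := fun g x => rfl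
    obtain ⟨u, hu, hu1⟩ := N.bot_or_exists_ne_one.resolve_left hN1
    obtain ⟨x₁, hx₁⟩ : ∃ x, ((u : G) : Perm Ω) x ≠ x := by
      by_contra! h
      exact hu1 (Subtype.ext (Equiv.ext h))
    have hBlt : Nat.card (Quotient rel) < n := by
      rw [← hn]
      refine lt_of_le_of_ne (Nat.card_le_card_of_surjective π hπ) fun h => hx₁ ?_
      have hinj : Function.Injective π :=
        ((Nat.bijective_iff_surjective_and_card π).2 ⟨hπ, h.symm⟩).1
      exact (hinj (Quotient.sound ⟨u, hu, rfl⟩ : π x₁ = π ((u : Perm Ω) x₁))).symm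
    refine colour3_of_map π τ hτ (ih _ hBlt (Quotient rel) rfl τ.range
        (Group.isSolvable_of_surjective τ.rangeRestrict_surjective)
        (not_three_of_dvd (Subgroup.card_range_dvd τ) h3)) fun b => ?_
    have hFlt : Nat.card {x // π x = b} < n := by
      rw [← hn]
      refine lt_of_le_of_ne (Finite.card_subtype_le _) fun h => hNt ?_
      have hall : ∀ x, π x = b := by
        intro x
        have hs := ((Nat.bijective_iff_injective_and_card
          (Subtype.val : {x // π x = b} → Ω)).2 ⟨Subtype.val_injective, h⟩).2 x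
        obtain ⟨y, rfl⟩ := hs
        exact y.2
      intro x y
      exact Quotient.exact ((hall x).trans (hall y).symm)
    let Gb : Subgroup G := (MulAction.stabilizer (Perm (Quotient rel)) b).comap τ
    have hGb : ∀ g : Gb, ∀ x, π x = b → π (((g : G) : Perm Ω) x) = b := fun g x hx => by
      rw [hτ, hx]; exact g.2
    let ρ : Gb →* Perm {x // π x = b} :=
      { toFun := fun g =>
          { toFun := fun x => ⟨((g : G) : Perm Ω) x, hGb g x x.2⟩
            invFun := fun x => ⟨((g⁻¹ : Gb) : G).1 x, hGb g⁻¹ x x.2⟩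
            left_inv := fun x => Subtype.ext (by simp)
            right_inv := fun x => Subtype.ext (by simp) }
        map_one' := Equiv.ext fun x => Subtype.ext rfl
        map_mul' := fun g h => Equiv.ext fun x => Subtype.ext rfl }
    have hρsol : Group.IsSolvable ρ.range :=
      Group.isSolvable_of_surjective ρ.rangeRestrict_surjective
    have hρ3 : ¬ 3 ∣ Nat.card ρ.range := not_three_of_dvd
      ((Subgroup.card_range_dvd ρ).trans Gb.card_subgroup_dvd_card) h3
    obtain ⟨x₂, hx₂⟩ := hπ b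
    obtain ⟨S, hS1, hS2⟩ := exists_three_colourings (⟨x₂, hx₂⟩ : {x // π x = b}) hρ3
      (ih _ hFlt {x // π x = b} rfl ρ.range hρsol hρ3)
    refine ⟨fun k x => if hx : π x = b then S k ⟨x, hx⟩ else 0, fun k l g hg hkl => ?_,
      fun k g hg hk x hx => ?_⟩
    · refine hS1 k l (ρ ⟨g, hg⟩) ⟨_, rfl⟩ fun z => ?_
      have h1 := hkl z z.2
      simp only [dif_pos (show π ((g : Perm Ω) z) = b from hGb ⟨g, hg⟩ z z.2), dif_pos z.2] at h1
      exact h1
    · have h1 : ρ ⟨g, hg⟩ = 1 := hS2 k _ ⟨_, rfl⟩ fun z => by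
        have h2 := hk z z.2
        simp only [dif_pos (show π ((g : Perm Ω) z) = b from hGb ⟨g, hg⟩ z z.2), dif_pos z.2] at h2
        exact h2
      exact congrArg Subtype.val (DFunLike.congr_fun h1 ⟨x, hx⟩)
  by_cases htr : ∀ x y : Ω, ∃ u ∈ (⊤ : Subgroup G), ((u : G) : Perm Ω) x = y
  swap
  · refine step ⊤ inferInstance (fun h => hG ?_) htr
    refine (Subgroup.eq_bot_iff_forall G).2 fun g hg => ?_
    have h' : (⟨g, hg⟩ : G) ∈ (⊥ : Subgroup G) := by rw [← h]; exact mem_top _
    exact congrArg Subtype.val (mem_bot.1 h')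
  haveI : Nontrivial G := G.nontrivial_iff_ne_bot.2 hG
  obtain ⟨N, hN, hN1, hmin⟩ := Solvable.exists_minimal_normal (G := G)
  by_cases hNt : ∀ x y : Ω, ∃ u ∈ N, ((u : G) : Perm Ω) x = y
  · haveI : Nonempty Ω := by
      obtain ⟨g, hg, hg1⟩ := G.bot_or_exists_ne_one.resolve_left hG
      by_contra hne
      rw [not_nonempty_iff] at hne
      exact hg1 (Equiv.ext fun x => isEmptyElim x)
    exact colour3_affine hsol h3 N hN1 hmin hNt
  · exact step N hN hN1 hNt

end CfsgLib.BaseTwo73
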