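import Cfsg.Agent.BaseTwo73.CertSound

/-!
# The three small models and their searches
-/

set_option autoImplicit false
set_option maxRecDepth 100000

namespace CfsgLib.BaseTwo73.Cert

/-- Generators over the field with five elements in dimension four. -/
def gens5 : List (List (List ℕ)) :=
  [[[0,1,0,0],[1,0,0,0],[0,0,0,1],[0,0,1,0]],
    [[0,0,1,0],[0,0,0,1],[1,0,0,0],[0,1,0,0]],
    [[1,0,0,0],[0,4,0,0],[0,0,1,0],[0,0,0,4]],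
    [[1,0,0,0],[0,1,0,0],[0,0,4,0],[0,0,0,4]]]

/-- Generators over the field with three elements in dimension four. -/
def gens3 : List (List (List ℕ)) :=
  [[[0,1,0,0],[1,0,0,0],[0,0,0,1],[0,0,1,0]],
    [[0,0,1,0],[0,0,0,1],[1,0,0,0],[0,1,0,0]],
    [[1,0,0,0],[0,2,0,0],[0,0,1,0],[0,0,0,2]],
    [[1,0,0,0],[0,1,0,0],[0,0,2,0],[0,0,0,2]]]

/-- Generators over the field with three elements in dimension eight. -/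
def gens8 : List (List (List ℕ)) :=
  [[[0,0,1,0,0,0,0,0],[0,0,0,1,0,0,0,0],[1,0,0,0,0,0,0,0],[0,1,0,0,0,0,0,0],[0,0,0,0,0,0,1,0],[0,0,0,0,0,0,0,1],[0,0,0,0,1,0,0,0],[0,0,0,0,0,1,0,0]],
    [[0,0,0,0,1,0,0,0],[0,0,0,0,0,1,0,0],[0,0,0,0,0,0,1,0],[0,0,0,0,0,0,0,1],[1,0,0,0,0,0,0,0],[0,1,0,0,0,0,0,0],[0,0,1,0,0,0,0,0],[0,0,0,1,0,0,0,0]],
    [[0,1,0,0,0,0,0,0],[2,0,0,0,0,0,0,0],[0,0,0,1,0,0,0,0],[0,0,2,0,0,0,0,0],[0,0,0,0,0,1,0,0],[0,0,0,0,2,0,0,0],[0,0,0,0,0,0,0,1],[0,0,0,0,0,0,2,0]],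
    [[1,1,0,0,0,0,0,0],[1,2,0,0,0,0,0,0],[0,0,1,1,0,0,0,0],[0,0,1,2,0,0,0,0],[0,0,0,0,1,1,0,0],[0,0,0,0,1,2,0,0],[0,0,0,0,0,0,1,1],[0,0,0,0,0,0,1,2]],
    [[1,0,0,0,0,0,0,0],[0,1,0,0,0,0,0,0],[0,0,2,0,0,0,0,0],[0,0,0,2,0,0,0,0],[0,0,0,0,1,0,0,0],[0,0,0,0,0,1,0,0],[0,0,0,0,0,0,2,0],[0,0,0,0,0,0,0,2]],
    [[1,0,0,0,0,0,0,0],[0,1,0,0,0,0,0,0],[0,0,1,0,0,0,0,0],[0,0,0,1,0,0,0,0],[0,0,0,0,2,0,0,0],[0,0,0,0,0,2,0,0],[0,0,0,0,0,0,2,0],[0,0,0,0,0,0,0,2]]]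

/-- The group in dimension four over the field with five elements. -/
def els5 : List (List (List ℕ)) := products 5 4 gens5.reverse

/-- The group in dimension four over the field with three elements. -/
def els3 : List (List (List ℕ)) := products 3 4 gens3.reverse

/-- The group in dimension eight over the field with three elements. -/
def els8 : List (List (List ℕ)) := products 3 8 gens8.reverse

/-- A search. -/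
def jobJ5 : Job :=
  ⟨5,4,els5,gens5, [0,1,1,1], [1,4,2,0],0,1,1,(words 5 4 gens5.reverse).getD 1 [],(words 5 4 gens5.reverse).getD 4 [],none,
    [[2,3,2,3], [3,2,2,3], [3,0,3,0], [0,3,0,2]]⟩

/-- A search. -/
def jobK1 : Job :=
  ⟨3,4,els3,gens3, [0,1,1,1], [2,0,2,0],0,1,1,(words 3 4 gens3.reverse).getD 1 [],(words 3 4 gens3.reverse).getD 5 [],none,
    [[1,2,2,1], [2,1,2,1], [2,0,0,2], [0,2,1,0]]⟩

/-- A search. -/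
def jobK2 : Job :=
  ⟨3,4,els3,gens3, [0,1,1,1], [1,2,2,1],0,1,1,(words 3 4 gens3.reverse).getD 4 [],(words 3 4 gens3.reverse).getD 5 [],none,
    [[1,1,2,1], [2,1,2,2], [2,2,0,0], [0,0,1,1]]⟩

/-- A search. -/
def jobK3 : Job :=
  ⟨3,4,els3,gens3, [0,1,1,1], [0,2,0,0],1,1,2,(words 3 4 gens3.reverse).getD 2 [],(words 3 4 gens3.reverse).getD 5 [],none,
    [[2,0,2,2], [2,2,1,0], [0,2,2,2], [2,2,0,1]]⟩

/-- A search. -/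
def jobL1 : Job :=
  ⟨3,8,els8,gens8, [0,0,0,1,0,1,0,1], [2,1,2,0,0,1,2,1],0,1,1,(words 3 8 gens8.reverse).getD 1 [],(words 3 8 gens8.reverse).getD 6 [],some (gens8.getD 4 []),
    [[0,0,1,0,0,0,1,0], [1,2,0,0,1,2,0,0], [0,0,0,1,0,0,0,2], [2,1,0,0,1,2,0,0], [0,0,2,1,0,0,2,1], [2,0,0,0,2,0,0,0], [0,0,1,2,0,0,2,1], [0,2,0,0,0,1,0,0]]⟩

/-- A search. -/
def jobL2 : Job :=
  ⟨3,8,els8,gens8, [0,0,0,1,0,1,0,1], [2,1,0,0,2,1,1,1],0,1,1,(words 3 8 gens8.reverse).getD 1 [],(words 3 8 gens8.reverse).getD 21 [],some (gens8.getD 2 []),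
    [[0,0,1,2,2,1,0,0], [1,2,0,0,0,0,1,2], [0,0,1,2,1,2,0,0], [2,1,0,0,0,0,1,2], [0,0,0,1,1,0,0,0], [2,0,0,0,0,0,0,1], [0,0,2,0,0,1,0,0], [0,2,0,0,0,0,2,0]]⟩

end CfsgLib.BaseTwo73.Cert
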