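import Cfsg.Agent.BaseTwo73.Colour
import Cfsg.Agent.BaseTwo73.Defs
import Mathlib.Data.ZMod.Basic
import Mathlib.Algebra.Module.ZMod
import Mathlib.LinearAlgebra.Pi
import Cfsg.Agent.BaseThree.Triples
import Mathlib.Algebra.Field.ZMod

/-!
# Bases of two vectors: reducible and imprimitive groups
-/

set_option autoImplicit false
set_option linter.style.haveILetI false

namespace CfsgLib.BaseTwo73

open Equiv CfsgLib.RegOrbit

universe v

local notation:80 a " ⋅ " v:81 => ((a : AutGp _) : AddMonoid.End _) v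

section Pairs

/-- The transvection in dimension two. -/
def shear (p : ℕ) : AutGp (Fin 2 → ZMod p) where
  val := AddMonoidHom.mk' (fun f => f + Pi.single 0 (f 1)) fun f g => by
    rw [Pi.add_apply, Pi.single_add]; abel
  inv := AddMonoidHom.mk' (fun f => f - Pi.single 0 (f 1)) fun f g => by
    rw [Pi.add_apply, Pi.single_add]; abel
  val_inv := AddMonoidHom.ext fun f => by
    show (f - Pi.single 0 (f 1)) + Pi.single 0 ((f - Pi.single 0 (f 1) : Fin 2 → ZMod p) 1) = f
    rw [Pi.sub_apply, Pi.single_eq_of_ne (by decide), sub_zero, sub_add_cancel]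
  inv_val := AddMonoidHom.ext fun f => by
    show (f + Pi.single 0 (f 1)) - Pi.single 0 ((f + Pi.single 0 (f 1) : Fin 2 → ZMod p) 1) = f
    rw [Pi.add_apply, Pi.single_eq_of_ne (by decide), add_zero, add_sub_cancel_right]

theorem shear_pow (p : ℕ) (n : ℕ) (f : Fin 2 → ZMod p) :
    (shear p ^ n) ⋅ f = f + Pi.single 0 (n • f 1) := by
  induction n with
  | zero => rw [pow_zero, zero_nsmul, Pi.single_zero, add_zero]; rfl
  | succ n ih =>
    rw [pow_succ', mul_apply', ih]
    show (f + Pi.single 0 (n • f 1)) + Pi.single 0 ((f + Pi.single 0 (n • f 1) : Fin 2 → ZMod p) 1) = _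
    rw [Pi.add_apply, Pi.single_eq_of_ne (by decide), add_zero, add_assoc, ← Pi.single_add,
      succ_nsmul]

variable {W : Type v} [AddCommGroup W] [Finite W]

theorem exists_pairs_aux [Nontrivial W] {B : Subgroup (AutGp W)} {p : ℕ} [Fact p.Prime]
    [Module (ZMod p) W]
    (hp : ∀ x : W, p • x = 0) (hcop : (Nat.card B).Coprime (Nat.card W)) (hB : RegOrbit.Base B)
    {κ : ℕ} (hκ : κ ≤ p) :
    ∃ τ : Fin κ → W × W,
      (∀ k, ∀ a ∈ B, a ⋅ (τ k).1 = (τ k).1 → a ⋅ (τ k).2 = (τ k).2 → a = 1) ∧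
      ∀ k l, ∀ a ∈ B, a ⋅ (τ k).1 = (τ l).1 → a ⋅ (τ k).2 = (τ l).2 → k = l := by
  have hlin : ∀ (a : AutGp W) (c : ZMod p) x, a ⋅ (c • x) = c • a ⋅ x := fun a c x =>
    (AddMonoidHom.toZModLinearMap p (a : AddMonoid.End W)).map_smul c x
  have hcast : ∀ k l : Fin κ, ((k : ℕ) : ZMod p) = ((l : ℕ) : ZMod p) → k = l := fun k l h => by
    refine Fin.ext ?_
    have := (ZMod.natCast_eq_natCast_iff _ _ p).1 h
    exact this.eq_of_lt_of_lt (k.2.trans_le hκ) (l.2.trans_le hκ)
  by_cases hone : ∃ v : W, v ≠ 0 ∧ ∀ a ∈ B, a ⋅ v = v → a = 1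
  · obtain ⟨v, hv, hreg⟩ := hone
    refine ⟨fun k => (v, ((k : ℕ) : ZMod p) • v), fun k a ha h1 _ => hreg a ha h1,
      fun k l a ha h1 h2 => hcast k l ?_⟩
    simp only [hlin] at h1 h2
    rw [h1] at h2
    exact sub_eq_zero.1 ((smul_eq_zero.1 (show (((k : ℕ) : ZMod p) - ((l : ℕ) : ZMod p)) • v = 0 by
      rw [sub_smul, h2, sub_self])).resolve_right hv)
  push Not at hone
  have hall : ∀ v : W, ∃ a ∈ B, a ⋅ v = v ∧ a ≠ 1 := fun v => by
    by_cases hv : v = 0
    · obtain ⟨u, hu⟩ := exists_ne (0 : W)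
      obtain ⟨a, ha, -, hne⟩ := hone u hu
      exact ⟨a, ha, by rw [hv, map_zero], hne⟩
    · exact hone v hv
  obtain ⟨t₀, t₁, ht⟩ := hB
  let L : (Fin 2 → ZMod p) →ₗ[ZMod p] W :=
    { toFun := fun f => f 0 • t₀ + f 1 • t₁
      map_add' := fun f g => by simp only [Pi.add_apply, add_smul]; abel
      map_smul' := fun c f => by
        simp only [Pi.smul_apply, smul_eq_mul, RingHom.id_apply, smul_add, smul_smul] }
  have hL : ∀ f : Fin 2 → ZMod p, L f = f 0 • t₀ + f 1 • t₁ := fun f => rfl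
  have hLinj : Function.Injective L := by
    rw [injective_iff_map_eq_zero]
    intro f hf
    rw [hL] at hf
    by_contra hne
    obtain ⟨i, hi⟩ := Function.ne_iff.1 hne
    have key : ∀ (c : ZMod p) (x y : W), c ≠ 0 → c • x + y = 0 → ∀ a : AutGp W,
        a ⋅ y = y → a ⋅ x = x := by
      intro c x y hc hxy a hy
      have hx : x = c⁻¹ • (-y) := by
        rw [← eq_neg_of_add_eq_zero_left hxy, smul_smul, inv_mul_cancel₀ hc, one_smul]
      rw [hx, hlin, map_neg, hy]
    fin_cases i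
    · obtain ⟨a, ha, h1, h3⟩ := hall t₁
      exact h3 (ht a ha (key (f 0) t₀ (f 1 • t₁) hi hf a (by rw [hlin, h1])) h1)
    · obtain ⟨a, ha, h1, h3⟩ := hall t₀
      exact h3 (ht a ha h1 (key (f 1) t₁ (f 0 • t₀) hi (by rw [add_comm]; exact hf) a
        (by rw [hlin, h1])))
  have hdet : ∀ a ∈ B, ∀ b ∈ B, (∀ f, a ⋅ L f = b ⋅ L f) → a = b := by
    intro a ha b hb hab
    refine (inv_mul_eq_one.1 (ht _ (mul_mem (inv_mem hb) ha) ?_ ?_)).symm
    · have := hab (Pi.single 0 1)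
      rw [hL] at this; simp at this
      rw [mul_apply', this, inv_apply']
    · have := hab (Pi.single 1 1)
      rw [hL] at this; simp at this
      rw [mul_apply', this, inv_apply']
  let S : Subgroup (AutGp (Fin 2 → ZMod p)) :=
    { carrier := {φ | ∃ a ∈ B, ∀ f, a ⋅ L f = L (φ ⋅ f)}
      one_mem' := ⟨1, one_mem _, fun f => rfl⟩
      mul_mem' := by
        rintro φ ψ ⟨a, ha, h1⟩ ⟨b, hb, h2⟩
        exact ⟨a * b, mul_mem ha hb, fun f => by rw [mul_apply', h2, h1]; rfl⟩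
      inv_mem' := by
        rintro φ ⟨a, ha, h1⟩
        refine ⟨a⁻¹, inv_mem ha, fun f => ?_⟩
        conv_lhs => rw [← apply_inv' φ f, ← h1]
        exact inv_apply' a _ }
  choose α hαB hα using fun φ : S => φ.2
  let ρ : S →* B := MonoidHom.mk' (fun φ => ⟨α φ, hαB φ⟩) fun φ ψ => Subtype.ext
    (hdet _ (hαB _) _ (mul_mem (hαB φ) (hαB ψ)) fun f => (hα (φ * ψ) f).trans (by
      show L _ = (α φ * α ψ : AutGp W).val (L f)
      rw [mul_apply', hα ψ f, hα φ]; rfl))
  have hρ : Function.Injective ρ := fun φ ψ h => Subtype.ext (Units.ext (AddMonoidHom.ext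
    fun f => hLinj ((hα φ f).symm.trans ((congrArg (fun a : B => (a : AutGp W).val (L f)) h).trans
      (hα ψ f)))))
  have hSp : (Nat.card S).Coprime p := by
    refine Nat.Coprime.coprime_dvd_left (Subgroup.card_dvd_of_injective ρ hρ)
      (Nat.Coprime.coprime_dvd_right ?_ hcop)
    obtain ⟨x, hx⟩ := exists_ne (0 : W)
    rw [← addOrderOf_eq_prime (hp x) hx]
    exact addOrderOf_dvd_natCard x
  have hsh : ∀ n : ℕ, shear p ^ n = 1 → (n : ZMod p) = 0 := fun n hn => by
    have h := shear_pow p n (Pi.single 1 1)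
    rw [hn, one_apply'] at h
    have h1 := congrFun h 0
    simp at h1
    exact h1.symm
  have hper : shear p ^ p = 1 := eq_one_of_forall fun f => by
    rw [shear_pow, nsmul_eq_mul, ZMod.natCast_self, zero_mul, Pi.single_zero, add_zero]
  refine ⟨fun k => (L ((shear p ^ (k : ℕ)) ⋅ Pi.single 0 1), L ((shear p ^ (k : ℕ)) ⋅ Pi.single 1 1)),
    fun k a ha h1 h2 => ?_, fun k l a ha h1 h2 => ?_⟩
  all_goals
    have key : ∀ (χ χ' : AutGp (Fin 2 → ZMod p)),
        a ⋅ L (χ ⋅ Pi.single 0 1) = L (χ' ⋅ Pi.single 0 1) →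
        a ⋅ L (χ ⋅ Pi.single 1 1) = L (χ' ⋅ Pi.single 1 1) →
        ∀ f, a ⋅ L f = L ((χ' * χ⁻¹) ⋅ f) := by
      intro χ χ' e0 e1 f
      have hP : ((AddMonoidHom.toZModLinearMap p (a : AddMonoid.End W)).comp L).comp
          (AddMonoidHom.toZModLinearMap p (χ : AddMonoid.End (Fin 2 → ZMod p))) =
          L.comp (AddMonoidHom.toZModLinearMap p (χ' : AddMonoid.End (Fin 2 → ZMod p))) :=
        LinearMap.pi_ext fun i c => by
          rw [show Pi.single i c = c • (Pi.single i 1 : Fin 2 → ZMod p) by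
            funext j; simp [Pi.single_apply], map_smul, map_smul]
          congr 1
          fin_cases i
          · exact e0
          · exact e1
      have := LinearMap.congr_fun hP ((χ⁻¹ : AutGp (Fin 2 → ZMod p)) ⋅ f)
      simp only [LinearMap.comp_apply] at this
      change a ⋅ L (χ ⋅ (χ⁻¹ ⋅ f)) = L (χ' ⋅ (χ⁻¹ ⋅ f)) at this
      rw [apply_inv'] at this
      rw [this, mul_apply']
  · refine hdet a ha 1 (one_mem _) fun f => ?_
    rw [key _ _ h1 h2, mul_inv_cancel]; rfl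
  · have hmem : shear p ^ (l : ℕ) * (shear p ^ (k : ℕ))⁻¹ ∈ S := ⟨a, ha, key _ _ h1 h2⟩
    set σ := shear p ^ (l : ℕ) * (shear p ^ (k : ℕ))⁻¹ with hσ
    have hσp : σ ^ p = 1 := by
      rw [hσ, (((Commute.refl (shear p)).pow_pow _ _).inv_right).mul_pow, inv_pow, ← pow_mul,
        ← pow_mul, mul_comm (l : ℕ), mul_comm (k : ℕ), pow_mul, pow_mul, hper, one_pow, one_pow,
        inv_one, mul_one]
    have hσ1 : σ = 1 := by
      have hdvd := orderOf_dvd_natCard (⟨σ, hmem⟩ : S)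
      rw [Subgroup.orderOf_mk] at hdvd
      exact orderOf_eq_one_iff.1
        (Nat.eq_one_of_dvd_coprimes hSp hdvd (orderOf_dvd_of_pow_eq_one hσp))
    have heq : shear p ^ (l : ℕ) = shear p ^ (k : ℕ) := mul_inv_eq_one.1 (hσ ▸ hσ1)
    refine (hcast l k ?_).symm
    have h := fun n => shear_pow p n (Pi.single 1 1)
    have h5 := congrFun ((h l).symm.trans ((by rw [heq] : (shear p ^ (l : ℕ)) ⋅
      (Pi.single 1 1 : Fin 2 → ZMod p) = (shear p ^ (k : ℕ)) ⋅ Pi.single 1 1).trans (h k))) 0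
    simp at h5
    exact h5


/-- A coprime group with a base of two vectors has `κ` regular orbits on pairs when `κ` is at most
the characteristic. -/
theorem exists_pairs [Nontrivial W] {B : Subgroup (AutGp W)} {p : ℕ} [Fact p.Prime]
    (hp : ∀ x : W, p • x = 0) (hcop : (Nat.card B).Coprime (Nat.card W)) (hB : RegOrbit.Base B)
    {κ : ℕ} (hκ : κ ≤ p) :
    ∃ τ : Fin κ → W × W,
      (∀ k, ∀ a ∈ B, a ⋅ (τ k).1 = (τ k).1 → a ⋅ (τ k).2 = (τ k).2 → a = 1) ∧
      ∀ k l, ∀ a ∈ B, a ⋅ (τ k).1 = (τ l).1 → a ⋅ (τ k).2 = (τ l).2 → k = l := by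
  letI : Module (ZMod p) W := AddCommGroup.zmodModule hp
  exact exists_pairs_aux hp hcop hB hκ

end Pairs

variable {V : Type v} [AddCommGroup V] [Finite V] {A : Subgroup (AutGp V)}

/-- A base from inequivalent regular pairs on the summands and a colouring of the summands. -/
theorem base_of_decomp {ι : Type v} [Fintype ι] {U : ι → AddSubgroup V} (hU : IsDecomp U)
    (σ : A →* Perm ι)
    (hσ : ∀ (a : A) (i : ι), ∀ u ∈ U i, ((a : AutGp V) : AddMonoid.End V) u ∈ U (σ a i))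
    {κ : ℕ} (hc : ∃ c : ι → Fin κ, ∀ g ∈ σ.range, (∀ x, c (g x) = c x) → g = 1)
    (hrec : ∀ i, ∃ τ : Fin κ → Fin 2 → V, (∀ k j, τ k j ∈ U i) ∧
      (∀ k l, ∀ a : A, σ a i = i → (∀ j, ((a : AutGp V) : AddMonoid.End V) (τ k j) = τ l j) →
        k = l) ∧
      ∀ k, ∀ a : A, σ a i = i → (∀ j, ((a : AutGp V) : AddMonoid.End V) (τ k j) = τ k j) →
        ∀ u ∈ U i, ((a : AutGp V) : AddMonoid.End V) u = u) : RegOrbit.Base A := by
  classical
  obtain ⟨c, hc⟩ := hc
  choose τ hτU hτ1 hτ2 using hrec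
  let rel : Setoid ι :=
    { r := fun i j => ∃ a : A, σ a i = j
      iseqv := ⟨fun i => ⟨1, by rw [map_one]; rfl⟩, fun {i j} => fun ⟨a, ha⟩ =>
        ⟨a⁻¹, by rw [map_inv, ← ha]; exact perm_inv_apply _ _⟩,
        fun {i j k} => fun ⟨a, ha⟩ ⟨b, hb⟩ => ⟨b * a, by rw [map_mul, Perm.mul_apply, ha, hb]⟩⟩ }
  let r : ι → ι := fun i => (Quotient.mk rel i).out
  have hr : ∀ i, ∃ a : A, σ a (r i) = i := fun i => Quotient.mk_out (s := rel) i
  choose t ht using hr
  let app : A → V → V := fun a u => ((a : AutGp V) : AddMonoid.End V) u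
  let x : Fin 2 → ι → V := fun j i => app (t i) (τ (r i) (c i) j)
  have hx : ∀ j i, x j i ∈ U i := fun j i => by
    have := hσ (t i) (r i) _ (hτU (r i) (c i) j)
    rwa [ht] at this
  refine ⟨∑ i, x 0 i, ∑ i, x 1 i, fun a ha h0 h1 => ?_⟩
  set α : A := ⟨a, ha⟩ with hα
  have hcomp : ∀ j i, app α (x j i) = x j (σ α i) := by
    intro j i
    have hfix : (a : AddMonoid.End V) (∑ i, x j i) = ∑ i, x j i := by
      fin_cases j
      · exact h0
      · exact h1
    have g1 : ∀ k, app α (x j ((σ α)⁻¹ k)) ∈ U k := fun k => by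
      have := hσ α ((σ α)⁻¹ k) _ (hx j ((σ α)⁻¹ k))
      rwa [perm_apply_inv] at this
    have g2 : ∑ k, app α (x j ((σ α)⁻¹ k)) = ∑ k, x j k := by
      rw [Equiv.sum_comp ((σ α)⁻¹) (fun k => app α (x j k))]
      exact (map_sum (a : AddMonoid.End V) _ _).symm.trans hfix
    have := hU.eq_of_sum_eq g1 (hx j) g2 (σ α i)
    rwa [perm_inv_apply] at this
  have hrr : ∀ i, r (σ α i) = r i := fun i => congrArg Quotient.out (Quotient.sound ⟨α⁻¹, by
    rw [map_inv]; exact perm_inv_apply _ _⟩)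
  have hfixr : ∀ i, σ ((t (σ α i))⁻¹ * α * t i) (r i) = r i := fun i => by
    rw [map_mul, map_mul, Perm.mul_apply, Perm.mul_apply, ht i, map_inv, Perm.inv_eq_iff_eq,
      ← hrr i, ht]
  have hind : ∀ i (z z' : V), app α (app (t i) z) = app (t (σ α i)) z' →
      app ((t (σ α i))⁻¹ * α * t i) z = z' := by
    intro i z z' h
    show ((((t (σ α i))⁻¹ * α * t i : A) : AutGp V) : AddMonoid.End V) z = z'
    rw [Subgroup.coe_mul, Subgroup.coe_mul, mul_apply', mul_apply']
    show (((t (σ α i))⁻¹ : A) : AutGp V).val (app α (app (t i) z)) = z'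
    rw [h]
    exact inv_apply' _ _
  have key : ∀ i j, app ((t (σ α i))⁻¹ * α * t i) (τ (r i) (c i) j) = τ (r i) (c (σ α i)) j := by
    intro i j
    refine hind i _ _ ?_
    have h := hcomp j i
    simp only [x, hrr i] at h
    exact h
  have hσ1 : σ α = 1 := hc (σ α) ⟨α, rfl⟩ fun i =>
    (hτ1 (r i) _ _ _ (hfixr i) (key i)).symm
  refine eq_one_of_forall fun u => ?_
  obtain ⟨z, hz, rfl⟩ := hU.sum u
  rw [map_sum]
  refine Finset.sum_congr rfl fun i _ => ?_
  have hi : σ α i = i := by rw [hσ1]; rfl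
  have hk := key i
  have hf := hfixr i
  rw [hi] at hk hf
  have g0 := hτ2 (r i) (c i) _ hf hk ((((t i)⁻¹ : A) : AutGp V).val (z i)) (by
    have := hσ (t i)⁻¹ i _ (hz i)
    rwa [map_inv, show (σ (t i))⁻¹ i = r i from by rw [Perm.inv_eq_iff_eq, ht]] at this)
  rw [Subgroup.coe_mul, Subgroup.coe_mul, mul_apply', mul_apply', Subgroup.coe_inv,
    apply_inv'] at g0
  have h3 := congrArg (fun u => ((t i : A) : AutGp V).val u) g0
  simp only [apply_inv'] at h3
  exact h3

theorem pair_on (ih : CopBelow.{v} (Nat.card V)) (hsol : Group.IsSolvable A)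
    (hcop : (Nat.card A).Coprime (Nat.card V)) {H : Subgroup (AutGp V)} (hHA : H ≤ A)
    {U : AddSubgroup V} (hHU : ∀ h ∈ H, ∀ u ∈ U, h ⋅ u ∈ U) (hU : U ≠ ⊤) :
    RegOrbit.Base (resHom U H hHU).range ∧
      (Nat.card (resHom U H hHU).range).Coprime (Nat.card U) := by
  haveI := RegOrbit.isSolvable_of_le hHA hsol
  have hc : (Nat.card (resHom U H hHU).range).Coprime (Nat.card U) :=
    Nat.Coprime.coprime_dvd_right (AddSubgroup.card_addSubgroup_dvd_card U)
      (Nat.Coprime.coprime_dvd_left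
        ((Subgroup.card_range_dvd _).trans (Subgroup.card_dvd_of_le hHA)) hcop)
  exact ⟨ih U inferInstance inferInstance _ (natCard_lt_of_ne_top hU)
    (Group.isSolvable_of_surjective (resHom U H hHU).rangeRestrict_surjective) hc, hc⟩

/-- The reducible case. -/
theorem base_of_reducible (hsol : Group.IsSolvable A) (hcop : (Nat.card A).Coprime (Nat.card V))
    (ih : CopBelow.{v} (Nat.card V)) {U : AddSubgroup V} (hU : Inv A U) (hU0 : U ≠ ⊥)
    (hU1 : U ≠ ⊤) : RegOrbit.Base A := by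
  classical
  haveI := hsol
  obtain ⟨⟨x, y, hxy⟩, -⟩ := pair_on ih hsol hcop le_rfl hU hU1
  -- the quotient
  let π := QuotientAddGroup.mk' U
  have hπ : Function.Surjective π := QuotientAddGroup.mk'_surjective U
  let f₀ : A → V ⧸ U →+ V ⧸ U := fun a =>
    QuotientAddGroup.map U U ((a : AutGp V) : AddMonoid.End V) fun u hu => hU a a.2 u hu
  let q₀ : A →* AddMonoid.End (V ⧸ U) :=
    { toFun := fun a => f₀ a
      map_one' := AddMonoidHom.ext fun z => by obtain ⟨z, rfl⟩ := hπ z; rfl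
      map_mul' := fun a b => AddMonoidHom.ext fun z => by obtain ⟨z, rfl⟩ := hπ z; rfl }
  let q : A →* AutGp (V ⧸ U) := q₀.toHomUnits
  have hq : ∀ (a : A) (z : V), q a ⋅ π z = π ((a : AutGp V) ⋅ z) := fun a z => rfl
  haveI : Finite (V ⧸ U) := Quotient.finite _
  have hlt : Nat.card (V ⧸ U) < Nat.card V := by
    have h1 := AddSubgroup.card_eq_card_quotient_mul_card_addSubgroup U
    have h2 : 1 < Nat.card U := by
      by_contra h
      exact hU0 (AddSubgroup.card_eq_one.1 (le_antisymm (not_lt.1 h) Nat.card_pos))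
    rw [h1]
    exact lt_mul_of_one_lt_right Nat.card_pos h2
  have hqcop : (Nat.card q.range).Coprime (Nat.card (V ⧸ U)) :=
    Nat.Coprime.coprime_dvd_right (AddSubgroup.card_quotient_dvd_card U)
      (Nat.Coprime.coprime_dvd_left (Subgroup.card_range_dvd q) hcop)
  obtain ⟨X, Y, hXY⟩ := ih (V ⧸ U) inferInstance inferInstance q.range hlt
    (Group.isSolvable_of_surjective q.rangeRestrict_surjective) hqcop
  -- fixed representatives of the stabilizer of the pair
  let B : Subgroup A := q.ker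
  haveI : Fintype B := Fintype.ofFinite B
  obtain ⟨k, hk⟩ : ∃ k : ℕ, ∀ v : V, (k * Nat.card B) • v = v := by
    have hc : (Nat.card B).Coprime (Nat.card V) :=
      Nat.Coprime.coprime_dvd_left B.card_subgroup_dvd_card hcop
    refine ⟨((Nat.card B : ZMod (Nat.card V))⁻¹).val, fun v => ?_⟩
    have hmod : ((Nat.card B : ZMod (Nat.card V))⁻¹).val * Nat.card B ≡ 1 [MOD Nat.card V] := by
      haveI : NeZero (Nat.card V) := ⟨Nat.card_pos.ne'⟩
      rw [← ZMod.natCast_eq_natCast_iff]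
      push_cast
      rw [ZMod.natCast_zmod_val, mul_comm, ZMod.coe_mul_inv_eq_one _ hc]
    exact ((nsmul_eq_nsmul_iff_modEq).2 (hmod.of_dvd (addOrderOf_dvd_natCard v))).trans (one_nsmul v)
  have hrep : ∀ Z : V ⧸ U, ∃ z : V, π z = Z ∧ ∀ b ∈ B, ((b : A) : AutGp V) ⋅ z = z := by
    intro Z
    obtain ⟨z, rfl⟩ := hπ Z
    refine ⟨k • ∑ b : B, ((b : A) : AutGp V) ⋅ z, ?_, fun b hb => ?_⟩
    · have h1 : ∀ b : B, π (((b : A) : AutGp V) ⋅ z) = π z := fun b => by
        rw [← hq, show q (b : A) = 1 from b.2]; rfl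
      rw [map_nsmul, map_sum]
      simp only [h1, Finset.sum_const, Finset.card_univ]
      rw [← mul_nsmul', ← map_nsmul, ← Nat.card_eq_fintype_card, hk]
    · rw [map_nsmul, map_sum]
      congr 1
      refine Fintype.sum_equiv (Equiv.mulLeft ⟨b, hb⟩) _ _ fun c => ?_
      simp only [Equiv.coe_mulLeft, Subgroup.coe_mul, mul_apply']
  obtain ⟨x₀, hx₀, hbx⟩ := hrep X
  obtain ⟨y₀, hy₀, hby⟩ := hrep Y
  refine ⟨x₀ + (x : V), y₀ + (y : V), fun a ha h1 h2 => ?_⟩
  have hu : ∀ u : U, π (u : V) = 0 := fun u => (QuotientAddGroup.eq_zero_iff _).2 u.2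
  have hb : (⟨a, ha⟩ : A) ∈ B := by
    refine MonoidHom.mem_ker.2 (hXY _ ⟨_, rfl⟩ ?_ ?_)
    · have h := congrArg π h1
      rw [← hq ⟨a, ha⟩, map_add, hu, add_zero, hx₀] at h
      exact h
    · have h := congrArg π h2
      rw [← hq ⟨a, ha⟩, map_add, hu, add_zero, hy₀] at h
      exact h
  rw [map_add, hbx _ hb] at h1
  rw [map_add, hby _ hb] at h2
  have hres := hxy _ ⟨⟨a, ha⟩, rfl⟩ (Subtype.ext (add_left_cancel h1))
    (Subtype.ext (add_left_cancel h2))
  refine eq_one_of_forall fun v => ?_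
  have hd : a ⋅ v - v ∈ U := by
    rw [← QuotientAddGroup.eq_zero_iff]
    show π (a ⋅ v - v) = 0
    rw [map_sub, ← hq ⟨a, ha⟩, MonoidHom.mem_ker.1 hb, one_apply', sub_self]
  set d := a ⋅ v - v with hdd
  have had : a ⋅ d = d := congrArg (fun b : AutGp U =>
    ((((b : AddMonoid.End U) ⟨d, hd⟩ : U)) : V)) hres
  have hpow : ∀ n : ℕ, (a ^ n) ⋅ v = v + n • d := by
    intro n
    induction n with
    | zero => rw [pow_zero, zero_nsmul, add_zero]; rfl
    | succ n ih =>
      rw [pow_succ', mul_apply', ih, map_add, map_nsmul, had, succ_nsmul', ← add_assoc, hdd,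
        add_sub_cancel]
  have h0 := hpow (orderOf a)
  rw [pow_orderOf_eq_one, one_apply', eq_comm, add_eq_left] at h0
  have hd1 : addOrderOf d ∣ Nat.gcd (Nat.card A) (Nat.card V) :=
    Nat.dvd_gcd ((addOrderOf_dvd_of_nsmul_eq_zero h0).trans
      ((Subgroup.orderOf_mk a ha).symm ▸ orderOf_dvd_natCard _)) (addOrderOf_dvd_natCard d)
  rw [hcop.gcd_eq_one, Nat.dvd_one, AddMonoid.addOrderOf_eq_one_iff] at hd1
  exact sub_eq_zero.1 hd1

/-- The imprimitive irreducible case in odd characteristic. -/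
theorem base_of_imprimitive [Nontrivial V] (hsol : Group.IsSolvable A)
    (hcop : (Nat.card A).Coprime (Nat.card V)) (hirr : Irred A)
    (ih : CopBelow.{v} (Nat.card V)) (h2 : ¬ 2 ∣ Nat.card V)
    {ι : Type v} [Fintype ι] {U : ι → AddSubgroup V} (hU : IsDecomp U) (σ : A →* Perm ι)
    (hσ : ∀ (a : A) (i : ι), ∀ u ∈ U i, ((a : AutGp V) : AddMonoid.End V) u ∈ U (σ a i))
    (hι : ¬ Subsingleton ι) : RegOrbit.Base A := by
  classical
  haveI := hsol
  obtain ⟨p, hp, hexp⟩ := BaseThree.exists_prime_nsmul_eq_zero hirr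
  haveI := Fact.mk hp
  have hpV : p ∣ Nat.card V := by
    obtain ⟨x, hx⟩ := exists_ne (0 : V)
    rw [← addOrderOf_eq_prime (hexp x) hx]
    exact addOrderOf_dvd_natCard x
  have hp2 : p ≠ 2 := fun h => h2 (h ▸ hpV)
  have hne : ∀ i, U i ≠ ⊤ := fun i htop => hι (by
    have hall : ∀ j, j = i := by
      intro j
      by_contra hji
      obtain ⟨w, hw, hw0⟩ := (U j).bot_or_exists_ne_zero.resolve_left (hU.ne j)
      refine hw0 ?_
      have := hU.eq_of_sum_eq (x := Pi.single j w) (y := Pi.single i w) (fun k => ?_) (fun k => ?_)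
        (by rw [Finset.sum_pi_single', Finset.sum_pi_single']; simp) j
      · rwa [Pi.single_eq_same, Pi.single_eq_of_ne hji] at this
      · by_cases h : k = j
        · subst h; rwa [Pi.single_eq_same]
        · rw [Pi.single_eq_of_ne h]; exact zero_mem _
      · by_cases h : k = i
        · subst h; rw [Pi.single_eq_same, htop]; exact AddSubgroup.mem_top _
        · rw [Pi.single_eq_of_ne h]; exact zero_mem _
    exact ⟨fun a b => (hall a).trans (hall b).symm⟩)
  have main : ∀ κ ≤ p, (∃ c : ι → Fin κ, ∀ g ∈ σ.range, (∀ x, c (g x) = c x) → g = 1) →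
      RegOrbit.Base A := by
    intro κ hκ hc
    refine base_of_decomp hU σ hσ hc fun i => ?_
    let H : Subgroup (AutGp V) := ((MulAction.stabilizer (Perm ι) i).comap σ).map A.subtype
    have hHA : H ≤ A := Subgroup.map_subtype_le _
    have hHU : ∀ h ∈ H, ∀ u ∈ U i, h ⋅ u ∈ U i := by
      rintro _ ⟨a, ha, rfl⟩ u hu
      have := hσ a i u hu
      rwa [show σ a i = i from ha] at this
    obtain ⟨hb, hc'⟩ := pair_on ih hsol hcop hHA hHU (hne i)
    haveI : Nontrivial (U i) := (U i).nontrivial_iff_ne_bot.2 (hU.ne i)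
    obtain ⟨τ, hτ1, hτ2⟩ :=
      exists_pairs (p := p) (fun x : U i => Subtype.ext (hexp (x : V))) hc' hb hκ
    refine ⟨fun k => ![((τ k).1 : V), ((τ k).2 : V)], fun k j => ?_, fun k l a ha hkl => ?_,
      fun k a ha hk u hu => ?_⟩
    · fin_cases j
      · exact (τ k).1.2
      · exact (τ k).2.2
    · exact hτ2 k l _ ⟨⟨_, a, ha, rfl⟩, rfl⟩ (Subtype.ext (hkl 0)) (Subtype.ext (hkl 1))
    · have h4 := hτ1 k _ ⟨⟨_, a, ha, rfl⟩, rfl⟩ (Subtype.ext (hk 0)) (Subtype.ext (hk 1))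
      exact congrArg Subtype.val (DFunLike.congr_fun (congrArg Units.val h4) ⟨u, hu⟩)
  haveI hσsol := Group.isSolvable_of_surjective σ.rangeRestrict_surjective
  by_cases hp3 : p = 3
  · refine main 3 hp3.ge (exists_colour3 _ ι rfl σ.range hσsol fun h => ?_)
    have h' := Nat.dvd_gcd (h.trans (Subgroup.card_range_dvd σ)) (hp3 ▸ hpV)
    rw [hcop.gcd_eq_one] at h'
    norm_num at h'
  · have hp5 : 5 ≤ p := by
      have h := hp.two_le
      by_contra h'
      interval_cases p <;> simp_all (config := { decide := true })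
    exact main 5 hp5 (BaseThree.exists_colourBase (M := Nat.card ι + 1)
      (fun W _ _ B _ hB hcr => BaseThree.base_of_solvable hB hcr) _ (Nat.lt_succ_self _) ι rfl
      σ.range hσsol)

end CfsgLib.BaseTwo73
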