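import Cfsg.Agent.BaseTwo73.Four

/-!
# The model in dimension eight over the field with three elements
-/

set_option autoImplicit false
set_option linter.style.haveILetI false

namespace CfsgLib.BaseTwo73

open CfsgLib.RegOrbit

universe v u

variable {V : Type v} [AddCommGroup V] {K : Type u} [Field K] [Module K V]
  {G E : Subgroup (AutGp V)}

local notation:80 a " ⋅ " v:81 => ((a : AutGp _) : AddMonoid.End _) v

theorem charP_of_card {q : ℕ} (hqp : q.Prime) (hq : Nat.card K = q) : CharP K q := by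
  haveI := Fact.mk hqp
  haveI : Finite K := Nat.finite_of_card_ne_zero (hq ▸ hqp.ne_zero)
  haveI := Fintype.ofFinite K
  obtain ⟨p, hp⟩ := CharP.exists K
  have h0 : (q : K) = 0 := by
    rw [← hq, Nat.card_eq_fintype_card]; exact FiniteField.cast_card_eq_zero K
  rcases (Nat.dvd_prime hqp).1 ((CharP.cast_eq_zero_iff K p q).1 h0) with rfl | rfl
  · exact absurd hp (fun h => CharP.char_ne_one K 1 rfl)
  · exact hp

/-- The values of the field with three elements. -/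
theorem three_cases (hK : Nat.card K = 3) (t : K) : t = 0 ∨ t = 1 ∨ t = -1 := by
  haveI := charP_of_card Nat.prime_three hK
  obtain ⟨k, hk, rfl⟩ := natCast_surj Nat.prime_three hK t
  interval_cases k
  · exact Or.inl Nat.cast_zero
  · exact Or.inr (Or.inl Nat.cast_one)
  · refine Or.inr (Or.inr (eq_neg_of_add_eq_zero_left ?_))
    exact_mod_cast CharP.cast_eq_zero K 3

theorem two_ne_three (hK : Nat.card K = 3) : (2 : K) ≠ 0 := fun h => by
  haveI := charP_of_card Nat.prime_three hK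
  have h' := (CharP.cast_eq_zero_iff K 3 2).1 (by exact_mod_cast h)
  omega

theorem sq_ne_neg_one (hK : Nat.card K = 3) (t : K) : t * t ≠ -1 := fun h => by
  have h2 := two_ne_three (K := K) hK
  rcases three_cases hK t with rfl | rfl | rfl
  · simp at h
  · exact h2 (by linear_combination h)
  · exact h2 (by linear_combination h)

/-- A square root of `-1` has no eigenvector. -/
theorem pair_indep (hK : Nat.card K = 3) {x : AutGp V} (hx : Lin K x)
    (hxx : ∀ v : V, x ⋅ (x ⋅ v) = -v) {w : V} (hw : w ≠ 0) {a b : K}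
    (h : a • w + b • x ⋅ w = 0) : a = 0 ∧ b = 0 := by
  have h1 := congrArg ((x : AddMonoid.End V) : V → V) h
  rw [map_add, map_zero, hx, hx, hxx, smul_neg] at h1
  have h3 : (a * a + b * b) • w = a • (a • w + b • x ⋅ w) - b • (a • x ⋅ w + -(b • w)) := by
    simp only [smul_add, smul_neg, smul_smul, add_smul, mul_comm b a]
    abel
  rw [h, h1, smul_zero, smul_zero, sub_zero] at h3
  have hab := (smul_eq_zero.1 h3).resolve_right hw
  by_cases hb : b = 0
  · exact ⟨mul_self_eq_zero.1 (by simpa [hb] using hab), hb⟩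
  · exfalso
    refine sq_ne_neg_one hK (a / b) ?_
    field_simp
    linear_combination hab

/-- Two frames of dimension four and a pair of anticommuting roots of `-1`. -/
structure FrameEight (K : Type u) [Field K] [Module K V] (E : Subgroup (AutGp V)) extends
    FrameFour K E where
  i : AutGp V
  j : AutGp V
  hi : i ∈ E
  hj : j ∈ E
  sqi : ∀ v : V, i ⋅ (i ⋅ v) = -v
  sqj : ∀ v : V, j ⋅ (j ⋅ v) = -v
  ij : Sgn i j (-1 : K)
  il₁ : Sgn i l₁ (1 : K)
  il₂ : Sgn i l₂ (1 : K)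
  ih₁ : Sgn i h₁ (1 : K)
  ih₂ : Sgn i h₂ (1 : K)
  jl₁ : Sgn j l₁ (1 : K)
  jl₂ : Sgn j l₂ (1 : K)
  jh₁ : Sgn j h₁ (1 : K)
  jh₂ : Sgn j h₂ (1 : K)
  j_apply : j ⋅ w₀ = w₀ + i ⋅ w₀

/-- Making an element commute with the frame, keeping its action on the common fixed vectors. -/
theorem FrameFour.adjust (F : FrameFour K E) (s : Sys K G E) (hsq : SqHyp K E) {m : AutGp V}
    (hm : m ∈ E) (hf₁ : F.l₁ ⋅ (m ⋅ F.w₀) = m ⋅ F.w₀) (hf₂ : F.l₂ ⋅ (m ⋅ F.w₀) = m ⋅ F.w₀) :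
    ∃ m' ∈ E, Sgn m' F.l₁ (1 : K) ∧ Sgn m' F.l₂ (1 : K) ∧ Sgn m' F.h₁ (1 : K) ∧
      Sgn m' F.h₂ (1 : K) ∧ ∀ v : V, F.l₁ ⋅ v = v → F.l₂ ⋅ v = v → m' ⋅ v = m ⋅ v := by
  haveI : Nontrivial V := nontrivial_of_ne _ _ F.w₀_ne
  have h1 : (1 : K) * 1 = 1 := one_mul 1
  have key : ∀ l ∈ E, l ⋅ F.w₀ = F.w₀ → l ⋅ (m ⋅ F.w₀) = m ⋅ F.w₀ → Sgn m l (1 : K) := by
    intro l hl hfix hfix'
    obtain ⟨t, ht⟩ := s.comm m hm l hl
    have h := ht F.w₀
    rw [hfix, hfix'] at h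
    have : (1 : K) = t := smul_left_injective K (map_ne_zero' m F.w₀_ne) ((one_smul K _).trans h)
    exact this ▸ ht
  have a1 := key _ F.hl₁ F.fix₁ hf₁
  have a2 := key _ F.hl₂ F.fix₂ hf₂
  obtain ⟨n, hn, b1, b2, b3, bv⟩ : ∃ n ∈ E, Sgn n F.l₁ (1 : K) ∧ Sgn n F.l₂ (1 : K) ∧
      Sgn n F.h₁ (1 : K) ∧ ∀ v : V, F.l₁ ⋅ v = v → F.l₂ ⋅ v = v → n ⋅ v = m ⋅ v := by
    rcases sgn_sign s hsq hm F.hh₁ with h | h
    · exact ⟨m, hm, a1, a2, h, fun _ _ _ => rfl⟩
    · refine ⟨m * F.l₁, E.mul_mem hm F.hl₁, ?_, ?_, ?_, fun v hv _ => by rw [mul_apply', hv]⟩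
      · simpa using a1.mul_left (Sgn.refl F.l₁) (s.linE hm)
      · simpa using a2.mul_left F.l₁l₂ (s.linE hm)
      · simpa using h.mul_left F.l₁h₁ (s.linE hm)
  rcases sgn_sign s hsq hn F.hh₂ with h | h
  · exact ⟨n, hn, b1, b2, b3, h, bv⟩
  · refine ⟨n * F.l₂, E.mul_mem hn F.hl₂, ?_, ?_, ?_, ?_,
      fun v hv hv' => by rw [mul_apply', hv', bv v hv hv']⟩
    · simpa using b1.mul_left (F.l₁l₂.symm h1) (s.linE hn)
    · simpa using b2.mul_left (Sgn.refl F.l₂) (s.linE hn)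
    · simpa using b3.mul_left F.l₂h₁ (s.linE hn)
    · simpa using h.mul_left F.l₂h₂ (s.linE hn)

variable [Finite V]

/-- The frame from two splittings ending at a fixed point free plane. -/
theorem exists_frameEight {s : Sys K G E} (hsq : SqHyp K E) (hK : Nat.card K = 3) (D : Split s)
    (D₂ : Split D.sys) (hfpf : Fpf D₂.E₁) (hn : Module.finrank K D₂.W = 2)
    {x : AutGp D₂.W} (hx : x ∈ D₂.E₁) (hns : ¬ ∃ t : K, ∀ v : D₂.W, x ⋅ v = t • v) :
    Nonempty (FrameEight K E) := by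
  haveI := D.nontrivial
  haveI := D₂.nontrivial
  obtain ⟨F, hF, hFv⟩ := exists_frameFour hsq (Or.inl hK) D D₂
  have hsq₂ : SqHyp K D₂.E₁ := (hsq.sub D).sub D₂
  haveI : Nontrivial D₂.W :=
    nontrivial_of_ne (⟨D₂.w₀, D₂.w₀_fix⟩ : D₂.W) 0 (fun h => D₂.w₀_ne (congrArg Subtype.val h))
  obtain ⟨y, hy, hxy⟩ : ∃ y ∈ D₂.E₁, Sgn x y (-1 : K) := by
    by_contra h
    push Not at h
    exact hns (D₂.sys.rad x hx fun y hy =>
      ((sgn_sign D₂.sys hsq₂ hx hy).resolve_right (h y hy)).commute)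
  have hneg : ∀ z ∈ D₂.E₁, ∀ y' ∈ D₂.E₁, Sgn z y' (-1 : K) → ∀ v : D₂.W, z ⋅ (z ⋅ v) = -v := by
    intro z hz y' _ hzy v
    obtain ⟨c, hc, -⟩ := hsq₂ z hz
    rcases three_cases hK c with rfl | rfl | rfl
    · obtain ⟨u, hu⟩ := exists_ne (0 : D₂.W)
      exact absurd (by rw [hc, zero_smul]) (map_ne_zero' z (map_ne_zero' z hu))
    · exfalso
      have hz1 : z ≠ 1 := by
        rintro rfl
        have h' : Sgn (1 : AutGp D₂.W) y' (1 : K) := fun v => by rw [one_smul]; rfl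
        exact two_ne_three hK (by linear_combination (h'.unique hzy))
      have hall : ∀ u : D₂.W, z ⋅ u = -u := fun u => by
        by_contra h
        refine hz1 (hfpf z hz (u + z ⋅ u) (fun h0 => h (eq_neg_of_add_eq_zero_right h0)) ?_)
        rw [map_add, hc, one_smul, add_comm]
      have h' : Sgn z y' (1 : K) := fun v => by rw [hall, hall, map_neg, one_smul]
      exact two_ne_three hK (by linear_combination (h'.unique hzy))
    · rw [hc, neg_smul, one_smul]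
  have hxx := hneg x hx y hy hxy
  have hyy := hneg y hy x hx (hxy.symm (by ring))
  have hLx : Lin K x := D₂.sys.linE hx
  set w : D₂.W := ⟨D₂.w₀, D₂.w₀_fix⟩ with hwdef
  have hw : w ≠ 0 := fun h => D₂.w₀_ne (congrArg Subtype.val h)
  obtain ⟨⟨a, b⟩, hab⟩ : ∃ p : K × K, y ⋅ w = p.1 • w + p.2 • x ⋅ w := by
    haveI : Finite K := Nat.finite_of_card_ne_zero (by omega)
    haveI : Module.Finite K D₂.W := Module.Finite.of_finite
    have hinj : Function.Injective fun p : K × K => p.1 • w + p.2 • x ⋅ w := by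
      intro p p' h
      obtain ⟨h1, h2⟩ := pair_indep hK hLx hxx hw (a := p.1 - p'.1) (b := p.2 - p'.2)
        (by rw [← sub_eq_zero.2 h]; simp only [sub_smul]; abel)
      exact Prod.ext (sub_eq_zero.1 h1) (sub_eq_zero.1 h2)
    obtain ⟨p, hp⟩ := (hinj.bijective_of_nat_card_le (by
      rw [Module.natCard_eq_pow_finrank (K := K) (V := D₂.W), hn, Nat.card_prod, pow_two])).2 (y ⋅ w)
    exact ⟨p, hp.symm⟩
  have hb : b ≠ 0 := fun h => by
    rw [h, zero_smul, add_zero] at hab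
    have h1 := hyy w
    rw [hab, D₂.sys.lin y hy, hab, smul_smul, ← neg_one_smul K w] at h1
    exact sq_ne_neg_one hK a (smul_left_injective K hw h1)
  have ha : a ≠ 0 := fun h => by
    rw [h, zero_smul, zero_add] at hab
    have h1 := hxy w
    rw [hab, hLx, hxx, neg_smul, one_smul, smul_neg, neg_inj] at h1
    -- `x ⋅ w` is an eigenvector of `y`
    have h2 := hyy (x ⋅ w)
    rw [← h1, D₂.sys.lin y hy, hab, smul_smul, ← neg_one_smul K (x ⋅ w)] at h2
    exact sq_ne_neg_one hK b (smul_left_injective K (map_ne_zero' x hw) h2)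
  -- the element sending `w` to `w + x w`
  obtain ⟨z, hz, hxz, hzw⟩ : ∃ z ∈ D₂.E₁, Sgn x z (-1 : K) ∧ z ⋅ w = w + x ⋅ w := by
    obtain ⟨N, hN, hNv⟩ := D₂.sys.scal (-1 : K) (neg_ne_zero.2 one_ne_zero)
    have hxN : Sgn x N (1 : K) := fun v => by rw [hNv, hNv, hLx, one_smul]
    have hxxy : Sgn x (x * y) (-1 : K) := by simpa using (Sgn.refl x).mul_right hxy hLx
    have hxyw : (x * y) ⋅ w = a • x ⋅ w + -(b • w) := by
      rw [mul_apply', hab, map_add, hLx, hLx, hxx, smul_neg]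
    have n1 : ∀ u : D₂.W, (-1 : K) • u = -u := fun u => Subtype.ext (Subtype.ext (by simp))
    rcases (three_cases hK a).resolve_left ha with rfl | rfl <;>
      rcases (three_cases hK b).resolve_left hb with rfl | rfl
    · exact ⟨y, hy, hxy, by rw [hab, one_smul, one_smul]⟩
    · exact ⟨x * y, D₂.E₁.mul_mem hx hy, hxxy, by
        rw [hxyw]; simp only [n1, one_smul, neg_neg, neg_add] <;> abel⟩
    · refine ⟨N * (x * y), D₂.E₁.mul_mem hN (D₂.E₁.mul_mem hx hy), ?_, ?_⟩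
      · simpa using hxN.mul_right hxxy (D₂.sys.linE hN)
      · rw [mul_apply', hxyw, hNv]; simp only [n1, one_smul, neg_neg, neg_add] <;> abel
    · refine ⟨N * y, D₂.E₁.mul_mem hN hy, ?_, ?_⟩
      · simpa using hxN.mul_right hxy (D₂.sys.linE hN)
      · rw [mul_apply', hab, hNv]; simp only [n1, one_smul, neg_neg, neg_add] <;> abel
  have hzz := hneg z hz x hx (hxz.symm (by ring))
  -- lifting
  have lift : ∀ e ∈ D₂.E₁, ∃ m ∈ E, Sgn m F.l₁ (1 : K) ∧ Sgn m F.l₂ (1 : K) ∧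
      Sgn m F.h₁ (1 : K) ∧ Sgn m F.h₂ (1 : K) ∧
      ∀ v : D₂.W, m ⋅ ((v : D.W) : V) = (((e ⋅ v : D₂.W) : D.W) : V) := by
    intro e he
    obtain ⟨m₁, hm₁, -, hm₁v⟩ := D₂.lift he
    obtain ⟨m, hm, -, hmv⟩ := D.lift hm₁
    have hv : ∀ v : D₂.W, m ⋅ ((v : D.W) : V) = (((e ⋅ v : D₂.W) : D.W) : V) := fun v => by
      rw [hm₁v, hmv]
    obtain ⟨m', hm', c1, c2, c3, c4, hm'v⟩ := F.adjust s hsq hm
      (by rw [hF, show ((D₂.w₀ : D.W) : V) = ((w : D.W) : V) from rfl, hv]; exact (hFv _).1)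
      (by rw [hF, show ((D₂.w₀ : D.W) : V) = ((w : D.W) : V) from rfl, hv]; exact (hFv _).2)
    exact ⟨m', hm', c1, c2, c3, c4, fun v => by rw [hm'v _ (hFv v).1 (hFv v).2, hv]⟩
  obtain ⟨i, hi, i1, i2, i3, i4, hiv⟩ := lift x hx
  obtain ⟨j, hj, j1, j2, j3, j4, hjv⟩ := lift z hz
  have hw' : F.w₀ = ((w : D.W) : V) := hF
  have sq : ∀ m ∈ E, ∀ e : AutGp D₂.W,
      (∀ v : D₂.W, m ⋅ ((v : D.W) : V) = (((e ⋅ v : D₂.W) : D.W) : V)) →
      (∀ v : D₂.W, e ⋅ (e ⋅ v) = -v) → ∀ v : V, m ⋅ (m ⋅ v) = -v := by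
    intro m hm e hme hee v
    obtain ⟨c, hc, -⟩ := hsq m hm
    have h1 := hc F.w₀
    rw [hw', hme, hme, hee, Submodule.coe_neg, Submodule.coe_neg, ← hw', ← neg_one_smul K F.w₀] at h1
    rw [hc, ← smul_left_injective K F.w₀_ne h1, neg_smul, one_smul]
  refine ⟨{ toFrameFour := F, i := i, j := j, hi := hi, hj := hj, sqi := sq i hi x hiv hxx,
            sqj := sq j hj z hjv hzz, ij := ?_, il₁ := i1, il₂ := i2, ih₁ := i3, ih₂ := i4,
            jl₁ := j1, jl₂ := j2, jh₁ := j3, jh₂ := j4, j_apply := ?_ }⟩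
  · obtain ⟨t, ht⟩ := s.comm i hi j hj
    have h1 := ht F.w₀
    rw [hw', hjv, hiv, hiv, hjv, hxz, Submodule.coe_smul, Submodule.coe_smul] at h1
    have : (-1 : K) = t := by
      refine smul_left_injective K ?_ h1
      intro h0
      exact map_ne_zero' z (map_ne_zero' x hw) (Subtype.ext (Subtype.ext h0))
    exact this ▸ ht
  · rw [hw', hjv, hzw, hiv]; rfl

end CfsgLib.BaseTwo73
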