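import Cfsg.Agent.BaseTwo73.Build
import Cfsg.Agent.BaseTwo73.Checks

/-!
# The models in dimension four
-/

set_option autoImplicit false
set_option linter.style.haveILetI false

namespace CfsgLib.BaseTwo73

open CfsgLib.RegOrbit

universe v u

variable {V : Type v} [AddCommGroup V] {K : Type u} [Field K] [Module K V]
  {G E : Subgroup (AutGp V)}

local notation:80 a " ⋅ " v:81 => ((a : AutGp _) : AddMonoid.End _) v

/-- Two commuting singular involutions with commuting partners and a common fixed vector. -/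
structure FrameFour (K : Type u) [Field K] [Module K V] (E : Subgroup (AutGp V)) where
  l₁ : AutGp V
  l₂ : AutGp V
  h₁ : AutGp V
  h₂ : AutGp V
  hl₁ : l₁ ∈ E
  hl₂ : l₂ ∈ E
  hh₁ : h₁ ∈ E
  hh₂ : h₂ ∈ E
  w₀ : V
  w₀_ne : w₀ ≠ 0
  fix₁ : l₁ ⋅ w₀ = w₀
  fix₂ : l₂ ⋅ w₀ = w₀
  sql₁ : ∀ v : V, l₁ ⋅ (l₁ ⋅ v) = v
  sql₂ : ∀ v : V, l₂ ⋅ (l₂ ⋅ v) = v
  sqh₁ : ∀ v : V, h₁ ⋅ (h₁ ⋅ v) = v
  sqh₂ : ∀ v : V, h₂ ⋅ (h₂ ⋅ v) = v
  l₁l₂ : Sgn l₁ l₂ (1 : K)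
  h₁h₂ : Sgn h₁ h₂ (1 : K)
  l₁h₁ : Sgn l₁ h₁ (-1 : K)
  l₁h₂ : Sgn l₁ h₂ (1 : K)
  l₂h₁ : Sgn l₂ h₁ (1 : K)
  l₂h₂ : Sgn l₂ h₂ (-1 : K)

variable [Finite V]

/-- Replacing `x` to make it an involution, keeping its commutations. -/
theorem exists_involution (s : Sys K G E) (hsq : SqHyp K E)
    (hK : Nat.card K = 3 ∨ Nat.card K = 5) {x l : AutGp V} (hx : x ∈ E) (hl : l ∈ E)
    (hlx : Sgn l x (-1 : K)) (hll : ∀ v : V, l ⋅ (l ⋅ v) = v) [Nontrivial V] :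
    ∃ y ∈ E, (∀ v : V, y ⋅ (y ⋅ v) = v) ∧ Sgn l y (-1 : K) ∧
      ∀ z ∈ E, Sgn z l (1 : K) → ∀ t : K, Sgn z x t → Sgn z y t := by
  obtain ⟨c, hc, hc5⟩ := hsq x hx
  have hc0 : c ≠ 0 := fun h => by
    obtain ⟨v, hv⟩ := exists_ne (0 : V)
    exact map_ne_zero' x (map_ne_zero' x hv) (by rw [hc, h, zero_smul])
  haveI : Finite K := Nat.finite_of_card_ne_zero (by rcases hK with h | h <;> omega)
  haveI := Fintype.ofFinite K
  rcases hK with hK | hK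
  · have hc2 : c * c = 1 := by
      have h := FiniteField.pow_card_sub_one_eq_one c hc0
      rwa [← Nat.card_eq_fintype_card, hK, pow_two] at h
    rcases mul_self_eq_one_iff.1 hc2 with rfl | rfl
    · exact ⟨x, hx, fun v => by rw [hc, one_smul], hlx, fun z _ _ t h => h⟩
    · refine ⟨x * l, E.mul_mem hx hl, fun v => ?_, ?_, fun z hz hzl t h => ?_⟩
      · rw [mul_apply', mul_apply', hlx, s.lin x hx, hll, hc, smul_smul]; simp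
      · simpa using hlx.mul_right (Sgn.refl l) (s.linE hx)
      · simpa using h.mul_right hzl (s.linE hx)
  · obtain ⟨d, rfl⟩ := hc5 hK
    have hd : d ≠ 0 := fun h => hc0 (by rw [h, mul_zero])
    obtain ⟨y, hy, hyv⟩ := s.smul_mem' (inv_ne_zero hd) hx
    refine ⟨y, hy, fun v => ?_, fun v => ?_, fun z hz _ t h v => ?_⟩
    · rw [hyv, hyv, s.lin x hx, hc, smul_smul, smul_smul,
        show d⁻¹ * d⁻¹ * (d * d) = 1 by field_simp, one_smul]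
    · rw [hyv, hyv, s.lin l hl, hlx, smul_smul, smul_smul, mul_comm]
    · rw [hyv, hyv, s.lin z hz, h, smul_smul, smul_smul, mul_comm]

/-- A frame from two successive splittings. -/
theorem exists_frameFour {s : Sys K G E} (hsq : SqHyp K E)
    (hK : Nat.card K = 3 ∨ Nat.card K = 5) (D : Split s) (D₂ : Split D.sys) :
    ∃ F : FrameFour K E, F.w₀ = ((D₂.w₀ : D.W) : V) ∧
      ∀ v : D₂.W, F.l₁ ⋅ ((v : D.W) : V) = ((v : D.W) : V) ∧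
        F.l₂ ⋅ ((v : D.W) : V) = ((v : D.W) : V) := by
  haveI := D.nontrivial
  have hr := D.r_eq_two hK
  have hr₂ := D₂.r_eq_two hK
  obtain ⟨l₂, hl₂, hl12, hl₂v⟩ := D.lift D₂.hl
  obtain ⟨h₂, hh₂, hl1h2, hh₂v⟩ := D.lift D₂.hh
  have hlh₂ : Sgn l₂ h₂ (-1 : K) := by
    rw [← D₂.ω_eq hr₂]
    exact D.lift_sgn hl₂ hh₂ hl₂v hh₂v D₂.swap
  have hsql₂ : ∀ v : V, l₂ ⋅ (l₂ ⋅ v) = v := fun v => by
    have h := D.lift_sq hsq hl₂ hl₂v (c := (1 : K)) (fun v => by rw [one_smul]; exact D₂.l_sq hr₂ v) v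
    rwa [one_smul] at h
  have hlh : Sgn D.l D.h (-1 : K) := D.ω_eq hr ▸ D.swap
  have h1 : (1 : K) * 1 = 1 := one_mul 1
  have hm : (-1 : K) * -1 = 1 := by ring
  obtain ⟨a, ha, hla, hl₂a⟩ : ∃ a ∈ E, Sgn D.l a (-1 : K) ∧ Sgn l₂ a (1 : K) := by
    rcases sgn_sign s hsq hl₂ D.hh with h | h
    · exact ⟨D.h, D.hh, hlh, h⟩
    · refine ⟨D.h * h₂, E.mul_mem D.hh hh₂, ?_, ?_⟩
      · simpa using hlh.mul_right hl1h2 (s.linE D.hh)
      · simpa using h.mul_right hlh₂ (s.linE D.hh)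
  obtain ⟨b, hb, hlb, hl₂b, hbh⟩ :
      ∃ b ∈ E, Sgn D.l b (-1 : K) ∧ Sgn l₂ b (1 : K) ∧ Sgn b h₂ (1 : K) := by
    rcases sgn_sign s hsq ha hh₂ with h | h
    · exact ⟨a, ha, hla, hl₂a, h⟩
    · refine ⟨a * l₂, E.mul_mem ha hl₂, ?_, ?_, ?_⟩
      · simpa using hla.mul_right hl12 (s.linE ha)
      · simpa using hl₂a.mul_right (Sgn.refl l₂) (s.linE ha)
      · simpa using h.mul_left hlh₂ (s.linE ha)
  obtain ⟨h₂', hh₂', hsqh₂, hlh₂', hpres₂⟩ := exists_involution s hsq hK hh₂ hl₂ hlh₂ hsql₂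
  obtain ⟨b', hb', hsqb, hlb', hpres⟩ := exists_involution s hsq hK hb D.hl hlb (D.l_sq hr)
  exact ⟨{
    l₁ := D.l, l₂ := l₂, h₁ := b', h₂ := h₂', hl₁ := D.hl, hl₂ := hl₂, hh₁ := hb', hh₂ := hh₂'
    w₀ := ((D₂.w₀ : D.W) : V)
    w₀_ne := fun h => D₂.w₀_ne (Subtype.ext h)
    fix₁ := D₂.w₀.2
    fix₂ := by rw [← hl₂v, D₂.w₀_fix]
    sql₁ := D.l_sq hr, sql₂ := hsql₂, sqh₁ := hsqb, sqh₂ := hsqh₂
    l₁l₂ := hl12
    h₁h₂ := (hpres h₂' hh₂' ((hpres₂ D.l D.hl hl12 1 hl1h2).symm h1) 1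
      ((hpres₂ b hb (hl₂b.symm h1) 1 hbh).symm h1)).symm h1
    l₁h₁ := hlb'
    l₁h₂ := hpres₂ D.l D.hl hl12 1 hl1h2
    l₂h₁ := hpres l₂ hl₂ (hl12.symm h1) 1 hl₂b
    l₂h₂ := hlh₂' }, rfl, fun v => ⟨(v : D.W).2, by rw [← hl₂v, (v.2 : D₂.l ⋅ (v : D.W) = v)]⟩⟩

namespace Cert

/-- The generators in dimension four. -/
def gens4 (q : ℕ) : List (List (List ℕ)) :=
  [[[0, 1, 0, 0], [1, 0, 0, 0], [0, 0, 0, 1], [0, 0, 1, 0]],
    [[0, 0, 1, 0], [0, 0, 0, 1], [1, 0, 0, 0], [0, 1, 0, 0]],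
    [[1, 0, 0, 0], [0, q - 1, 0, 0], [0, 0, 1, 0], [0, 0, 0, q - 1]],
    [[1, 0, 0, 0], [0, 1, 0, 0], [0, 0, q - 1, 0], [0, 0, 0, q - 1]]]

theorem exists_coord (s : Sys K G E) (hsq : SqHyp K E) {q : ℕ} (hq : Nat.card K = q)
    (hqp : q.Prime) (hq2 : 2 < q) (F : FrameFour K E) (hn : Module.finrank K V = 4)
    (hclosed : closed q 4 (products q 4 (gens4 q).reverse) (gens4 q) = true) :
    Nonempty (Coord q 4 E (products q 4 (gens4 q).reverse) (gens4 q)) := by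
  haveI : Nontrivial V := nontrivial_of_ne _ _ F.w₀_ne
  haveI : Finite K := Nat.finite_of_card_ne_zero (hq ▸ hqp.ne_zero)
  haveI : CharP K q := by
    haveI := Fact.mk hqp
    haveI := Fintype.ofFinite K
    obtain ⟨p, hp⟩ := CharP.exists K
    have h0 : (q : K) = 0 := by
      rw [← hq, Nat.card_eq_fintype_card]; exact FiniteField.cast_card_eq_zero K
    have hpq := (CharP.cast_eq_zero_iff K p q).1 h0
    rcases (Nat.dvd_prime hqp).1 hpq with rfl | rfl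
    · exact absurd hp (fun h => CharP.char_ne_one K 1 rfl)
    · exact hp
  have hq0 : (q : K) = 0 := CharP.cast_eq_zero K q
  have h2 : (2 : K) ≠ 0 := fun h => by
    have h' := (CharP.cast_eq_zero_iff K q 2).1 (by exact_mod_cast h)
    have := Nat.le_of_dvd (by norm_num) h'
    omega
  have hqv : ∀ v : V, q • v = 0 := fun v => by rw [← Nat.cast_smul_eq_nsmul K, hq0, zero_smul]
  have hneg : ∀ v : V, (q - 1) • v = -v := fun v => by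
    rw [← Nat.cast_smul_eq_nsmul K, Nat.cast_sub (by omega), hq0, Nat.cast_one, zero_sub, neg_smul,
      one_smul]
  set b : Fin 4 → V := ![F.w₀, F.h₁ ⋅ F.w₀, F.h₂ ⋅ F.w₀, F.h₁ ⋅ (F.h₂ ⋅ F.w₀)] with hb
  have n1 : ∀ {x y : AutGp V}, Sgn x y (-1 : K) → ∀ v : V, x ⋅ (y ⋅ v) = -(y ⋅ (x ⋅ v)) :=
    fun h v => by rw [h, neg_smul, one_smul]
  have p1 : ∀ {x y : AutGp V}, Sgn x y (1 : K) → ∀ v : V, x ⋅ (y ⋅ v) = y ⋅ (x ⋅ v) :=
    fun h v => by rw [h, one_smul]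
  have e1 : F.l₁ ⋅ (F.h₁ ⋅ F.w₀) = -(F.h₁ ⋅ F.w₀) := by rw [n1 F.l₁h₁, F.fix₁]
  have e2 : F.l₁ ⋅ (F.h₂ ⋅ F.w₀) = F.h₂ ⋅ F.w₀ := by rw [p1 F.l₁h₂, F.fix₁]
  have e3 : F.l₁ ⋅ (F.h₁ ⋅ (F.h₂ ⋅ F.w₀)) = -(F.h₁ ⋅ (F.h₂ ⋅ F.w₀)) := by rw [n1 F.l₁h₁, e2]
  have f1 : F.l₂ ⋅ (F.h₁ ⋅ F.w₀) = F.h₁ ⋅ F.w₀ := by rw [p1 F.l₂h₁, F.fix₂]
  have f2 : F.l₂ ⋅ (F.h₂ ⋅ F.w₀) = -(F.h₂ ⋅ F.w₀) := by rw [n1 F.l₂h₂, F.fix₂]
  have f3 : F.l₂ ⋅ (F.h₁ ⋅ (F.h₂ ⋅ F.w₀)) = -(F.h₁ ⋅ (F.h₂ ⋅ F.w₀)) := by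
    rw [p1 F.l₂h₁, f2, map_neg]
  have hL₁ := s.linE F.hl₁
  have hL₂ := s.linE F.hl₂
  have hzero : ∀ a₀ a₁ a₂ a₃ : K, a₀ • F.w₀ + a₁ • F.h₁ ⋅ F.w₀ + a₂ • F.h₂ ⋅ F.w₀ +
      a₃ • F.h₁ ⋅ (F.h₂ ⋅ F.w₀) = 0 → a₀ = 0 ∧ a₁ = 0 ∧ a₂ = 0 ∧ a₃ = 0 := by
    intro a₀ a₁ a₂ a₃ h
    obtain ⟨hA, hB⟩ := sep (x := F.l₁) h2
      (p := a₀ • F.w₀ + a₂ • F.h₂ ⋅ F.w₀) (q := a₁ • F.h₁ ⋅ F.w₀ + a₃ • F.h₁ ⋅ (F.h₂ ⋅ F.w₀))
      (by rw [map_add, hL₁, hL₁, F.fix₁, e2])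
      (by rw [map_add, hL₁, hL₁, e1, e3, smul_neg, smul_neg, neg_add])
      (by rw [← h]; abel)
    obtain ⟨h0, h2'⟩ := sep (x := F.l₂) h2 (p := a₀ • F.w₀) (q := a₂ • F.h₂ ⋅ F.w₀)
      (by rw [hL₂, F.fix₂]) (by rw [hL₂, f2, smul_neg]) hA
    obtain ⟨h1', h3'⟩ := sep (x := F.l₂) h2 (p := a₁ • F.h₁ ⋅ F.w₀)
      (q := a₃ • F.h₁ ⋅ (F.h₂ ⋅ F.w₀))
      (by rw [hL₂, f1]) (by rw [hL₂, f3, smul_neg]) hB
    have hne := F.w₀_ne
    exact ⟨(smul_eq_zero.1 h0).resolve_right hne,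
      (smul_eq_zero.1 h1').resolve_right (map_ne_zero' _ hne),
      (smul_eq_zero.1 h2').resolve_right (map_ne_zero' _ hne),
      (smul_eq_zero.1 h3').resolve_right (map_ne_zero' _ (map_ne_zero' _ hne))⟩
  have hli : LinearIndependent K b := Fintype.linearIndependent_iff.2 fun g hg => by
    simp only [Fin.sum_univ_four, hb, Matrix.cons_val_zero, Matrix.cons_val_one,
      Matrix.cons_val] at hg
    obtain ⟨h0, h1, h2', h3⟩ := hzero _ _ _ _ hg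
    intro i; fin_cases i <;> assumption
  haveI : Module.Finite K V := Module.Finite.of_finite
  let B : Module.Basis (Fin 4) K V := basisOfLinearIndependentOfCardEqFinrank hli (by simp [hn])
  set bs : List V := [F.w₀, F.h₁ ⋅ F.w₀, F.h₂ ⋅ F.w₀, F.h₁ ⋅ (F.h₂ ⋅ F.w₀)] with hbs
  have hlsum : ∀ a₀ a₁ a₂ a₃ : ℕ, lsum [a₀, a₁, a₂, a₃] bs = (a₀ : K) • F.w₀ +
      (a₁ : K) • F.h₁ ⋅ F.w₀ + (a₂ : K) • F.h₂ ⋅ F.w₀ + (a₃ : K) • F.h₁ ⋅ (F.h₂ ⋅ F.w₀) := by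
    intro a₀ a₁ a₂ a₃
    simp only [hbs, lsum, add_zero, Nat.cast_smul_eq_nsmul, add_assoc]
  let C₀ : Coord q 4 (⊥ : Subgroup (AutGp V)) [one 4] [] := Coord.pre bs rfl hqv hqp.one_lt
    ⟨rfl, by
      intro c hc
      simp [one, List.range, List.range.loop] at hc
      rcases hc with rfl | rfl | rfl | rfl <;> refine ⟨rfl, ?_⟩ <;> simp <;> omega⟩
    (fun c c' hc hc' h => by
      match c, c', hc, hc' with
      | [a₀, a₁, a₂, a₃], [b₀, b₁, b₂, b₃], hc, hc' =>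
        rw [hlsum, hlsum] at h
        obtain ⟨h0, h1, h2', h3⟩ := hzero ((a₀ : K) - b₀) ((a₁ : K) - b₁) ((a₂ : K) - b₂)
          ((a₃ : K) - b₃) (by rw [← sub_eq_zero.2 h]; simp only [sub_smul]; abel)
        have key : ∀ x y : ℕ, x < q → y < q → (x : K) - y = 0 → x = y := fun x y hx hy hxy =>
          CharP.natCast_injOn_Iio K q hx hy (sub_eq_zero.1 hxy)
        have ha := hc.2
        have hb' := hc'.2
        simp at ha hb'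
        rw [key _ _ ha.1 hb'.1 h0, key _ _ ha.2.1 hb'.2.1 h1, key _ _ ha.2.2.1 hb'.2.2.1 h2',
          key _ _ ha.2.2.2 hb'.2.2.2 h3])
    (fun v => by
      obtain ⟨k₀, hk₀, e₀⟩ := natCast_surj hqp hq (B.repr v 0)
      obtain ⟨k₁, hk₁, e₁⟩ := natCast_surj hqp hq (B.repr v 1)
      obtain ⟨k₂, hk₂, e₂⟩ := natCast_surj hqp hq (B.repr v 2)
      obtain ⟨k₃, hk₃, e₃⟩ := natCast_surj hqp hq (B.repr v 3)
      refine ⟨[k₀, k₁, k₂, k₃], ⟨rfl, by simp [hk₀, hk₁, hk₂, hk₃]⟩, ?_⟩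
      rw [hlsum, e₀, e₁, e₂, e₃]
      conv_rhs => rw [← B.sum_repr v, Fin.sum_univ_four]
      simp [B, hb])
    (by simp [one, lsum, List.range, List.range.loop, hbs])
  have hmat : ∀ (γ : AutGp V) (g : List (List ℕ)), g ∈ gens4 q →
      [γ ⋅ F.w₀, γ ⋅ (F.h₁ ⋅ F.w₀), γ ⋅ (F.h₂ ⋅ F.w₀), γ ⋅ (F.h₁ ⋅ (F.h₂ ⋅ F.w₀))] =
        g.map (fun c => lsum c bs) → C₀.Mat γ g := by
    intro γ g hg h
    have hcl := hclosed
    simp only [closed, Bool.and_eq_true, List.all_eq_true, List.contains_iff_mem,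
      decide_eq_true_eq] at hcl
    refine ⟨⟨(hcl.1.1.1 g (hcl.1.2 g hg)).1, fun c hc =>
      ⟨((hcl.1.1.1 g (hcl.1.2 g hg)).2 c hc).1, ((hcl.1.1.1 g (hcl.1.2 g hg)).2 c hc).2⟩⟩, ?_⟩
    exact h
  have g1 : C₀.Mat F.h₁ (((gens4 q).getD 0 [])) := hmat _ _ (by simp [gens4]) (by
    simp [gens4, lsum, hbs, F.sqh₁])
  have g2 : C₀.Mat F.h₂ (((gens4 q).getD 1 [])) := hmat _ _ (by simp [gens4]) (by
    simp [gens4, lsum, hbs, F.sqh₂, p1 (F.h₁h₂.symm (one_mul 1))])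
  have g3 : C₀.Mat F.l₁ (((gens4 q).getD 2 [])) := hmat _ _ (by simp [gens4]) (by
    simp [gens4, lsum, hbs, F.fix₁, e1, e2, e3, hneg])
  have g4 : C₀.Mat F.l₂ (((gens4 q).getD 3 [])) := hmat _ _ (by simp [gens4]) (by
    simp [gens4, lsum, hbs, F.fix₂, f1, f2, f3, hneg])
  refine ⟨C₀.build (gens4 q) (fun g hg => ?_) (fun k hk hkq => ?_) hclosed ?_⟩
  · simp only [gens4, List.mem_cons, List.not_mem_nil, or_false] at hg
    rcases hg with rfl | rfl | rfl | rfl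
    exacts [⟨_, F.hh₁, g1⟩, ⟨_, F.hh₂, g2⟩, ⟨_, F.hl₁, g3⟩, ⟨_, F.hl₂, g4⟩]
  · have hk0 : (k : K) ≠ 0 := fun h => by
      have := Nat.le_of_dvd hk ((CharP.cast_eq_zero_iff K q k).1 h)
      omega
    obtain ⟨z, hz, hzv⟩ := s.scal (k : K) hk0
    exact ⟨z, hz, fun v => by rw [hzv, Nat.cast_smul_eq_nsmul]⟩
  · intro P hstep hbase e he
    have m1 : (1 : K) * 1 = 1 := one_mul 1
    have mm : (-1 : K) * -1 = 1 := by ring
    -- correcting one sign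
    have adj : ∀ {γ p : AutGp V}, γ ∈ E → p ∈ E → (∃ g ∈ gens4 q, C₀.Mat γ g) →
        (∀ v : V, γ ⋅ (γ ⋅ v) = v) → Sgn p γ (-1 : K) →
        ∀ {x : AutGp V}, x ∈ E → ∃ y ∈ E, Sgn p y (1 : K) ∧ (P y → P x) ∧
          ∀ z : AutGp V, Sgn z γ (1 : K) → Sgn z x (1 : K) → Sgn z y (1 : K) := by
      intro γ p hγ hp hg hsqγ hpγ x hx
      rcases sgn_sign s hsq hp hx with h | h
      · exact ⟨x, hx, h, id, fun _ _ h => h⟩
      · refine ⟨γ * x, E.mul_mem hγ hx, ?_, fun hP => ?_, fun z h1 h3 => ?_⟩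
        · simpa using hpγ.mul_right h (s.linE hγ)
        · have h' := hstep γ hγ hg _ hP
          rwa [← mul_assoc, ext' (a := γ * γ) (b := 1) (fun v => hsqγ v), one_mul] at h'
        · simpa using h1.mul_right h3 (s.linE hγ)
    have mem : ∀ i, i < 4 → (gens4 q).getD i [] ∈ gens4 q := fun i hi => by
      interval_cases i <;> simp [gens4]
    obtain ⟨y1, hy1, s1, P1, -⟩ := adj F.hh₁ F.hl₁ ⟨_, mem 0 (by omega), g1⟩ F.sqh₁
      F.l₁h₁ he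
    obtain ⟨y2, hy2, s2, P2, pr2⟩ := adj F.hh₂ F.hl₂ ⟨_, mem 1 (by omega), g2⟩ F.sqh₂
      F.l₂h₂ hy1
    obtain ⟨y3, hy3, s3, P3, pr3⟩ := adj F.hl₁ F.hh₁ ⟨_, mem 2 (by omega), g3⟩ F.sql₁
      (F.l₁h₁.symm mm) hy2
    obtain ⟨y4, hy4, s4, P4, pr4⟩ := adj F.hl₂ F.hh₂ ⟨_, mem 3 (by omega), g4⟩ F.sql₂
      (F.l₂h₂.symm mm) hy3
    refine P1 (P2 (P3 (P4 ?_)))
    have c1 : Sgn F.l₁ y4 (1 : K) :=
      pr4 _ F.l₁l₂ (pr3 _ (Sgn.refl _) (pr2 _ F.l₁h₂ s1))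
    have c2 : Sgn F.l₂ y4 (1 : K) :=
      pr4 _ (Sgn.refl _) (pr3 _ (F.l₁l₂.symm m1) s2)
    have c3 : Sgn F.h₁ y4 (1 : K) := pr4 _ (F.l₂h₁.symm m1) s3
    have c4 : Sgn F.h₂ y4 (1 : K) := s4
    -- a scalar
    obtain ⟨t, ht⟩ : ∃ t : K, y4 ⋅ F.w₀ = t • F.w₀ := by
      have h1 : F.l₁ ⋅ (y4 ⋅ F.w₀) = y4 ⋅ F.w₀ := by rw [p1 c1, F.fix₁]
      have h3 : F.l₂ ⋅ (y4 ⋅ F.w₀) = y4 ⋅ F.w₀ := by rw [p1 c2, F.fix₂]
      obtain ⟨k, hk, hkv⟩ := C₀.span (y4 ⋅ F.w₀)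
      match k, hk with
      | [a₀, a₁, a₂, a₃], _ =>
        rw [show lsum [a₀, a₁, a₂, a₃] C₀.bs = lsum [a₀, a₁, a₂, a₃] bs from rfl, hlsum] at hkv
        rw [← hkv] at h1 h3
        simp only [map_add, hL₁ _ _, hL₂ _ _, F.fix₁, F.fix₂, e1, e2, e3, f1, f2, f3, smul_neg]
          at h1 h3
        obtain ⟨-, z1, -, z3⟩ := hzero 0 (2 * (a₁ : K)) 0 (2 * (a₃ : K)) (by
          rw [← sub_eq_zero.2 h1.symm]; simp only [zero_smul, mul_smul, two_smul]; abel)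
        obtain ⟨-, -, z2, -⟩ := hzero 0 0 (2 * (a₂ : K)) (2 * (a₃ : K)) (by
          rw [← sub_eq_zero.2 h3.symm]; simp only [zero_smul, mul_smul, two_smul]; abel)
        refine ⟨(a₀ : K), ?_⟩
        rw [← hkv, (mul_eq_zero.1 z1).resolve_left h2, (mul_eq_zero.1 z2).resolve_left h2,
          (mul_eq_zero.1 z3).resolve_left h2]
        simp
    have ht0 : t ≠ 0 := fun h => map_ne_zero' y4 F.w₀_ne (by rw [ht, h, zero_smul])
    obtain ⟨k, hk, rfl⟩ := natCast_surj hqp hq t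
    have hk0 : 0 < k := Nat.pos_of_ne_zero fun h => ht0 (by rw [h, Nat.cast_zero])
    refine hbase y4 k hk0 hk fun v => ?_
    obtain ⟨c, -, rfl⟩ := C₀.span v
    rw [lsum_map', show lsum c C₀.bs = lsum c bs from rfl]
    have hlin1 := s.linE F.hh₁
    have hlin2 := s.linE F.hh₂
    have hcs : bs.map (fun v => y4 ⋅ v) = bs.map fun v => (k : K) • v := by
      simp [hbs, ht, p1 (c3.symm m1), p1 (c4.symm m1), hlin1 _ _, hlin2 _ _]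
    show lsum c (bs.map fun v => y4 ⋅ v) = _
    rw [hcs, ← Nat.cast_smul_eq_nsmul K]
    exact (lsum_map (DistribSMul.toAddMonoidHom V (k : K)) c bs).symm

end Cert

theorem three_not_dvd (s : Sys K G E) (hK : Nat.card K = 3) [Nontrivial V] :
    ¬ 3 ∣ Nat.card G := fun h => by
  haveI : Finite K := Nat.finite_of_card_ne_zero (by omega)
  haveI : Module.Finite K V := Module.Finite.of_finite
  have hV : 3 ∣ Nat.card V := by
    rw [Module.natCard_eq_pow_finrank (K := K), hK]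
    exact dvd_pow_self 3 Module.finrank_pos.ne'
  have := Nat.dvd_gcd h hV
  rw [s.cop.gcd_eq_one] at this
  norm_num at this

theorem out_five (s : Sys K G E) (hsq : SqHyp K E) (hK : Nat.card K = 5) (F : FrameFour K E)
    (hn : Module.finrank K V = 4) : ∃ x y : V, Pair G x y ∧ Gen E x ∧ Out E x y := by
  obtain ⟨C⟩ := Cert.exists_coord s hsq hK (by norm_num) (by norm_num) F hn (by decide +kernel)
  refine ⟨C.vec Cert.jobJ5.w, C.vec Cert.jobJ5.u, fun a ha h1 h2 => ?_,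
    C.gen ⟨rfl, by decide⟩ Cert.generic5, C.out ⟨rfl, by decide⟩ Cert.outside5⟩
  by_contra h
  obtain ⟨A, hA, -⟩ := C.search rfl rfl rfl rfl Cert.valid5 (fun e he => s.norm a ha e he) h1 h2 h
  rw [Cert.result5] at hA
  exact List.not_mem_nil hA

theorem out_three (s : Sys K G E) (hsq : SqHyp K E) (hK : Nat.card K = 3) (F : FrameFour K E)
    (hn : Module.finrank K V = 4) : ∃ x y : V, Pair G x y ∧ Gen E x ∧ Out E x y := by
  haveI : Nontrivial V := nontrivial_of_ne _ _ F.w₀_ne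
  obtain ⟨C⟩ := Cert.exists_coord s hsq hK (by norm_num) (by norm_num) F hn (by decide +kernel)
  have hv := Cert.valid3
  have ho := Cert.outside3
  simp only [Bool.and_eq_true] at hv ho
  have hg := C.gen ⟨rfl, by decide⟩ Cert.generic3
  by_contra hno
  push Not at hno
  have hfail : ∀ J : Cert.Job, J.w = Cert.jobK1.w → Cert.Norm 3 4 J.u →
      Cert.outside 3 4 Cert.els3 Cert.jobK1.w J.u = true →
      ∃ a ∈ G, a ⋅ C.vec J.w = C.vec J.w ∧ a ⋅ C.vec J.u = C.vec J.u ∧ a ≠ 1 := by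
    intro J hw hu hout
    rw [hw]
    by_contra h
    push Not at h
    exact hno _ _ h hg (C.out hu hout)
  obtain ⟨a, ha, a1, a2, a3⟩ := hfail Cert.jobK1 rfl ⟨rfl, by decide⟩ ho.1.1
  obtain ⟨b, hb, b1, b2, b3⟩ := hfail Cert.jobK2 rfl ⟨rfl, by decide⟩ ho.1.2
  obtain ⟨c, hc, c1, c2, c3⟩ := hfail Cert.jobK3 rfl ⟨rfl, by decide⟩ ho.2
  obtain ⟨A, hA, hAm⟩ := C.search rfl rfl rfl rfl hv.1.1 (fun e he => s.norm a ha e he) a1 a2 a3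
  obtain ⟨B, hB, hBm⟩ := C.search rfl rfl rfl rfl hv.1.2 (fun e he => s.norm b hb e he) b1 b2 b3
  obtain ⟨X, hX, hXm⟩ := C.search rfl rfl rfl rfl hv.2 (fun e he => s.norm c hc e he) c1 c2 c3
  have h := List.all_eq_true.1 (List.all_eq_true.1 (List.all_eq_true.1 Cert.result3 A hA) B hB) X hX
  have h3 := three_not_dvd s hK
  simp only [Bool.or_eq_true] at h
  rcases h with ((((h | h) | h) | h) | h) | h
  exacts [C.not_three h3 ha hAm h, C.not_three h3 hb hBm h, C.not_three h3 hc hXm h,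
    C.not_three h3 (G.mul_mem ha hb) (C.mat_mul hAm hBm) h,
    C.not_three h3 (G.mul_mem ha hc) (C.mat_mul hAm hXm) h,
    C.not_three h3 (G.mul_mem hb hc) (C.mat_mul hBm hXm) h]

end CfsgLib.BaseTwo73
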