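import Cfsg.Agent.BaseTwo73.Signs
import Mathlib.Data.Nat.Choose.Dvd

/-!
# Groups of symplectic type without fixed vectors
-/

set_option autoImplicit false
set_option linter.style.haveILetI false

namespace CfsgLib.BaseTwo73

open CfsgLib.RegOrbit

universe v u

variable {V : Type v} [AddCommGroup V] {K : Type u} [Field K] [Module K V]
  {G E : Subgroup (AutGp V)}

local notation:80 a " ⋅ " v:81 => ((a : AutGp _) : AddMonoid.End _) v

/-- Action by a scalar. -/
def Scal (K : Type u) [Field K] [Module K V] (a : AutGp V) : Prop :=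
  ∃ t : K, ∀ v : V, a ⋅ v = t • v

/-- Primes occur at most once in the exponent over the scalars. -/
def ExpHyp (K : Type u) [Field K] [Module K V] (E : Subgroup (AutGp V)) : Prop :=
  ∀ x ∈ E, ∀ r : ℕ, r.Prime → Scal K (x ^ (r * r)) → Scal K (x ^ r)

theorem Scal.one : Scal K (1 : AutGp V) := ⟨1, fun v => by rw [one_smul]; rfl⟩

theorem Scal.pow {a : AutGp V} (h : Scal K a) (n : ℕ) : Scal K (a ^ n) := by
  obtain ⟨t, ht⟩ := h
  refine ⟨t ^ n, fun v => ?_⟩
  induction n generalizing v with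
  | zero => rw [pow_zero, pow_zero, one_smul]; rfl
  | succ n ih => rw [pow_succ, mul_apply', ht, ih, smul_smul, ← pow_succ]

theorem Scal.sgn {a b : AutGp V} (h : Scal K a) (hb : Lin K b) : Sgn a b (1 : K) := fun v => by
  obtain ⟨t, ht⟩ := h
  rw [one_smul, ht, ht, hb]

theorem Scal.of_smul {a b : AutGp V} {d : K} (hd : d ≠ 0) (hb : ∀ v : V, b ⋅ v = d • a ⋅ v)
    (h : Scal K b) : Scal K a := by
  obtain ⟨t, ht⟩ := h
  exact ⟨d⁻¹ * t, fun v => by rw [mul_smul, ← ht, hb, inv_smul_smul₀ hd]⟩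

theorem pow_apply_smul {a b : AutGp V} {d : K} (ha : Lin K a) (hb : ∀ v : V, b ⋅ v = d • a ⋅ v)
    (n : ℕ) (v : V) : (b ^ n) ⋅ v = d ^ n • (a ^ n) ⋅ v := by
  have hpow : ∀ (m : ℕ) (t : K) (w : V), (a ^ m) ⋅ (t • w) = t • (a ^ m) ⋅ w := by
    intro m
    induction m with
    | zero => intro t w; rw [pow_zero]; rfl
    | succ m ih => intro t w; rw [pow_succ', mul_apply', ih, ha, mul_apply']
  induction n generalizing v with
  | zero => rw [pow_zero, pow_zero, pow_zero, one_smul]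
  | succ n ih =>
    rw [pow_succ b, mul_apply', ih, hb, hpow, smul_smul, pow_succ a, mul_apply', ← pow_succ]

/-- Powers of a product. -/
theorem Sys.mul_pow_swap (s : Sys K G E) {a b : AutGp V} (ha : a ∈ E) (hb : b ∈ E) {t : K}
    (h : Sgn b a t) : ∀ (n : ℕ) (v : V),
      ((a * b) ^ n) ⋅ v = t ^ n.choose 2 • (a ^ n) ⋅ ((b ^ n) ⋅ v) := by
  intro n
  induction n with
  | zero => intro v; simp
  | succ n ih =>
    intro v
    rw [pow_succ, mul_apply', ih, mul_apply', s.pow_swap' hb ha h,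
      s.lin _ (E.pow_mem ha n), smul_smul, ← pow_add, pow_succ a, pow_succ b, mul_apply',
      mul_apply', Nat.choose_succ_succ', Nat.choose_one_right, add_comm n (n.choose 2)]

/-- The data of a quaternion pair. -/
structure Quat (K : Type u) [Field K] [Module K V] (E : Subgroup (AutGp V)) (i j : AutGp V) :
    Prop where
  hi : i ∈ E
  hj : j ∈ E
  sqi : ∀ v : V, i ⋅ (i ⋅ v) = -v
  sqj : ∀ v : V, j ⋅ (j ⋅ v) = -v
  ij : Sgn i j (-1 : K)

section

variable (s : Sys K G E) (hE : Fpf E)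

include s hE

theorem Sys.root_scalar {r : ℕ} {t : K} (ht : IsPrimitiveRoot t r) (hr : 2 ≤ r) {e : AutGp V}
    (he : e ∈ E) (her : ∀ v : V, (e ^ r) ⋅ v = v) : Scal K e := by
  by_contra hns
  haveI : NeZero r := ⟨by omega⟩
  have ht0 : t ≠ 0 := ht.ne_zero (by omega)
  have key : ∀ (v : V) (i : ℕ),
      ∑ m ∈ Finset.range r, (t ^ m) ^ i • (e ^ m) ⋅ v = 0 := by
    intro v i
    obtain ⟨f, hf, hfv⟩ := s.smul_mem' (pow_ne_zero i ht0) he
    by_contra hne
    refine hns (Scal.of_smul (pow_ne_zero i ht0) hfv ?_)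
    have hsum : ∀ m, (t ^ m) ^ i • (e ^ m) ⋅ v = (f ^ m) ⋅ v := fun m => by
      rw [pow_apply_smul (s.linE he) hfv, ← pow_mul, ← pow_mul, mul_comm]
    simp only [hsum] at hne
    have hf1 : f = 1 := by
      refine hE f hf _ hne ?_
      rw [map_sum]
      simp only [← mul_apply', ← pow_succ']
      have h1 := Finset.sum_range_succ' (fun m => (f ^ m) ⋅ v) r
      rw [Finset.sum_range_succ] at h1
      have h3 : (f ^ r) ⋅ v = (f ^ 0) ⋅ v := by
        rw [pow_apply_smul (s.linE he) hfv, her, ← pow_mul, mul_comm, pow_mul, ht.pow_eq_one,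
          one_pow, one_smul, pow_zero]
        rfl
      rw [h3] at h1
      exact (add_right_cancel h1).symm
    rw [hf1]; exact Scal.one
  refine hns ⟨1, fun v => ?_⟩
  exfalso
  have hr0 : (r : K) ≠ 0 := ht.neZero'.out
  refine hns ?_
  -- all vectors vanish
  have hv : ∀ v : V, v = 0 := by
    intro v
    have h1 : ∑ i ∈ Finset.range r, ∑ m ∈ Finset.range r, (t ^ m) ^ i • (e ^ m) ⋅ v = 0 :=
      Finset.sum_eq_zero fun i _ => key v i
    rw [Finset.sum_comm] at h1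
    simp only [← Finset.sum_smul] at h1
    rw [Finset.sum_eq_single 0] at h1
    · simp only [pow_zero, one_pow, Finset.sum_const, Finset.card_range, nsmul_one] at h1
      exact (smul_eq_zero.1 h1).resolve_left hr0
    · intro m hm hm0
      rw [geom_sum_eq (ht.pow_ne_one_of_pos_of_lt hm0 (Finset.mem_range.1 hm)), ← pow_mul,
        mul_comm, pow_mul, ht.pow_eq_one, one_pow, sub_self, zero_div, zero_smul]
    · exact fun h => absurd (Finset.mem_range.2 (by omega)) h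
  exact ⟨1, fun w => by rw [hv (e ⋅ w), hv ((1 : K) • w)]⟩

variable [Finite V] [Finite K] [Nontrivial V] (hexp : ExpHyp K E)

include hexp

/-- A noncentral element of prime order over the scalars has a partner of the same kind. -/
theorem Sys.exists_partner {r : ℕ} (hr : r.Prime) {x : AutGp V} (hx : x ∈ E) (hns : ¬ Scal K x)
    (hxr : Scal K (x ^ r)) :
    ∃ y ∈ E, Scal K (y ^ r) ∧ ∃ t : K, IsPrimitiveRoot t r ∧ Sgn x y t := by
  obtain ⟨y, hy, hxy⟩ : ∃ y ∈ E, x * y ≠ y * x := by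
    by_contra h
    push Not at h
    exact hns (s.rad x hx h)
  obtain ⟨t, ht⟩ := s.comm x hx y hy
  have ht1 : t ≠ 1 := fun h => hxy ((s.comm_iff hx hy ht).2 h)
  have htr : t ^ r = 1 := by
    obtain ⟨v, hv⟩ := exists_ne (0 : V)
    have h := s.pow_swap' hx hy ht r v
    have h1 := hxr.sgn (s.linE hy) v
    rw [one_smul] at h1
    rw [h1] at h
    exact smul_left_injective K (map_ne_zero' y (map_ne_zero' (x ^ r) hv))
      (h.symm.trans (one_smul K _).symm)
  have hto : orderOf t = r := by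
    haveI := Fact.mk hr
    exact orderOf_eq_prime htr ht1
  obtain ⟨k, m, hm, hkm⟩ :=
    Nat.exists_eq_pow_mul_and_not_dvd (orderOf_pos y).ne' r hr.ne_one
  refine ⟨y ^ m, E.pow_mem hy m, ?_, t ^ m, ?_, fun v => s.pow_swap hx hy ht m v⟩
  · have key : ∀ k, Scal K ((y ^ m) ^ (r ^ k)) → Scal K ((y ^ m) ^ r) := by
      intro k
      induction k with
      | zero => intro h; rw [pow_zero, pow_one] at h; exact h.pow r
      | succ k ih =>
        intro h
        rcases k with _ | k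
        · simpa using h
        · refine ih ?_
          rw [pow_succ, pow_mul]
          refine hexp _ (E.pow_mem (E.pow_mem hy m) _) r hr ?_
          rw [← pow_mul, ← mul_assoc, ← pow_succ, ← pow_succ]
          exact h
    refine key k ?_
    rw [← pow_mul, mul_comm, ← hkm, pow_orderOf_eq_one]
    exact Scal.one
  · have h1 : IsPrimitiveRoot t r := hto ▸ IsPrimitiveRoot.orderOf t
    exact h1.pow_of_coprime m (((hr.coprime_iff_not_dvd).2 hm).symm)

theorem Sys.no_odd {r : ℕ} (hr : r.Prime) (hr2 : r ≠ 2) {x : AutGp V} (hx : x ∈ E)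
    (hxr : Scal K (x ^ r)) : Scal K x := by
  by_contra hns
  obtain ⟨y, hy, ⟨c', hc'⟩, t, ht, hxy⟩ := s.exists_partner hE hexp hr hx hns hxr
  obtain ⟨c, hc⟩ := hxr
  obtain ⟨v, hv⟩ := exists_ne (0 : V)
  have hc0 : c ≠ 0 := fun h => map_ne_zero' (x ^ r) hv (by rw [hc, h, zero_smul])
  have hc0' : c' ≠ 0 := fun h => map_ne_zero' (y ^ r) hv (by rw [hc', h, zero_smul])
  obtain ⟨g, hg⟩ := IsCyclic.exists_generator (α := Kˣ)
  obtain ⟨a, ha⟩ := Subgroup.mem_zpowers_iff.1 (hg (Units.mk0 c hc0))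
  obtain ⟨b, hb⟩ := Subgroup.mem_zpowers_iff.1 (hg (Units.mk0 c' hc0'))
  have root : ∀ (z : AutGp V) (n : ℤ), z ∈ E → (∀ w : V, (z ^ r) ⋅ w = ((g ^ n : Kˣ) : K) • w) →
      (r : ℤ) ∣ n → Scal K z := by
    intro z n hz hzr hn
    obtain ⟨d, rfl⟩ := hn
    obtain ⟨f, hf, hfv⟩ := s.smul_mem' (inv_ne_zero (g ^ d).ne_zero) hz
    refine Scal.of_smul (inv_ne_zero (g ^ d).ne_zero) hfv (s.root_scalar hE ht hr.two_le hf fun w => ?_)
    rw [pow_apply_smul (s.linE hz) hfv, hzr, smul_smul, mul_comm (r : ℤ) d, zpow_mul, zpow_natCast,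
      Units.val_pow_eq_pow_val, inv_pow, inv_mul_cancel₀ (pow_ne_zero r (g ^ d).ne_zero), one_smul]
  by_cases hra : (r : ℤ) ∣ a
  · exact hns (root x a hx (fun w => by rw [hc, ha, Units.val_mk0]) hra)
  obtain ⟨k, hk⟩ : ∃ k : ℕ, (r : ℤ) ∣ b + a * k := by
    haveI := Fact.mk hr
    have ha0 : (a : ZMod r) ≠ 0 := fun h => hra ((ZMod.intCast_zmod_eq_zero_iff_dvd a r).1 h)
    refine ⟨(-(b : ZMod r) / (a : ZMod r)).val, (ZMod.intCast_zmod_eq_zero_iff_dvd _ r).1 ?_⟩
    push_cast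
    rw [ZMod.natCast_zmod_val, mul_div_cancel₀ _ ha0, add_neg_cancel]
  have hyx : Scal K (y * x ^ k) := by
    refine root _ (b + a * k) (E.mul_mem hy (E.pow_mem hx k)) (fun w => ?_) hk
    have h1 : Sgn (x ^ k) y (t ^ k) := fun u => s.pow_swap' hx hy hxy k u
    have hr' : r ∣ r.choose 2 := Nat.Prime.dvd_choose_self hr (by norm_num)
      (lt_of_le_of_ne hr.two_le (Ne.symm hr2))
    obtain ⟨m, hm⟩ := hr'
    rw [s.mul_pow_swap hy (E.pow_mem hx k) h1, ← pow_mul t k, hm, ← mul_assoc, mul_comm k r,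
      mul_assoc, pow_mul t r, ht.pow_eq_one, one_pow, one_smul, hc', ← pow_mul, mul_comm k r,
      pow_mul]
    have h4 : ∀ (n : ℕ) (u : V), ((x ^ r) ^ n) ⋅ u = c ^ n • u := fun n u => by
      induction n with
      | zero => rw [pow_zero, pow_zero, one_smul]; rfl
      | succ n ih => rw [pow_succ', mul_apply', ih, hc, smul_smul, ← pow_succ']
    rw [h4, smul_smul, zpow_add, zpow_mul, ha, hb, zpow_natCast, Units.val_mul,
      Units.val_pow_eq_pow_val, Units.val_mk0, Units.val_mk0]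
  have h5 : Sgn x (y * x ^ k) t := by
    have h := hxy.mul_right (z := x ^ k) (b := (1 : K)) (fun u => by
      rw [one_smul, ← mul_apply', ← mul_apply', (Commute.self_pow x k).eq]) (s.linE hy)
    rwa [mul_one] at h
  have h6 : Sgn (y * x ^ k) x (1 : K) := hyx.sgn (s.linE hx)
  exact ht.ne_one hr.one_lt (h5.unique (h6.symm (one_mul 1)))

theorem Sys.sq_scal {e : AutGp V} (he : e ∈ E) : Scal K (e ^ 2) := by
  obtain ⟨k, m, hm, hkm⟩ :=
    Nat.exists_eq_pow_mul_and_not_dvd (orderOf_pos e).ne' 2 (by norm_num)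
  have key : ∀ m, ¬ 2 ∣ m → Scal K (e ^ (2 ^ k * m)) → Scal K (e ^ 2 ^ k) := by
    intro m
    induction m using induction_on_primes with
    | zero => intro h; exact absurd (dvd_zero 2) h
    | one => intro _ h; rwa [mul_one] at h
    | prime_mul p a hp ih =>
      intro h hs
      refine ih (fun h' => h (h'.mul_left p))
        (s.no_odd hE hexp hp (fun hp2 => h (hp2 ▸ dvd_mul_right 2 a)) (E.pow_mem he _) ?_)
      rwa [← pow_mul, mul_assoc, mul_comm a p]
  have hscal := key m hm (by rw [← hkm, pow_orderOf_eq_one]; exact Scal.one)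
  have key2 : ∀ k, Scal K (e ^ 2 ^ k) → Scal K (e ^ 2) := by
    intro k
    induction k with
    | zero => intro h; rw [pow_zero, pow_one] at h; exact h.pow 2
    | succ k ih =>
      intro h
      rcases k with _ | k
      · simpa using h
      · refine ih ?_
        rw [pow_succ, pow_mul]
        refine hexp _ (E.pow_mem he _) 2 Nat.prime_two ?_
        rw [← pow_mul, ← mul_assoc, ← pow_succ, ← pow_succ]
        exact h
  exact key2 k hscal

theorem Sys.fpf_sign {x y : AutGp V} (hx : x ∈ E) (hy : y ∈ E) :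
    Sgn x y (1 : K) ∨ Sgn x y (-1 : K) := by
  obtain ⟨t, ht⟩ := s.comm x hx y hy
  obtain ⟨v, hv⟩ := exists_ne (0 : V)
  have h1 : (x ^ 2) ⋅ (y ⋅ v) = y ⋅ ((x ^ 2) ⋅ v) := by
    rw [(s.sq_scal hE hexp hx).sgn (s.linE hy), one_smul]
  rw [s.pow_swap' hx hy ht] at h1
  have h2 : t ^ 2 = 1 := smul_left_injective K (map_ne_zero' y (map_ne_zero' (x ^ 2) hv))
    (h1.trans (one_smul K _).symm)
  rcases sq_eq_one_iff.1 h2 with rfl | rfl
  · exact Or.inl ht
  · exact Or.inr ht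

variable (h2 : (2 : K) ≠ 0)

include h2

theorem Sys.sq_one_scal {e : AutGp V} (he : e ∈ E) (hee : ∀ v : V, e ⋅ (e ⋅ v) = v) :
    Scal K e := by
  haveI := Fact.mk Nat.prime_two
  have hneg : (-1 : K) ≠ 1 := fun h => h2 (by linear_combination -h)
  have hord : orderOf (-1 : K) = 2 := orderOf_eq_prime (by ring) hneg
  exact s.root_scalar hE (hord ▸ IsPrimitiveRoot.orderOf (-1 : K)) le_rfl he
    fun v => by rw [pow_two, mul_apply', hee]

theorem Sys.not_square {e : AutGp V} (he : e ∈ E) (hns : ¬ Scal K e) {c : K}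
    (hc : ∀ v : V, e ⋅ (e ⋅ v) = c • v) : ¬ IsSquare c := by
  rintro ⟨d, rfl⟩
  obtain ⟨v, hv⟩ := exists_ne (0 : V)
  have hd : d ≠ 0 := fun h => map_ne_zero' e (map_ne_zero' e hv) (by rw [hc, h, mul_zero, zero_smul])
  obtain ⟨f, hf, hfv⟩ := s.smul_mem' (inv_ne_zero hd) he
  refine hns (Scal.of_smul (inv_ne_zero hd) hfv (s.sq_one_scal hE hexp h2 hf fun w => ?_))
  rw [hfv, hfv, s.lin e he, hc, smul_smul, smul_smul,
    show d⁻¹ * d⁻¹ * (d * d) = 1 by field_simp, one_smul]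

theorem Sys.neg_one_not_square (hns : ∃ x ∈ E, ¬ Scal K x) : ¬ IsSquare (-1 : K) := by
  obtain ⟨x, hx, hx'⟩ := hns
  obtain ⟨y, hy, hxy⟩ : ∃ y ∈ E, Sgn x y (-1 : K) := by
    by_contra h
    push Not at h
    exact hx' (s.rad x hx fun y hy =>
      ((s.fpf_sign hE hexp hx hy).resolve_right (h y hy)).commute)
  have hne : (-1 : K) ≠ 1 := fun h => h2 (by linear_combination -h)
  have hy' : ¬ Scal K y := fun h =>
    hne (hxy.unique ((h.sgn (s.linE hx)).symm (one_mul 1)))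
  have hxy' : ¬ Scal K (x * y) := fun h => by
    have h1 : Sgn x (x * y) (-1 : K) := by simpa using (Sgn.refl x).mul_right hxy (s.linE hx)
    exact hne (h1.unique ((h.sgn (s.linE hx)).symm (one_mul 1)))
  obtain ⟨c, hc⟩ := s.sq_scal hE hexp hx
  obtain ⟨c', hc'⟩ := s.sq_scal hE hexp hy
  simp only [pow_two, mul_apply'] at hc hc'
  have n1 := s.not_square hE hexp h2 hx hx' hc
  have n2 := s.not_square hE hexp h2 hy hy' hc'
  have n3 : ¬ IsSquare (-(c * c')) := s.not_square hE hexp h2 (E.mul_mem hx hy) hxy' fun v => by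
    rw [mul_apply', mul_apply', (hxy.symm (by ring)) (y ⋅ v), s.lin x hx, hc, hc', smul_smul,
      smul_smul, mul_assoc, neg_one_mul]
  rintro ⟨i, hi⟩
  haveI := Fintype.ofFinite K
  have hF : ringChar K ≠ 2 := fun h => h2 (by
    have h' : ((2 : ℕ) : K) = 0 := by rw [← h]; exact ringChar.Nat.cast_ringChar
    exact_mod_cast h')
  have hc0 : c ≠ 0 := fun h => n1 (h ▸ IsSquare.zero)
  have hc0' : c' ≠ 0 := fun h => n2 (h ▸ IsSquare.zero)
  have key : ∀ a : K, a ≠ 0 → ¬ IsSquare a → a ^ (Fintype.card K / 2) = -1 := fun a ha hn =>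
    (FiniteField.pow_dichotomy hF ha).resolve_left fun h => hn ((FiniteField.isSquare_iff hF ha).2 h)
  obtain ⟨d, hd⟩ : IsSquare (c * c') := (FiniteField.isSquare_iff hF (mul_ne_zero hc0 hc0')).2 (by
    rw [mul_pow, key c hc0 n1, key c' hc0' n2]; ring)
  exact n3 ⟨i * d, by linear_combination (c * c') * hi + i * i * hd⟩

/-- Every nonscalar element has a multiple squaring to `-1`. -/
theorem Sys.exists_unit {e : AutGp V} (he : e ∈ E) (hns : ¬ Scal K e) :
    ∃ d : K, d ≠ 0 ∧ ∃ f ∈ E, (∀ v : V, f ⋅ v = d • e ⋅ v) ∧ ∀ v : V, f ⋅ (f ⋅ v) = -v := by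
  obtain ⟨c, hc⟩ := s.sq_scal hE hexp he
  simp only [pow_two, mul_apply'] at hc
  have n1 := s.not_square hE hexp h2 he hns hc
  have n2 := s.neg_one_not_square hE hexp h2 ⟨e, he, hns⟩
  haveI := Fintype.ofFinite K
  have hF : ringChar K ≠ 2 := fun h => h2 (by
    have h' : ((2 : ℕ) : K) = 0 := by rw [← h]; exact ringChar.Nat.cast_ringChar
    exact_mod_cast h')
  have hc0 : c ≠ 0 := fun h => n1 (h ▸ IsSquare.zero)
  have key : ∀ a : K, a ≠ 0 → ¬ IsSquare a → a ^ (Fintype.card K / 2) = -1 := fun a ha hn =>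
    (FiniteField.pow_dichotomy hF ha).resolve_left fun h => hn ((FiniteField.isSquare_iff hF ha).2 h)
  obtain ⟨d, hd⟩ : IsSquare (-c) := (FiniteField.isSquare_iff hF (neg_ne_zero.2 hc0)).2 (by
    rw [show -c = -1 * c by ring, mul_pow, key c hc0 n1,
      key (-1) (neg_ne_zero.2 one_ne_zero) n2]; ring)
  have hd0 : d ≠ 0 := fun h => hc0 (by rw [h, mul_zero, neg_eq_zero] at hd; exact hd)
  obtain ⟨f, hf, hfv⟩ := s.smul_mem' (inv_ne_zero hd0) he
  refine ⟨d⁻¹, inv_ne_zero hd0, f, hf, hfv, fun v => ?_⟩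
  rw [hfv, hfv, s.lin e he, hc, smul_smul, smul_smul, ← neg_one_smul K v, show c = -(d * d) by
    rw [← hd, neg_neg]]
  congr 1
  field_simp

/-- The centralizer of a root of `-1`. -/
theorem Sys.cent_unit {x e : AutGp V} (hx : x ∈ E) (hxx : ∀ v : V, x ⋅ (x ⋅ v) = -v) (he : e ∈ E)
    (hc : Sgn x e (1 : K)) : Scal K e ∨ ∃ t : K, ∀ v : V, e ⋅ v = t • x ⋅ v := by
  by_cases hns : Scal K e
  · exact Or.inl hns
  obtain ⟨d, hd, f, hf, hfv, hff⟩ := s.exists_unit hE hexp h2 he hns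
  have hxf : ∀ v : V, f ⋅ (x ⋅ v) = x ⋅ (f ⋅ v) := fun v => by
    rw [hfv, hfv, s.lin x hx, hc v, one_smul]
  obtain ⟨t, ht⟩ := s.sq_one_scal hE hexp h2 (E.mul_mem hx hf) fun v => by
    rw [mul_apply', mul_apply', hxf, hxx, hff, neg_neg]
  refine Or.inr ⟨d⁻¹ * -t, fun v => ?_⟩
  have h1 : x ⋅ (x ⋅ (f ⋅ v)) = t • x ⋅ v := by rw [← mul_apply' x f, ht, s.lin x hx]
  rw [hxx, hfv] at h1
  rw [mul_smul, neg_smul, ← h1, neg_neg, inv_smul_smul₀ hd]

/-- A quaternion pair generates the group over the scalars. -/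
theorem Quat.cases {i j : AutGp V} (Q : Quat K E i j) {e : AutGp V} (he : e ∈ E) :
    ∃ t : K, (∀ v : V, e ⋅ v = t • v) ∨ (∀ v : V, e ⋅ v = t • i ⋅ v) ∨
      (∀ v : V, e ⋅ v = t • j ⋅ v) ∨ (∀ v : V, e ⋅ v = t • i ⋅ (j ⋅ v)) := by
  have mm : (-1 : K) * -1 = 1 := by ring
  rcases s.fpf_sign hE hexp Q.hi he with h1 | h1
  · rcases s.cent_unit hE hexp h2 Q.hi Q.sqi he h1 with ⟨t, ht⟩ | ⟨t, ht⟩
    · exact ⟨t, Or.inl ht⟩
    · exact ⟨t, Or.inr (Or.inl ht)⟩
  rcases s.fpf_sign hE hexp Q.hj he with h3 | h3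
  · rcases s.cent_unit hE hexp h2 Q.hj Q.sqj he h3 with ⟨t, ht⟩ | ⟨t, ht⟩
    · exact ⟨t, Or.inl ht⟩
    · exact ⟨t, Or.inr (Or.inr (Or.inl ht))⟩
  have h5 : Sgn (i * j) e (1 : K) := by simpa using h1.mul_left h3 (s.linE Q.hi)
  rcases s.cent_unit hE hexp h2 (E.mul_mem Q.hi Q.hj) (fun v => by
      rw [mul_apply', mul_apply', Q.ij.symm mm (j ⋅ v), s.lin i Q.hi, Q.sqj, map_neg, map_neg,
        Q.sqi, smul_neg, neg_smul, one_smul, neg_neg]) he h5 with ⟨t, ht⟩ | ⟨t, ht⟩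
  · exact ⟨t, Or.inl ht⟩
  · exact ⟨t, Or.inr (Or.inr (Or.inr fun v => by rw [ht, mul_apply']))⟩

theorem Sys.exists_quat (hns : ∃ x ∈ E, ¬ Scal K x) : ∃ i j : AutGp V, Quat K E i j := by
  obtain ⟨x, hx, hx'⟩ := hns
  obtain ⟨d, hd, i, hi, hiv, hii⟩ := s.exists_unit hE hexp h2 hx hx'
  have hi' : ¬ Scal K i := fun h => hx' (Scal.of_smul hd hiv h)
  obtain ⟨y, hy, hiy⟩ : ∃ y ∈ E, Sgn i y (-1 : K) := by
    by_contra h
    push Not at h
    exact hi' (s.rad i hi fun y hy =>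
      ((s.fpf_sign hE hexp hi hy).resolve_right (h y hy)).commute)
  have hy' : ¬ Scal K y := fun h => h2 (by
    linear_combination ((h.sgn (s.linE hi)).symm (one_mul 1)).unique hiy)
  obtain ⟨d', -, j, hj, hjv, hjj⟩ := s.exists_unit hE hexp h2 hy hy'
  refine ⟨i, j, hi, hj, hii, hjj, fun v => ?_⟩
  rw [hjv, hjv, s.lin i hi, hiy, smul_smul, smul_smul, mul_comm]

end

end CfsgLib.BaseTwo73
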