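import Cfsg.Agent.BaseTwo73.Top
import Cfsg.Agent.BaseTwo73.Decomp
import Cfsg.Agent.RegOrbit.Main

/-!
# Solvable coprime groups of automorphisms have bases of two vectors
-/

set_option autoImplicit false
set_option linter.style.haveILetI false

namespace CfsgLib.BaseTwo73

open CfsgLib.RegOrbit
open scoped commutatorElement

universe v

local notation:80 a " ⋅ " v:81 => ((a : AutGp _) : AddMonoid.End _) v

/-- The product with a normalized solvable subgroup. -/
theorem isSolvable_sup {X : Type*} [Group X] {A S : Subgroup X} (hA : Group.IsSolvable A)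
    (hS : Group.IsSolvable S) (h : A ≤ Subgroup.normalizer (S : Set X)) :
    Group.IsSolvable (A ⊔ S : Subgroup X) ∧
      Nat.card (A ⊔ S : Subgroup X) ∣ Nat.card A * Nat.card S := by
  haveI := hA
  haveI := hS
  set P := A ⊔ S with hP
  have hPn : P ≤ Subgroup.normalizer (S : Set X) := sup_le h Subgroup.le_normalizer
  haveI : (S.subgroupOf P).Normal := ⟨fun n hn g => by
    rw [Subgroup.mem_subgroupOf] at hn ⊢
    exact (Subgroup.mem_normalizer_iff.1 (hPn g.2) n).1 hn⟩
  let f : A →* P ⧸ S.subgroupOf P :=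
    (QuotientGroup.mk' _).comp (Subgroup.inclusion le_sup_left)
  have hf : Function.Surjective f := by
    intro z
    obtain ⟨w, rfl⟩ := QuotientGroup.mk'_surjective (S.subgroupOf P) z
    have hw : (w : X) ∈ ((A ⊔ S : Subgroup X) : Set X) := w.2
    rw [Subgroup.coe_mul_of_left_le_normalizer_right A S h] at hw
    obtain ⟨a, ha, s, hs, has⟩ := hw
    refine ⟨⟨a, ha⟩, QuotientGroup.eq.2 (Subgroup.mem_subgroupOf.2 ?_)⟩
    simp only [Subgroup.coe_mul, Subgroup.coe_inv, Subgroup.coe_inclusion]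
    rw [← has, inv_mul_cancel_left]
    exact hs
  haveI : Group.IsSolvable (S.subgroupOf P) :=
    Group.isSolvable_of_isSolvable_injective
      (f := (Subgroup.subgroupOfEquivOfLe (le_sup_right : S ≤ P)).toMonoidHom)
      (Subgroup.subgroupOfEquivOfLe (le_sup_right : S ≤ P)).injective
  haveI : Group.IsSolvable (P ⧸ S.subgroupOf P) := Group.isSolvable_of_surjective hf
  refine ⟨Group.isSolvable_of_ker_le_range (S.subgroupOf P).subtype
    (QuotientGroup.mk' (S.subgroupOf P)) (by rw [QuotientGroup.ker_mk', Subgroup.range_subtype]), ?_⟩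
  rw [Subgroup.card_eq_card_quotient_mul_card_subgroup (S.subgroupOf P),
    Nat.card_congr (Subgroup.subgroupOfEquivOfLe (le_sup_right : S ≤ P)).toEquiv]
  exact Nat.mul_dvd_mul_right (Subgroup.card_dvd_of_surjective f hf) _

/-- The primitive case in odd characteristic. -/
theorem base_of_primitive {V : Type v} [AddCommGroup V] [Finite V] [Nontrivial V]
    {A₀ : Subgroup (AutGp V)} (hsol₀ : Group.IsSolvable A₀)
    (hcop₀ : (Nat.card A₀).Coprime (Nat.card V)) (hirr₀ : Irred A₀) (hprim₀ : Prim A₀)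
    (hodd : ¬ 2 ∣ Nat.card V) (ih : CopBelow.{v} (Nat.card V)) : RegOrbit.Base A₀ := by
  classical
  obtain ⟨A, ⟨hle, hsol, hcop⟩, hAmax⟩ := Set.Finite.exists_maximalFor id
    {B : Subgroup (AutGp V) | A₀ ≤ B ∧ Group.IsSolvable B ∧
      (Nat.card B).Coprime (Nat.card V)} (Set.toFinite _) ⟨A₀, le_rfl, hsol₀, hcop₀⟩
  suffices h : ∃ x y : V, Pair A x y by
    obtain ⟨x, y, h⟩ := h
    exact ⟨x, y, h.mono hle⟩
  have hirr : Irred A := fun U hU => hirr₀ U fun a ha => hU a (hle ha)
  have hprim : Prim A := fun ι hι U hU σ hσ =>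
    hprim₀ ι hι U hU (σ.comp (Subgroup.inclusion hle)) fun a i u hu =>
      hσ (Subgroup.inclusion hle a) i u hu
  obtain ⟨Z, ⟨hZA, hZn, hZc⟩, hZmax⟩ := Set.Finite.exists_maximalFor id
    {M : Subgroup (AutGp V) | M ≤ A ∧ NormBy A M ∧ ∀ x ∈ M, ∀ y ∈ M, x * y = y * x}
    (Set.toFinite _)
    ⟨⊥, bot_le, fun a _ x hx => by rw [Subgroup.mem_bot.1 hx, mul_one, mul_inv_cancel]; exact one_mem _,
      fun x hx y _ => by rw [Subgroup.mem_bot.1 hx, one_mul, mul_one]⟩
  have hmax : ∀ M ≤ A, NormBy A M → (∀ x ∈ M, ∀ y ∈ M, x * y = y * x) → Z ≤ M → M ≤ Z :=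
    fun M h1 h2 h3 h4 => hZmax ⟨h1, h2, h3⟩ h4
  -- the field
  set K := Subring.closure (((↑) : AutGp V → AddMonoid.End V) '' (Z : Set (AutGp V))) with hKdef
  have hK : NormRing A K := normRing_closure Z hZc hZn
  letI : CommRing K :=
    { (inferInstance : Ring K) with mul_comm := fun x y => Subtype.ext (hK.comm x x.2 y y.2) }
  haveI : Nontrivial K := by
    refine ⟨0, 1, fun h => ?_⟩
    obtain ⟨v, hv⟩ := exists_ne (0 : V)
    exact hv (DFunLike.congr_fun (congrArg Subtype.val h) v).symm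
  haveI : NoZeroDivisors K := ⟨fun {x y} hxy => by
    by_cases hx : x = 0
    · exact Or.inl hx
    refine Or.inr (Subtype.ext (AddMonoidHom.ext fun v => ?_))
    refine hK.injective hprim hirr x.2 (fun h => hx (Subtype.ext h)) ?_
    exact (DFunLike.congr_fun (congrArg Subtype.val hxy) v).trans (map_zero (x : AddMonoid.End V)).symm⟩
  haveI : IsDomain K := NoZeroDivisors.to_isDomain K
  haveI : Fintype K := Fintype.ofFinite K
  letI : Field K := Fintype.fieldOfDomain K
  let ι₀ : Z →* K :=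
    { toFun := fun z => ⟨((z : AutGp V) : AddMonoid.End V),
        Subring.subset_closure ⟨_, z.2, rfl⟩⟩
      map_one' := rfl
      map_mul' := fun _ _ => rfl }
  let ι : Z →* Kˣ := ι₀.toHomUnits
  have hι : Function.Injective ι := fun a b hab =>
    Subtype.ext (Units.ext (congrArg (fun u : Kˣ => ((u : K) : AddMonoid.End V)) hab))
  have hscalar : ∀ (z : Z) (v : V), (z : AutGp V) ⋅ v = (ι z : K) • v := fun z v => rfl
  set C := A ⊓ Subgroup.centralizer (Z : Set (AutGp V)) with hC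
  have hlin : ∀ a ∈ C, ∀ (t : K) (v : V), a ⋅ (t • v) = t • a ⋅ v := by
    intro a ha t v
    have hle : K ≤ Subring.centralizer ({(a : AddMonoid.End V)} : Set (AddMonoid.End V)) := by
      rw [hKdef, Subring.closure_le]
      rintro _ ⟨z, hz, rfl⟩
      rw [SetLike.mem_coe, Subring.mem_centralizer_iff]
      intro u hu
      rw [Set.mem_singleton_iff] at hu
      rw [hu]
      exact congrArg Units.val (Subgroup.mem_centralizer_iff.1 ha.2 z hz).symm
    exact DFunLike.congr_fun (Subring.mem_centralizer_iff.1 (hle t.2) (a : AddMonoid.End V) rfl) v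
  have hsemi : ∀ a ∈ A, ∀ t : K, ∃ t' : K, ∀ v : V, a ⋅ (t • v) = t' • a ⋅ v := fun a ha t =>
    ⟨⟨_, hK.norm a ha _ t.2⟩, fun v => (conj_apply v).symm⟩
  -- maximality gives all the scalars
  let sc : Kˣ →* AutGp V := Units.map (Subring.subtype K).toMonoidHom
  have hsc : ∀ (u : Kˣ) (v : V), sc u ⋅ v = (u : K) • v := fun u v => rfl
  have hscA : sc.range ≤ Z := by
    have hnorm : ∀ a ∈ A, ∀ x ∈ sc.range, a * x * a⁻¹ ∈ sc.range := by
      rintro a ha _ ⟨u, rfl⟩
      obtain ⟨t', ht'⟩ := hsemi a ha (u : K)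
      have ht0 : t' ≠ 0 := fun h => by
        obtain ⟨v, hv⟩ := exists_ne (0 : V)
        exact map_ne_zero' a (smul_ne_zero u.ne_zero hv) (by rw [ht', h, zero_smul])
      refine ⟨Units.mk0 t' ht0, ext' fun v => ?_⟩
      rw [mul_apply', mul_apply', hsc, hsc, ht', apply_inv', Units.val_mk0]
    have hScomm : ∀ x ∈ sc.range, ∀ y ∈ sc.range, x * y = y * x := by
      rintro _ ⟨u, rfl⟩ _ ⟨w, rfl⟩
      rw [← map_mul, ← map_mul, mul_comm]
    have hZS : Z ≤ sc.range := fun z hz => ⟨ι ⟨z, hz⟩, ext' fun v => rfl⟩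
    haveI : Group.IsSolvable Kˣ := inferInstance
    obtain ⟨hsup, hdvd⟩ := isSolvable_sup hsol
      (Group.isSolvable_of_surjective sc.rangeRestrict_surjective)
      (NormBy.le_normalizer (A := A) (H := sc.range) hnorm)
    have hVcard : ∃ k, Nat.card V = Nat.card K ^ k := by
      haveI : Module.Finite K V := Module.Finite.of_finite
      exact ⟨_, Module.natCard_eq_pow_finrank (K := K) (V := V)⟩
    have hcop' : (Nat.card (A ⊔ sc.range : Subgroup (AutGp V))).Coprime (Nat.card V) := by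
      refine Nat.Coprime.coprime_dvd_left hdvd (Nat.Coprime.mul_left hcop ?_)
      refine Nat.Coprime.coprime_dvd_left (Subgroup.card_range_dvd sc) ?_
      obtain ⟨k, hk⟩ := hVcard
      rw [hk, Nat.card_units]
      refine Nat.Coprime.pow_right _ ?_
      have h1 := Finite.one_lt_card (α := K)
      obtain ⟨m, hm⟩ : ∃ m, Nat.card K = m + 1 := ⟨_, (Nat.sub_add_cancel h1.le).symm⟩
      rw [hm, Nat.add_sub_cancel]
      exact (Nat.coprime_self_add_right).2 (Nat.coprime_one_right m)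
    have hSA : sc.range ≤ A := le_sup_right.trans
      (hAmax ⟨hle.trans le_sup_left, hsup, hcop'⟩ (le_sup_left : A ≤ A ⊔ sc.range))
    exact hmax _ hSA hnorm hScomm hZS
  have hscZ : ∀ t : K, t ≠ 0 → ∃ z ∈ Z, ∀ v : V, z ⋅ v = t • v := fun t ht =>
    ⟨sc (Units.mk0 t ht), hscA ⟨_, rfl⟩, fun v => hsc _ v⟩
  have hscal_mem : ∀ x : AutGp V, Scal K x → x ∈ Z := by
    rintro x ⟨t, ht⟩
    have ht0 : t ≠ 0 := fun h => by
      obtain ⟨v, hv⟩ := exists_ne (0 : V)
      exact map_ne_zero' x hv (by rw [ht, h, zero_smul])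
    obtain ⟨z, hz, hzv⟩ := hscZ t ht0
    rwa [show x = z from ext' fun v => by rw [ht, hzv]]
  have hmem_scal : ∀ x ∈ Z, Scal K x := fun x hx => ⟨_, hscalar ⟨x, hx⟩⟩
  obtain ⟨E, hE⟩ := exists_sympData hsol hZA hZn hZc hmax
  obtain ⟨W, iW, fW, B, -, -, -, -, -, hexp⟩ := hE.exists_module hι hmax hsol
  have hEC : E ≤ C := hE.leC
  have s : Sys K A E :=
    { le := hEC.trans inf_le_left
      norm := hE.normE
      cop := hcop
      semi := hsemi
      lin := fun e he => hlin e (hEC he)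
      scal := fun t ht => (hscZ t ht).imp fun z hz => ⟨hE.le hz.1, hz.2⟩
      comm := fun x hx y hy => by
        obtain ⟨t, ht⟩ := hmem_scal _ (hE.comm x hx y hy)
        refine ⟨t, fun v => ?_⟩
        rw [← ht, ← mul_apply', ← mul_apply', ← mul_apply', commutatorElement_def]
        congr 2
        group
      rad := fun x hx h => hmem_scal _ (hE.rad ⟨hx, Subgroup.mem_centralizer_iff.2 fun y hy =>
        (h y hy).symm⟩) }
  have hexp' : ExpHyp K E := fun x hx r hr h => hmem_scal _ (hexp x hx r hr (hscal_mem _ h))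
  have h2 : (2 : K) ≠ 0 := fun h => by
    obtain ⟨v, hv⟩ := exists_ne (0 : V)
    haveI := Fact.mk Nat.prime_two
    refine hodd ?_
    have hv2 : (2 : ℕ) • v = 0 := by
      rw [← Nat.cast_smul_eq_nsmul K, Nat.cast_ofNat, h, zero_smul]
    rw [← addOrderOf_eq_prime hv2 hv]
    exact addOrderOf_dvd_natCard v
  have hcent : ∀ a ∈ A, Lin K a → (∀ e ∈ E, a * e = e * a) → Scal K a := fun a ha hl hc =>
    hmem_scal a (hE.cent ⟨⟨ha, Subgroup.mem_centralizer_iff.2 fun z hz => ext' fun v => by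
        obtain ⟨t, ht⟩ := hmem_scal z hz
        rw [mul_apply', mul_apply', ht, ht, hl]⟩,
      Subgroup.mem_centralizer_iff.2 fun e he => (hc e he).symm⟩)
  refine exists_pair s hsol ih h2 hexp' hcent fun hK35 => ?_
  -- squares are scalars
  obtain ⟨-, -, hlinall⟩ := small_facts (V := V) (K := K) hK35
  have hq : ∀ x ∈ E, Scal K (x ^ (Nat.card K - 1)) := fun x hx => by
    refine hmem_scal _ (hE.rad ⟨E.pow_mem hx _, Subgroup.mem_centralizer_iff.2 fun y hy => ext' fun v => ?_⟩)
    obtain ⟨t, ht⟩ := s.comm x hx y hy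
    have ht0 : t ≠ 0 := fun h => by
      obtain ⟨w, hw⟩ := exists_ne (0 : V)
      exact map_ne_zero' x (map_ne_zero' y hw) (by rw [ht, h, zero_smul])
    rw [mul_apply', mul_apply', s.pow_swap' hx hy ht, Nat.card_eq_fintype_card,
      FiniteField.pow_card_sub_one_eq_one t ht0, one_smul]
  have hsq2 : ∀ x ∈ E, Scal K (x ^ 2) := fun x hx => by
    rcases hK35 with h | h
    · have h' := hq x hx
      rw [h] at h'
      exact h'
    · refine hexp' x hx 2 Nat.prime_two ?_
      have h' := hq x hx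
      rw [h] at h'
      exact h'
  have hsqv : ∀ x ∈ E, ∃ c : K, ∀ v : V, x ⋅ (x ⋅ v) = c • v := fun x hx => by
    obtain ⟨c, hc⟩ := hsq2 x hx
    exact ⟨c, fun v => by rw [← hc, pow_two, mul_apply']⟩
  intro x₀ hx₀
  obtain ⟨c₀, hc₀⟩ := hsqv x₀ hx₀
  refine ⟨c₀, hc₀, fun h5 => ?_⟩
  haveI := charP_of_card (show Nat.Prime 5 by norm_num) h5
  have h50 : (5 : K) = 0 := by exact_mod_cast CharP.cast_eq_zero K 5
  have hm1 : IsSquare (-1 : K) := ⟨2, by linear_combination -h50⟩
  obtain ⟨v₀, hv₀⟩ := exists_ne (0 : V)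
  have hcne : ∀ {x : AutGp V} {c : K}, (∀ v : V, x ⋅ (x ⋅ v) = c • v) → c ≠ 0 := fun {x c} h h0 =>
    map_ne_zero' x (map_ne_zero' x hv₀) (by rw [h, h0, zero_smul])
  have hprod : ∀ x ∈ E, ∀ y ∈ E, ∀ {c c' : K}, (∀ v : V, x ⋅ (x ⋅ v) = c • v) →
      (∀ v : V, y ⋅ (y ⋅ v) = c' • v) → IsSquare (c * c') →
      ∃ d : K, IsSquare d ∧ ∀ v : V, (x * y) ⋅ ((x * y) ⋅ v) = d • v := by
    intro x hx y hy c c' hc hc' hcc
    obtain ⟨t, ht⟩ := s.comm y hy x hx
    have htt : IsSquare t := by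
      have h1 := hc' (x ⋅ v₀)
      rw [ht, s.lin y hy, ht, smul_smul, hc', s.lin x hx, smul_smul] at h1
      have h3 : t * t * c' = c' := smul_left_injective K (map_ne_zero' x hv₀) h1
      rcases mul_self_eq_one_iff.1 (mul_right_cancel₀ (hcne hc') (h3.trans (one_mul c').symm)) with
        h | h
      · exact h ▸ IsSquare.one
      · exact h ▸ hm1
    exact ⟨t * (c * c'), htt.mul hcc, fun v => by
      rw [mul_apply', mul_apply', ht, s.lin x hx, hc, hc', smul_smul, smul_smul, mul_assoc]⟩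
  let Y : Subgroup (AutGp V) :=
    { carrier := {x | x ∈ E ∧ ∃ c : K, IsSquare c ∧ ∀ v : V, x ⋅ (x ⋅ v) = c • v}
      one_mem' := ⟨E.one_mem, 1, IsSquare.one, fun v => (one_smul K v).symm⟩
      mul_mem' := by
        rintro x y ⟨hx, c, hc, hcv⟩ ⟨hy, c', hc', hcv'⟩
        exact ⟨E.mul_mem hx hy, hprod x hx y hy hcv hcv' (hc.mul hc')⟩
      inv_mem' := by
        rintro x ⟨hx, c, hc, hcv⟩
        refine ⟨E.inv_mem hx, c⁻¹, hc.inv, fun v => ?_⟩
        apply inj' x
        apply inj' x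
        show x ⋅ (x ⋅ (x⁻¹ ⋅ (x⁻¹ ⋅ v))) = x ⋅ (x ⋅ (c⁻¹ • v))
        rw [apply_inv', apply_inv', hcv, smul_smul, mul_inv_cancel₀ (hcne hcv), one_smul] }
  have hYE : Y ≤ E := fun x hx => hx.1
  have hZY : Z ≤ Y := fun z hz => ⟨hE.le hz, by
    obtain ⟨t, ht⟩ := hmem_scal z hz
    exact ⟨t * t, ⟨t, rfl⟩, fun v => by rw [ht, ht, smul_smul]⟩⟩
  have hYn : NormBy A Y := by
    rintro a ha x ⟨hx, c, hc, hcv⟩
    refine ⟨hE.normE a ha x hx, c, hc, fun v => ?_⟩
    rw [mul_apply', mul_apply', mul_apply', mul_apply', inv_apply', hcv, hlinall a, apply_inv']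
  have hrad : Y ⊓ Subgroup.centralizer (Y : Set (AutGp V)) ≤ Z :=
    hmax _ (inf_le_left.trans (hYE.trans (hEC.trans inf_le_left))) (hYn.inf hYn.centralizer)
      (fun x hx y hy => Subgroup.mem_centralizer_iff.1 hy.2 x hx.1)
      (le_inf hZY fun z hz => Subgroup.mem_centralizer_iff.2 fun x hx =>
        hE.centralE hz (hYE hx))
  set P := E ⊓ Subgroup.centralizer (Y : Set (AutGp V)) with hP
  have hPcomm : ∀ x ∈ P, ∀ y ∈ P, x * y = y * x := by
    intro x hx y hy
    by_cases hxY : x ∈ Y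
    · exact (hE.centralE (hrad ⟨hxY, hx.2⟩) hy.1).symm
    by_cases hyY : y ∈ Y
    · exact hE.centralE (hrad ⟨hyY, hy.2⟩) hx.1
    have hxy : x⁻¹ * y ∈ Y := by
      obtain ⟨c, hc⟩ := hsqv x⁻¹ (E.inv_mem hx.1)
      obtain ⟨c', hc'⟩ := hsqv y hy.1
      have n1 : ¬ IsSquare c := fun h => hxY (by
        simpa using Y.inv_mem (show x⁻¹ ∈ Y from ⟨E.inv_mem hx.1, c, h, hc⟩))
      have n2 : ¬ IsSquare c' := fun h => hyY ⟨hy.1, c', h, hc'⟩
      have hF : ringChar K ≠ 2 := fun h => h2 (by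
        have h' : ((2 : ℕ) : K) = 0 := by rw [← h]; exact ringChar.Nat.cast_ringChar
        exact_mod_cast h')
      have key : ∀ a : K, a ≠ 0 → ¬ IsSquare a → a ^ (Fintype.card K / 2) = -1 := fun a ha hn =>
        (FiniteField.pow_dichotomy hF ha).resolve_left fun h =>
          hn ((FiniteField.isSquare_iff hF ha).2 h)
      refine ⟨E.mul_mem (E.inv_mem hx.1) hy.1, hprod _ (E.inv_mem hx.1) y hy.1 hc hc'
        ((FiniteField.isSquare_iff hF (mul_ne_zero (hcne hc) (hcne hc'))).2 ?_)⟩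
      rw [mul_pow, key c (hcne hc) n1, key c' (hcne hc') n2]
      ring
    have hz : x⁻¹ * y ∈ Z := hrad ⟨hxy, (P.mul_mem (P.inv_mem hx) hy).2⟩
    calc x * y = x * (x * (x⁻¹ * y)) := by group
      _ = x * ((x⁻¹ * y) * x) := by rw [hE.centralE hz hx.1]
      _ = y * x := by group
  have hPn : NormBy A P := NormBy.inf hE.normE hYn.centralizer
  have hPZ : P ≤ Z := hmax P (inf_le_left.trans (hEC.trans inf_le_left)) hPn hPcomm
    (le_inf hE.le fun z hz => Subgroup.mem_centralizer_iff.2 fun x hx => hE.centralE hz (hYE hx))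
  have hsup := hE.sup_centralizer hι hZY hYE hrad
  have hxY : x₀ ∈ Y := by
    have : Y ⊔ P ≤ Y := sup_le le_rfl (hPZ.trans hZY)
    exact this (by rw [hsup]; exact hx₀)
  obtain ⟨-, c, hc, hcv⟩ := hxY
  rwa [smul_left_injective K hv₀ ((hc₀ v₀).symm.trans (hcv v₀))]

/-- A solvable group of automorphisms of coprime order has a base of two vectors. -/
theorem base_of_coprime {V : Type v} [AddCommGroup V] [Finite V] {A : Subgroup (AutGp V)}
    (hsol : Group.IsSolvable A) (hcop : (Nat.card A).Coprime (Nat.card V)) :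
    RegOrbit.Base A := by
  suffices h : ∀ N : ℕ, CopBelow.{v} N from
    h (Nat.card V + 1) V _ inferInstance A (Nat.lt_succ_self _) hsol hcop
  intro N
  induction N with
  | zero => exact fun W _ _ _ h => absurd h (Nat.not_lt_zero _)
  | succ N ih =>
    intro W _ _ B hlt hBsol hBcop
    rcases Nat.lt_succ_iff_lt_or_eq.1 hlt with h | h
    · exact ih W _ inferInstance B h hBsol hBcop
    subst h
    rcases subsingleton_or_nontrivial W with hW | hW
    · exact ⟨0, 0, fun a _ _ _ => eq_one_of_forall fun v => Subsingleton.elim _ _⟩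
    by_cases hirr : Irred B
    · by_cases h2 : 2 ∣ Nat.card W
      · refine RegOrbit.base_of_odd (Nat.odd_iff.2 (Nat.two_dvd_ne_zero.1 fun h => ?_)) hBsol ?_
        · have h' := Nat.dvd_gcd h h2
          rw [hBcop.gcd_eq_one] at h'
          norm_num at h'
        · intro U hU
          rcases hirr U hU with h | h
          · exact ⟨⊤, fun _ _ _ _ => AddSubgroup.mem_top _, by rw [h, bot_inf_eq],
              by rw [h, bot_sup_eq]⟩
          · exact ⟨⊥, fun a _ u hu => by rw [AddSubgroup.mem_bot] at hu ⊢; rw [hu, map_zero],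
              inf_bot_eq _, by rw [h, sup_bot_eq]⟩
      by_cases hprim : Prim B
      · exact base_of_primitive hBsol hBcop hirr hprim h2 ih
      · simp only [Prim, not_forall] at hprim
        obtain ⟨ι, hι, U, hU, σ, hσ, hns⟩ := hprim
        exact base_of_imprimitive hBsol hBcop hirr ih h2 hU σ hσ hns
    · simp only [Irred, not_forall, not_or] at hirr
      obtain ⟨U, hU, hU0, hU1⟩ := hirr
      exact base_of_reducible hBsol hBcop ih hU hU0 hU1

/-- The version for an action. -/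
theorem exists_pair_of_coprime {A V : Type*} [Group A] [Finite A] [AddCommGroup V] [Finite V]
    [DistribMulAction A V] [FaithfulSMul A V] (hsol : Group.IsSolvable A)
    (hcop : (Nat.card A).Coprime (Nat.card V)) :
    ∃ v w : V, ∀ a : A, a • v = v → a • w = w → a = 1 := by
  haveI := hsol
  let ρ : A →* AutGp V := (DistribMulAction.toAddMonoidEnd A V).toHomUnits
  have hρ : Function.Injective ρ := fun a b hab => eq_of_smul_eq_smul fun v : V =>
    DFunLike.congr_fun (congrArg Units.val hab) v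
  obtain ⟨v, w, h⟩ := base_of_coprime (A := ρ.range)
    (Group.isSolvable_of_surjective ρ.rangeRestrict_surjective)
    (Nat.Coprime.coprime_dvd_left (Subgroup.card_range_dvd ρ) hcop)
  refine ⟨v, w, fun a hav haw => hρ ?_⟩
  rw [map_one]
  exact h _ ⟨a, rfl⟩ hav haw

end CfsgLib.BaseTwo73
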