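import Mathlib.GroupTheory.SemidirectProduct
import Mathlib.Data.Nat.Factorization.Basic
import Cfsg.Agent.BaseTwo73.Main
import Cfsg.Agent.Coprime.Action
import Cfsg.Agent.Solvable.Frattini

/-!
A solvable group of automorphisms of coprime order of a finite group has a base of two points.

The number of pairs with trivial stabiliser depends only on the numbers of fixed points of the
subgroups; these numbers are the same on `K` and on the product of invariant Sylow subgroups.
-/

open Pointwise
open MulAction
open scoped commutatorElement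

set_option linter.style.haveILetI false

namespace CfsgLib.BaseTwo73.GroupBase

open Classical in
theorem card_fix_sq {A : Type*} [Group A] [Fintype (Subgroup A)] {Ω : Type*} [Finite Ω]
    [MulAction A Ω] (B : Subgroup A) :
    Nat.card {x : Ω // ∀ b ∈ B, b • x = x} * Nat.card {x : Ω // ∀ b ∈ B, b • x = x} =
      ∑ C : {C : Subgroup A // B ≤ C}, Nat.card {z : Ω × Ω // stabilizer A z = C.1} := by
  rw [← Nat.card_prod, ← Nat.card_sigma]
  refine Nat.card_congr (Equiv.trans ?_
    (Equiv.sigmaSubtypeFiberEquivSubtype (fun z : Ω × Ω => stabilizer A z)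
      (p := fun z => B ≤ stabilizer A z) (fun z => Iff.rfl)).symm)
  exact (Equiv.subtypeProdEquivProd.symm).trans (Equiv.subtypeEquivRight fun z =>
    ⟨fun hz b hb => Prod.ext (hz.1 b hb) (hz.2 b hb),
      fun hz => ⟨fun b hb => congrArg Prod.fst (hz hb), fun b hb => congrArg Prod.snd (hz hb)⟩⟩)

/-- Number of fixed points determines the number of pairs with given stabiliser. -/
theorem card_pairs_stab_eq {A : Type*} [Group A] [Finite A] {Ω Ω' : Type*} [Finite Ω] [Finite Ω']
    [MulAction A Ω] [MulAction A Ω']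
    (h : ∀ B : Subgroup A, Nat.card {x : Ω // ∀ b ∈ B, b • x = x} =
      Nat.card {x : Ω' // ∀ b ∈ B, b • x = x}) (B : Subgroup A) :
    Nat.card {z : Ω × Ω // stabilizer A z = B} =
      Nat.card {z : Ω' × Ω' // stabilizer A z = B} := by
  classical
  haveI : Fintype (Subgroup A) := Fintype.ofFinite _
  induction B using WellFoundedGT.induction with | _ B ih => ?_
  have k1 := card_fix_sq (Ω := Ω) B
  have k2 := card_fix_sq (Ω := Ω') B
  rw [h B, k2, ← Finset.add_sum_erase _ _ (Finset.mem_univ ⟨B, le_rfl⟩),
    ← Finset.add_sum_erase _ _ (Finset.mem_univ ⟨B, le_rfl⟩)] at k1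
  rw [Finset.sum_congr rfl fun C hC => ih C.1 (lt_of_le_of_ne C.2 fun hh =>
    (Finset.ne_of_mem_erase hC) (Subtype.ext hh.symm))] at k1
  exact (Nat.add_right_cancel k1).symm

section Ambient

variable {X : Type*} [Group X] [Finite X]

open CfsgLib.Coprime in
/-- The centraliser of `B` in an invariant Sylow subgroup is a Sylow subgroup of the
centraliser of `B`. -/
theorem card_fix_sylow {G B : Subgroup X} (hBG : B ≤ Subgroup.normalizer (G : Set X))
    (hcop : (Nat.card B).Coprime (Nat.card G)) (hsol : Group.IsSolvable B) {p : ℕ} [Fact p.Prime]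
    (P : Sylow p G)
    (hP : B ≤ Subgroup.normalizer (((P : Subgroup G).map G.subtype : Subgroup X) : Set X)) :
    Nat.card ↥((P : Subgroup G).map G.subtype ⊓ Subgroup.centralizer (B : Set X)) =
      p ^ (Nat.card ↥(G ⊓ Subgroup.centralizer (B : Set X))).factorization p := by
  set C := G ⊓ Subgroup.centralizer (B : Set X) with hC
  set P' := (P : Subgroup G).map G.subtype with hP'
  let Q : Sylow p C := default
  set Q' := (Q : Subgroup C).map C.subtype with hQ'
  have hQC : Q' ≤ C := Subgroup.map_subtype_le _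
  have hBQ : B ≤ Subgroup.normalizer (Q' : Set X) :=
    (Subgroup.le_centralizer_iff.mp (hQC.trans inf_le_right)).trans
      (Subgroup.centralizer_le_normalizer _)
  obtain ⟨R, hQR, hR⟩ := exists_invariant_sylow_ge hBG hcop (Or.inl hsol) (hQC.trans inf_le_left)
    (Q.isPGroup'.map _) hBQ
  obtain ⟨g, hg, hgR⟩ := exists_conj_map_sylow R P
  obtain ⟨c, hc, hcR⟩ := exists_conj_eq_of_invariant hBG hcop (Or.inl hsol) hR hP hg hgR
  have hle : MulAut.conj c • Q' ≤ P' ⊓ Subgroup.centralizer (B : Set X) := by
    refine le_inf ?_ (le_trans ?_ (inf_le_right : C ≤ _))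
    · rw [← hcR]
      exact Subgroup.pointwise_smul_le_pointwise_smul_iff.mpr hQR
    · calc MulAut.conj c • Q' ≤ MulAut.conj c • C :=
            Subgroup.pointwise_smul_le_pointwise_smul_iff.mpr hQC
        _ = C := conj_smul_eq_self (Subgroup.le_normalizer hc)
  have h1 := Subgroup.card_dvd_of_le hle
  rw [card_conj_smul, hQ', Subgroup.card_map_of_injective C.subtype_injective,
    Q.card_eq_multiplicity] at h1
  obtain ⟨n, hn⟩ := IsPGroup.iff_card.mp ((P.isPGroup'.map G.subtype).to_le
    (inf_le_left : P' ⊓ Subgroup.centralizer (B : Set X) ≤ P'))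
  have h2 : Nat.card ↥(P' ⊓ Subgroup.centralizer (B : Set X)) ∣ Nat.card C :=
    Subgroup.card_dvd_of_le (inf_le_inf_right _ (Subgroup.map_subtype_le _))
  refine Nat.dvd_antisymm ?_ h1
  rw [hn] at h2 ⊢
  exact pow_dvd_pow p
    ((Fact.out : p.Prime).pow_dvd_iff_le_factorization Nat.card_pos.ne' |>.mp h2)

end Ambient

section Action

variable {A K : Type*} [Group A] [Finite A] [Group K] [Finite K] [MulDistribMulAction A K]

/-- For each prime there is an invariant Sylow subgroup whose fixed points are a Sylow subgroup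
of the fixed points, for all subgroups of `A` at once. -/
theorem exists_sylow_fix (hA : Group.IsSolvable A) (hcop : (Nat.card A).Coprime (Nat.card K))
    (p : ℕ) [Fact p.Prime] :
    ∃ P : Subgroup K, IsPGroup p P ∧ (∀ (a : A), ∀ x ∈ P, a • x ∈ P) ∧
      ∀ B : Subgroup A, Nat.card {x : P // ∀ b ∈ B, b • (x : K) = x} =
        p ^ (Nat.card {x : K // ∀ b ∈ B, b • x = x}).factorization p := by
  set φ := MulDistribMulAction.toMulAut A K
  let il : K →* K ⋊[φ] A := SemidirectProduct.inl
  let ir : A →* K ⋊[φ] A := SemidirectProduct.inr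
  have hil : Function.Injective il := SemidirectProduct.inl_injective
  have hir : Function.Injective ir := SemidirectProduct.inr_injective
  haveI : Finite (K ⋊[φ] A) := Finite.of_equiv _ SemidirectProduct.equivProd.symm
  have haut : ∀ (a : A) (x : K), ir a * il x * ir a⁻¹ = il (a • x) := fun a x =>
    (SemidirectProduct.inl_aut a x).symm
  have hnorm : ir.range ≤ Subgroup.normalizer (il.range : Set (K ⋊[φ] A)) := by
    refine le_trans le_top (le_of_eq ?_)
    rw [eq_comm, Subgroup.normalizer_eq_top_iff]
    show (SemidirectProduct.inl : K →* K ⋊[φ] A).range.Normal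
    rw [SemidirectProduct.range_inl_eq_ker_rightHom]
    infer_instance
  have hcard : Nat.card il.range = Nat.card K :=
    (Nat.card_congr (MonoidHom.ofInjective hil).toEquiv).symm
  have hcardA : Nat.card ir.range = Nat.card A :=
    (Nat.card_congr (MonoidHom.ofInjective hir).toEquiv).symm
  haveI := hA
  have hsolR : Group.IsSolvable ir.range :=
    Group.isSolvable_of_surjective ir.rangeRestrict_surjective
  obtain ⟨S, hS⟩ := CfsgLib.Coprime.exists_invariant_sylow hnorm
    (by rw [hcard, hcardA]; exact hcop) (Or.inl hsolR) p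
  set S' := (S : Subgroup il.range).map il.range.subtype with hS'
  set P := S'.comap il with hP
  have hPS : P.map il = S' := Subgroup.map_comap_eq_self (Subgroup.map_subtype_le _)
  refine ⟨P, (S.isPGroup'.map il.range.subtype).comap_of_injective il hil, fun a x hx => ?_,
    fun B => ?_⟩
  · rw [hP, Subgroup.mem_comap, ← haut, map_inv]
    exact (Subgroup.mem_normalizer_iff.mp (hS ⟨a, rfl⟩) (il x)).mp hx
  set F := FixedPoints.subgroup B K
  have hF : ∀ x, x ∈ F ↔ ∀ b ∈ B, b • x = x :=
    fun x => ⟨fun h b hb => h ⟨b, hb⟩, fun h b => h b b.2⟩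
  have hFmap : F.map il = il.range ⊓ Subgroup.centralizer ((B.map ir : Subgroup _) : Set (K ⋊[φ] A)) := by
    refine le_antisymm (le_inf (Subgroup.map_le_range _ _) ?_) ?_
    · rintro _ ⟨x, hx, rfl⟩
      rw [Subgroup.mem_centralizer_iff]
      rintro _ ⟨b, hb, rfl⟩
      rw [← mul_inv_eq_iff_eq_mul, ← map_inv, haut, (hF x).mp hx b hb]
    · rintro _ ⟨⟨x, rfl⟩, hx⟩
      refine Subgroup.mem_map_of_mem il ((hF x).mpr fun b hb => hil ?_)
      rw [← haut, Subgroup.mem_centralizer_iff.mp hx _ (Subgroup.mem_map_of_mem ir hb),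
        mul_assoc, ← map_mul, mul_inv_cancel, map_one, mul_one]
  have hBr : B.map ir ≤ ir.range := Subgroup.map_le_range _ _
  have key := card_fix_sylow (hBr.trans hnorm)
    (by rw [Subgroup.card_map_of_injective hir, hcard]
        exact hcop.coprime_dvd_left (Subgroup.card_subgroup_dvd_card B))
    (CfsgLib.Coprime.isSolvable_of_le hBr) S (hBr.trans hS)
  rw [← hFmap, Subgroup.card_map_of_injective hil, ← hS', ← hPS,
    show P.map il ⊓ Subgroup.centralizer ((B.map ir : Subgroup _) : Set (K ⋊[φ] A)) =
      (P ⊓ F).map il by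
      rw [Subgroup.map_inf _ _ _ hil, hFmap, ← inf_assoc,
        inf_eq_left.mpr (Subgroup.map_le_range il P)],
    Subgroup.card_map_of_injective hil] at key
  rw [Nat.card_congr (Equiv.subtypeEquivRight fun x => (hF x).symm :
      {x : K // ∀ b ∈ B, b • x = x} ≃ F)]
  rw [← key]
  exact Nat.card_congr ((Equiv.subtypeSubtypeEquivSubtypeInter _ _).trans
    (Equiv.subtypeEquivRight fun x => and_congr_right fun _ => (hF x).symm))

/-- An action which is trivial on the Frattini quotient and coprime is trivial. -/
theorem fixed_of_fixed_frattini (hA : Group.IsSolvable A)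
    (hcop : (Nat.card A).Coprime (Nat.card K))
    (h : ∀ (a : A) (x : K), x⁻¹ * a • x ∈ frattini K) (a : A) (x : K) : a • x = x := by
  set φ := MulDistribMulAction.toMulAut A K
  let il : K →* K ⋊[φ] A := SemidirectProduct.inl
  let ir : A →* K ⋊[φ] A := SemidirectProduct.inr
  have hil : Function.Injective il := SemidirectProduct.inl_injective
  have hir : Function.Injective ir := SemidirectProduct.inr_injective
  haveI : Finite (K ⋊[φ] A) := Finite.of_equiv _ SemidirectProduct.equivProd.symm
  have haut : ∀ (a : A) (x : K), ir a * il x * ir a⁻¹ = il (a • x) := fun a x =>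
    (SemidirectProduct.inl_aut a x).symm
  set N := (frattini K).map il with hN
  have hchar : ∀ (b : A) (z : K), z ∈ frattini K → b • z ∈ frattini K := fun b z hz => by
    have := (inferInstance : (frattini K).Characteristic).fixed (φ b)
    rw [← this] at hz
    exact hz
  have hnorm : ir.range ≤ Subgroup.normalizer (N : Set (K ⋊[φ] A)) := by
    rintro _ ⟨b, rfl⟩
    rw [Subgroup.mem_normalizer_iff]
    have fwd : ∀ (b : A) (n : K ⋊[φ] A), n ∈ N → ir b * n * (ir b)⁻¹ ∈ N := by
      rintro b _ ⟨z, hz, rfl⟩
      rw [← map_inv, haut]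
      exact Subgroup.mem_map_of_mem il (hchar b z hz)
    exact fun n => ⟨fwd b n, fun hn => by simpa [mul_assoc] using fwd b⁻¹ _ hn⟩
  haveI := hA
  suffices htop : FixedPoints.subgroup A K = ⊤ from
    (show x ∈ FixedPoints.subgroup A K by rw [htop]; exact Subgroup.mem_top _) a
  refine frattini_nongenerating (eq_top_iff.mpr fun y _ => ?_)
  obtain ⟨c, hc, hcN⟩ := CfsgLib.Coprime.exists_fixed_mem_coset hnorm
    (by rw [hN, Subgroup.card_map_of_injective hil,
          (Nat.card_congr (MonoidHom.ofInjective hir).toEquiv).symm]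
        exact hcop.coprime_dvd_right (Subgroup.card_subgroup_dvd_card _))
    (Or.inl (Group.isSolvable_of_surjective ir.rangeRestrict_surjective)) (k := il y)
    (by
      rintro _ ⟨b, rfl⟩
      rw [← map_inv, ← map_inv, haut, ← map_mul]
      exact Subgroup.mem_map_of_mem il (h b y))
  obtain ⟨z, hz, hzc⟩ := hcN
  rw [eq_inv_mul_iff_mul_eq, ← map_mul] at hzc
  have hfix : y * z ∈ FixedPoints.subgroup A K := fun b => hil (by
    rw [← haut, hzc, Subgroup.mem_centralizer_iff.mp hc _ ⟨b, rfl⟩, mul_assoc, ← map_mul,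
      mul_inv_cancel, map_one, mul_one])
  rw [show y = y * z * z⁻¹ by group]
  exact Subgroup.mul_mem_sup hfix (inv_mem hz)

end Action

/-- The abelian case, for a product. -/
theorem exists_pair_pi {A : Type*} [Group A] [Finite A] {ι : Type*} [Finite ι] (Q : ι → Type*)
    [∀ i, CommGroup (Q i)] [∀ i, Finite (Q i)] [∀ i, MulDistribMulAction A (Q i)]
    (hA : Group.IsSolvable A) (hcop : ∀ i, (Nat.card A).Coprime (Nat.card (Q i)))
    (hf : ∀ a : A, (∀ (i : ι) (x : Q i), a • x = x) → a = 1) :
    ∃ v w : ∀ i, Q i, ∀ a : A, a • v = v → a • w = w → a = 1 := by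
  classical
  letI : DistribMulAction A (Additive (∀ i, Q i)) :=
    { smul := fun a v => Additive.ofMul (a • v.toMul)
      one_smul := fun v => congrArg Additive.ofMul (one_smul A v.toMul)
      mul_smul := fun a b v => congrArg Additive.ofMul (mul_smul a b v.toMul)
      smul_zero := fun a => congrArg Additive.ofMul (smul_one a)
      smul_add := fun a v w => congrArg Additive.ofMul (smul_mul' a v.toMul w.toMul) }
  haveI : FaithfulSMul A (Additive (∀ i, Q i)) := ⟨fun {a b} hab => by
    have h1 : ∀ (i : ι) (x : Q i), a • x = b • x := fun i x => by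
      have h2 : a • (Pi.mulSingle i x : ∀ i, Q i) = b • Pi.mulSingle i x :=
        hab (Additive.ofMul (Pi.mulSingle i x))
      simpa using congrFun h2 i
    exact (eq_of_inv_mul_eq_one (hf (a⁻¹ * b) fun i x => by
      rw [mul_smul, ← h1, inv_smul_smul]))⟩
  haveI : Fintype ι := Fintype.ofFinite ι
  haveI : Finite (Additive (∀ i, Q i)) := inferInstanceAs (Finite (∀ i, Q i))
  obtain ⟨v, w, h⟩ := CfsgLib.BaseTwo73.exists_pair_of_coprime (V := Additive (∀ i, Q i)) hA
    (by
      rw [Nat.card_congr Additive.toMul, Nat.card_pi]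
      exact Nat.Coprime.prod_right fun i _ => hcop i)
  exact ⟨v.toMul, w.toMul, fun a ha hb => h a (congrArg Additive.ofMul ha)
    (congrArg Additive.ofMul hb)⟩

/-- Two points with trivial common stabiliser. -/
theorem exists_pair {A K : Type*} [Group A] [Finite A] [Group K] [Finite K]
    [MulDistribMulAction A K] [FaithfulSMul A K] (hA : Group.IsSolvable A)
    (hcop : (Nat.card A).Coprime (Nat.card K)) :
    ∃ x y : K, ∀ a : A, a • x = x → a • y = y → a = 1 := by
  classical
  let ι := {p : ℕ // p ∈ (Nat.card K).primeFactors}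
  haveI hp : ∀ i : ι, Fact (i.1.Prime) := fun i => ⟨Nat.prime_of_mem_primeFactors i.2⟩
  choose P hPp hPinv hPfix using fun i : ι => exists_sylow_fix (K := K) hA hcop i.1
  letI : ∀ i, SMul A (P i) := fun i => ⟨fun a x => ⟨a • (x : K), hPinv i a x x.2⟩⟩
  letI : ∀ i, MulDistribMulAction A (P i) := fun i =>
    Function.Injective.mulDistribMulAction (P i).subtype (P i).subtype_injective fun _ _ => rfl
  -- fixed points
  have hfix : ∀ B : Subgroup A, Nat.card {x : K // ∀ b ∈ B, b • x = x} =
      Nat.card {z : ∀ i, P i // ∀ b ∈ B, b • z = z} := by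
    intro B
    haveI : Nonempty {x : K // ∀ b ∈ B, b • x = x} := ⟨⟨1, fun b _ => smul_one b⟩⟩
    set n := Nat.card {x : K // ∀ b ∈ B, b • x = x}
    have hn : n ≠ 0 := Nat.card_pos.ne'
    have hdvd : n ∣ Nat.card K := by
      have : n = Nat.card (FixedPoints.subgroup B K) := Nat.card_congr (Equiv.subtypeEquivRight
        fun x => ⟨fun h b => h b b.2, fun h b hb => h ⟨b, hb⟩⟩)
      exact this ▸ Subgroup.card_subgroup_dvd_card _
    calc n = ∏ p ∈ (Nat.card K).primeFactors, p ^ n.factorization p := by
          conv_lhs => rw [← Nat.prod_factorization_pow_eq_self hn]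
          refine Finsupp.prod_of_support_subset _ ?_ _ fun i _ => pow_zero i
          rw [Nat.support_factorization]
          exact Nat.primeFactors_mono hdvd Nat.card_pos.ne'
      _ = ∏ i : ι, Nat.card {x : P i // ∀ b ∈ B, b • (x : K) = x} := by
          rw [← Finset.prod_coe_sort]
          exact Finset.prod_congr rfl fun i _ => (hPfix i B).symm
      _ = Nat.card (∀ i : ι, {x : P i // ∀ b ∈ B, b • (x : K) = x}) := Nat.card_pi.symm
      _ = _ := Nat.card_congr (Equiv.subtypePiEquivPi.symm.trans (Equiv.subtypeEquivRight fun z =>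
          ⟨fun h b hb => funext fun i => Subtype.ext (h i b hb),
            fun h i b hb => congrArg Subtype.val (congrFun (h b hb) i)⟩))
  -- Frattini quotients
  letI : ∀ i, CommGroup (P i ⧸ frattini (P i)) := fun i =>
    { (inferInstance : Group (P i ⧸ frattini (P i))) with
      mul_comm := fun a b => by
        induction a using QuotientGroup.induction_on with | H x => ?_
        induction b using QuotientGroup.induction_on with | H y => ?_
        rw [← QuotientGroup.mk_mul, ← QuotientGroup.mk_mul, QuotientGroup.eq]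
        refine CfsgLib.Solvable.commutator_le_frattini (hPp i) ?_
        have : (x * y)⁻¹ * (y * x) = ⁅y⁻¹, x⁻¹⁆ := by rw [commutatorElement_def]; group
        rw [this, commutator_def]
        exact Subgroup.commutator_mem_commutator (Subgroup.mem_top _) (Subgroup.mem_top _) }
  have hchar : ∀ (i : ι) (a : A) (z : P i), z ∈ frattini (P i) → a • z ∈ frattini (P i) :=
    fun i a z hz => by
      have := (inferInstance : (frattini (P i)).Characteristic).fixed
        (MulDistribMulAction.toMulAut A (P i) a)
      rw [← this] at hz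
      exact hz
  letI : ∀ i, SMul A (P i ⧸ frattini (P i)) := fun i =>
    ⟨fun a => QuotientGroup.map _ _ (MulDistribMulAction.toMonoidHom (P i) a)
      fun z hz => Subgroup.mem_comap.mpr (hchar i a z hz)⟩
  have hmk : ∀ (i : ι) (a : A) (z : P i),
      a • (z : P i ⧸ frattini (P i)) = ((a • z : P i) : P i ⧸ frattini (P i)) :=
    fun _ _ _ => rfl
  letI : ∀ i, MulDistribMulAction A (P i ⧸ frattini (P i)) := fun i =>
    { one_smul := fun q => by
        induction q using QuotientGroup.induction_on with | H x => ?_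
        rw [hmk, one_smul]
      mul_smul := fun a b q => by
        induction q using QuotientGroup.induction_on with | H x => ?_
        rw [hmk, hmk, hmk, mul_smul]
      smul_mul := fun a q r => by
        induction q using QuotientGroup.induction_on with | H x => ?_
        induction r using QuotientGroup.induction_on with | H y => ?_
        rw [← QuotientGroup.mk_mul, hmk, hmk, hmk, smul_mul', QuotientGroup.mk_mul]
      smul_one := fun a => by rw [← QuotientGroup.mk_one, hmk, smul_one] }
  have hPdvd : ∀ i, Nat.card (P i) ∣ Nat.card K := fun i => Subgroup.card_subgroup_dvd_card _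
  haveI := hA
  -- the kernel on the Frattini quotients is trivial
  let B : Subgroup A :=
    ⨅ i : ι, (MulDistribMulAction.toMulAut A (P i ⧸ frattini (P i))).ker
  have hB : ∀ a, a ∈ B ↔ ∀ (i : ι) (q : P i ⧸ frattini (P i)), a • q = q := by
    intro a
    simp [B, Subgroup.mem_iInf, MonoidHom.mem_ker, MulEquiv.ext_iff]
  have hBfix : ∀ (i : ι) (b : B) (x : P i), b • x = x := fun i =>
    fixed_of_fixed_frattini (inferInstance : Group.IsSolvable B)
      ((hcop.coprime_dvd_left (Subgroup.card_subgroup_dvd_card B)).coprime_dvd_right (hPdvd i))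
      fun b x => QuotientGroup.eq.mp (((hB b.1).mp b.2 i x).symm.trans (hmk i b.1 x))
  have hBbot : B = ⊥ := by
    have hall : ∀ z : ∀ i, P i, ∀ b ∈ B, b • z = z := fun z b hb =>
      funext fun i => hBfix i ⟨b, hb⟩ (z i)
    have hall0 : ∀ z : ∀ i, P i, ∀ b ∈ (⊥ : Subgroup A), b • z = z := fun z b hb => by
      rw [Subgroup.mem_bot.mp hb, one_smul]
    have hallK : ∀ z : K, ∀ b ∈ (⊥ : Subgroup A), b • z = z := fun z b hb => by
      rw [Subgroup.mem_bot.mp hb, one_smul]
    have hc := hfix B
    rw [Nat.card_congr (Equiv.subtypeUnivEquiv hall)] at hc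
    have hc' := hfix ⊥
    rw [Nat.card_congr (Equiv.subtypeUnivEquiv hall0),
      Nat.card_congr (Equiv.subtypeUnivEquiv hallK), ← hc] at hc'
    rw [eq_bot_iff]
    intro b hb
    refine Subgroup.mem_bot.mpr (eq_of_smul_eq_smul fun x : K => ?_)
    rw [one_smul]
    obtain ⟨⟨y, hy⟩, rfl⟩ := (Subtype.val_injective.bijective_of_nat_card_le
      (f := (Subtype.val : {x : K // ∀ b ∈ B, b • x = x} → K)) hc'.le).2 x
    exact hy b hb
  obtain ⟨v, w, hvw⟩ := exists_pair_pi (fun i => P i ⧸ frattini (P i)) hA
    (fun i => hcop.coprime_dvd_right ((Subgroup.card_quotient_dvd_card _).trans (hPdvd i)))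
    (fun a ha => by
      have := (hB a).mpr ha
      rwa [hBbot, Subgroup.mem_bot] at this)
  choose x hx using fun i => QuotientGroup.mk_surjective (v i)
  choose y hy using fun i => QuotientGroup.mk_surjective (w i)
  have hstab : stabilizer A (x, y) = ⊥ := by
    rw [eq_bot_iff]
    intro a ha
    rw [mem_stabilizer_iff, Prod.ext_iff] at ha
    refine Subgroup.mem_bot.mpr (hvw a (funext fun i => ?_) (funext fun i => ?_))
    · rw [Pi.smul_apply, ← hx i, hmk]
      exact congrArg _ (congrFun ha.1 i)
    · rw [Pi.smul_apply, ← hy i, hmk]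
      exact congrArg _ (congrFun ha.2 i)
  have hne : 0 < Nat.card {z : K × K // stabilizer A z = ⊥} := by
    rw [card_pairs_stab_eq hfix ⊥]
    haveI : Nonempty {z : (∀ i, P i) × (∀ i, P i) // stabilizer A z = ⊥} := ⟨⟨(x, y), hstab⟩⟩
    exact Nat.card_pos
  obtain ⟨⟨⟨⟨x₀, y₀⟩, h₀⟩⟩, -⟩ := Nat.card_pos_iff.mp hne
  refine ⟨x₀, y₀, fun a ha hb => ?_⟩
  have : a ∈ stabilizer A (x₀, y₀) := mem_stabilizer_iff.mpr (Prod.ext ha hb)
  rwa [h₀, Subgroup.mem_bot] at this

end CfsgLib.BaseTwo73.GroupBase
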