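import Cfsg.Agent.BaseTwo73.Eight

/-!
# Coordinates in dimension eight
-/

set_option autoImplicit false
set_option linter.style.haveILetI false

namespace CfsgLib.BaseTwo73

open CfsgLib.RegOrbit

universe v u

variable {V : Type v} [AddCommGroup V] {K : Type u} [Field K] [Module K V]
  {G E : Subgroup (AutGp V)}

local notation:80 a " ⋅ " v:81 => ((a : AutGp _) : AddMonoid.End _) v

namespace Cert

theorem lsum_ofFn : ∀ (n : ℕ) (b : Fin n → V) (c : List ℕ), c.length = n →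
    lsum c (List.ofFn b) = ∑ i : Fin n, c.getD (i : ℕ) 0 • b i
  | 0, b, [], _ => by simp [lsum]
  | n + 1, b, a :: as, h => by
    rw [List.ofFn_succ, lsum, lsum_ofFn n _ as (by simpa using h), Fin.sum_univ_succ]
    simp

/-- Coordinates from a basis over a prime field. -/
noncomputable def Coord.ofBasis {q n : ℕ} (hqp : q.Prime) (hq : Nat.card K = q)
    (B : Module.Basis (Fin n) K V) :
    Coord q n (⊥ : Subgroup (AutGp V)) [one n] [] :=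
  haveI := charP_of_card hqp hq
  Coord.pre (List.ofFn B) List.length_ofFn
    (fun v => by rw [← Nat.cast_smul_eq_nsmul K, CharP.cast_eq_zero, zero_smul]) hqp.one_lt
    ⟨by simp [one], fun c hc => by
      simp only [one, List.mem_map] at hc
      obtain ⟨j, -, rfl⟩ := hc
      refine ⟨by simp, fun x hx => ?_⟩
      obtain ⟨i, -, rfl⟩ := List.mem_map.1 hx
      have := hqp.two_le
      split <;> omega⟩
    (fun c c' hc hc' h => by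
      rw [lsum_ofFn n _ c hc.1, lsum_ofFn n _ c' hc'.1] at h
      simp only [← Nat.cast_smul_eq_nsmul K] at h
      refine List.ext_getElem (hc.1.trans hc'.1.symm) fun i hi hi' => ?_
      have h1 := congrArg (fun v => B.repr v ⟨i, hc.1 ▸ hi⟩) h
      simp only [B.repr_sum_self] at h1
      simp only [List.getD_eq_getElem?_getD, List.getElem?_eq_getElem hi,
        List.getElem?_eq_getElem hi', Option.getD_some] at h1
      exact CharP.natCast_injOn_Iio K q (hc.2 _ (List.getElem_mem hi))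
        (hc'.2 _ (List.getElem_mem hi')) h1)
    (fun v => by
      choose k hk he using fun i : Fin n => natCast_surj hqp hq (B.repr v i)
      refine ⟨List.ofFn k, ⟨List.length_ofFn, fun x hx => ?_⟩, ?_⟩
      · obtain ⟨i, rfl⟩ := List.mem_ofFn.1 hx; exact hk i
      · rw [lsum_ofFn n _ _ List.length_ofFn]
        conv_rhs => rw [← B.sum_repr v]
        refine Finset.sum_congr rfl fun i _ => ?_
        rw [← he, Nat.cast_smul_eq_nsmul]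
        simp)
    (by
      refine List.ext_getElem (by simp [one]) fun m hm hm' => ?_
      simp only [one, List.getElem_map, List.getElem_range, List.getElem_ofFn]
      rw [lsum_ofFn n _ _ (by simp), Finset.sum_eq_single ⟨m, by simpa using hm'⟩]
      · have : m < n := by simpa using hm'
        simp [List.getD_eq_getElem?_getD, this]
      · intro b _ hb
        have hb' : (b : ℕ) ≠ m := fun h => hb (Fin.ext h)
        simp [List.getD_eq_getElem?_getD, b.2, hb']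
      · simp)

set_option maxHeartbeats 1600000 in
theorem exists_coord8 (s : Sys K G E) (hsq : SqHyp K E) (hK : Nat.card K = 3)
    (F : FrameEight K E) (hn : Module.finrank K V = 8) [Finite V] :
    Nonempty (Coord 3 8 E els8 gens8) := by
  haveI : Nontrivial V := nontrivial_of_ne _ _ F.w₀_ne
  haveI := charP_of_card Nat.prime_three hK
  have h2 := two_ne_three (K := K) hK
  have h3 : (3 : K) = 0 := by exact_mod_cast CharP.cast_eq_zero K 3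
  have htwo : ∀ v : V, (2 : ℕ) • v = -v := fun v => by
    rw [← Nat.cast_smul_eq_nsmul K, show ((2 : ℕ) : K) = -1 by push_cast; linear_combination h3,
      neg_smul, one_smul]
  have m1 : (1 : K) * 1 = 1 := one_mul 1
  have mm : (-1 : K) * -1 = 1 := by ring
  have n1 : ∀ {x y : AutGp V}, Sgn x y (-1 : K) → ∀ v : V, x ⋅ (y ⋅ v) = -(y ⋅ (x ⋅ v)) :=
    fun h v => by rw [h, neg_smul, one_smul]
  have p1 : ∀ {x y : AutGp V}, Sgn x y (1 : K) → ∀ v : V, x ⋅ (y ⋅ v) = y ⋅ (x ⋅ v) :=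
    fun h v => by rw [h, one_smul]
  set w := F.w₀ with hw
  set w' := F.i ⋅ w with hw'
  have hwne : w ≠ 0 := F.w₀_ne
  have a1 : F.l₁ ⋅ w = w := F.fix₁
  have a2 : F.l₁ ⋅ w' = w' := by rw [hw', p1 (F.il₁.symm m1), a1]
  have b1 : F.l₂ ⋅ w = w := F.fix₂
  have b2 : F.l₂ ⋅ w' = w' := by rw [hw', p1 (F.il₂.symm m1), b1]
  have c1 : ∀ u : V, F.l₁ ⋅ u = u → F.l₁ ⋅ (F.h₁ ⋅ u) = -(F.h₁ ⋅ u) := fun u h => by
    rw [n1 F.l₁h₁, h]
  have c2 : ∀ u : V, F.l₁ ⋅ u = u → F.l₁ ⋅ (F.h₂ ⋅ u) = F.h₂ ⋅ u := fun u h => by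
    rw [p1 F.l₁h₂, h]
  have c3 : ∀ u : V, F.l₁ ⋅ u = u → F.l₁ ⋅ (F.h₁ ⋅ (F.h₂ ⋅ u)) = -(F.h₁ ⋅ (F.h₂ ⋅ u)) :=
    fun u h => c1 _ (c2 u h)
  have d1 : ∀ u : V, F.l₂ ⋅ u = u → F.l₂ ⋅ (F.h₁ ⋅ u) = F.h₁ ⋅ u := fun u h => by
    rw [p1 F.l₂h₁, h]
  have d2 : ∀ u : V, F.l₂ ⋅ u = u → F.l₂ ⋅ (F.h₂ ⋅ u) = -(F.h₂ ⋅ u) := fun u h => by
    rw [n1 F.l₂h₂, h]
  have d3 : ∀ u : V, F.l₂ ⋅ u = u → F.l₂ ⋅ (F.h₁ ⋅ (F.h₂ ⋅ u)) = -(F.h₁ ⋅ (F.h₂ ⋅ u)) :=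
    fun u h => by rw [p1 F.l₂h₁, d2 u h, map_neg]
  have hL₁ := s.linE F.hl₁
  have hL₂ := s.linE F.hl₂
  have hi := s.linE F.hi
  have hj := s.linE F.hj
  have hh₁ := s.linE F.hh₁
  have hh₂ := s.linE F.hh₂
  have hzero : ∀ t₀ t₁ t₂ t₃ t₄ t₅ t₆ t₇ : K, t₀ • w + t₁ • w' + t₂ • F.h₁ ⋅ w + t₃ • F.h₁ ⋅ w' +
      t₄ • F.h₂ ⋅ w + t₅ • F.h₂ ⋅ w' + t₆ • F.h₁ ⋅ (F.h₂ ⋅ w) + t₇ • F.h₁ ⋅ (F.h₂ ⋅ w') = 0 →
      t₀ = 0 ∧ t₁ = 0 ∧ t₂ = 0 ∧ t₃ = 0 ∧ t₄ = 0 ∧ t₅ = 0 ∧ t₆ = 0 ∧ t₇ = 0 := by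
    intro t₀ t₁ t₂ t₃ t₄ t₅ t₆ t₇ h
    obtain ⟨hA, hB⟩ := sep (x := F.l₁) h2
      (p := (t₀ • w + t₁ • w') + (t₄ • F.h₂ ⋅ w + t₅ • F.h₂ ⋅ w'))
      (q := (t₂ • F.h₁ ⋅ w + t₃ • F.h₁ ⋅ w') + (t₆ • F.h₁ ⋅ (F.h₂ ⋅ w) + t₇ • F.h₁ ⋅ (F.h₂ ⋅ w')))
      (by simp only [map_add, hL₁ _ _, a1, a2, c2 _ a1, c2 _ a2])
      (by simp only [map_add, hL₁ _ _, c1 _ a1, c1 _ a2, c3 _ a1, c3 _ a2, smul_neg, neg_add])
      (by rw [← h]; abel)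
    obtain ⟨hA₀, hA₁⟩ := sep (x := F.l₂) h2 (p := t₀ • w + t₁ • w')
      (q := t₄ • F.h₂ ⋅ w + t₅ • F.h₂ ⋅ w')
      (by simp only [map_add, hL₂ _ _, b1, b2])
      (by simp only [map_add, hL₂ _ _, d2 _ b1, d2 _ b2, smul_neg, neg_add]) hA
    obtain ⟨hB₀, hB₁⟩ := sep (x := F.l₂) h2 (p := t₂ • F.h₁ ⋅ w + t₃ • F.h₁ ⋅ w')
      (q := t₆ • F.h₁ ⋅ (F.h₂ ⋅ w) + t₇ • F.h₁ ⋅ (F.h₂ ⋅ w'))
      (by simp only [map_add, hL₂ _ _, d1 _ b1, d1 _ b2])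
      (by simp only [map_add, hL₂ _ _, d3 _ b1, d3 _ b2, smul_neg, neg_add]) hB
    have key : ∀ x : AutGp V, Lin K x → ∀ s₀ s₁ : K, s₀ • x ⋅ w + s₁ • x ⋅ w' = 0 →
        s₀ = 0 ∧ s₁ = 0 := fun x hx s₀ s₁ h0 => by
      refine pair_indep hK hi F.sqi hwne (inj' x ?_)
      rw [map_zero, map_add, hx, hx]; exact h0
    obtain ⟨e0, e1⟩ := pair_indep hK hi F.sqi hwne hA₀
    obtain ⟨e2, e3⟩ := key F.h₁ hh₁ _ _ hB₀
    obtain ⟨e4, e5⟩ := key F.h₂ hh₂ _ _ hA₁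
    obtain ⟨e6, e7⟩ := key (F.h₁ * F.h₂) (s.linE (E.mul_mem F.hh₁ F.hh₂)) _ _
      (by simpa only [mul_apply'] using hB₁)
    exact ⟨e0, e1, e2, e3, e4, e5, e6, e7⟩
  have hli : LinearIndependent K
      ![w, w', F.h₁ ⋅ w, F.h₁ ⋅ w', F.h₂ ⋅ w, F.h₂ ⋅ w', F.h₁ ⋅ (F.h₂ ⋅ w), F.h₁ ⋅ (F.h₂ ⋅ w')] :=
    Fintype.linearIndependent_iff.2 fun g hg => by
      simp only [Fin.sum_univ_eight, Matrix.cons_val_zero, Matrix.cons_val_one,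
        Matrix.cons_val] at hg
      obtain ⟨e0, e1, e2, e3, e4, e5, e6, e7⟩ := hzero _ _ _ _ _ _ _ _ hg
      intro i; fin_cases i <;> assumption
  haveI : Module.Finite K V := Module.Finite.of_finite
  set B : Module.Basis (Fin 8) K V :=
    basisOfLinearIndependentOfCardEqFinrank hli (by simp [hn]) with hB
  set C₀ := Coord.ofBasis Nat.prime_three hK B with hC₀
  set bs : List V := [w, w', F.h₁ ⋅ w, F.h₁ ⋅ w', F.h₂ ⋅ w, F.h₂ ⋅ w', F.h₁ ⋅ (F.h₂ ⋅ w),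
    F.h₁ ⋅ (F.h₂ ⋅ w')] with hbs
  have hCbs : C₀.bs = bs := by
    show List.ofFn B = bs
    rw [hB, coe_basisOfLinearIndependentOfCardEqFinrank]
    rfl
  have hnorm : ∀ g ∈ gens8, NormMat 3 8 g := by
    unfold gens8 NormMat Norm; decide
  have hmat : ∀ (γ : AutGp V) (g : List (List ℕ)), g ∈ gens8 →
      bs.map (fun v => γ ⋅ v) = g.map (fun c => lsum c bs) → C₀.Mat γ g := by
    intro γ g hg h
    exact ⟨hnorm g hg, by rw [show C₀.vec = fun c => lsum c C₀.bs from rfl, hCbs]; exact h⟩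
  have jw : F.j ⋅ w = w + w' := F.j_apply
  have jw' : F.j ⋅ w' = w + -w' := by
    rw [hw', n1 (F.ij.symm mm), jw, map_add, hw', F.sqi]; abel
  have q1 : F.h₂ ⋅ (F.h₁ ⋅ w) = F.h₁ ⋅ (F.h₂ ⋅ w) := p1 (F.h₁h₂.symm m1) _
  have q2 : F.h₂ ⋅ (F.h₁ ⋅ w') = F.h₁ ⋅ (F.h₂ ⋅ w') := p1 (F.h₁h₂.symm m1) _
  have g1 : C₀.Mat F.h₁ (gens8.getD 0 []) := hmat _ _ (by simp [gens8]) (by
    simp [gens8, lsum, hbs, F.sqh₁])
  have g2 : C₀.Mat F.h₂ (gens8.getD 1 []) := hmat _ _ (by simp [gens8]) (by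
    simp [gens8, lsum, hbs, F.sqh₂, q1, q2, p1 (F.h₁h₂.symm m1)])
  have g3 : C₀.Mat F.i (gens8.getD 2 []) := hmat _ _ (by simp [gens8]) (by
    simp [gens8, lsum, hbs, p1 F.ih₁, p1 F.ih₂, ← hw', hw' ▸ F.sqi w, htwo])
  have g4 : C₀.Mat F.j (gens8.getD 3 []) := hmat _ _ (by simp [gens8]) (by
    simp [gens8, lsum, hbs, p1 F.jh₁, p1 F.jh₂, jw, jw', htwo])
  have g5 : C₀.Mat F.l₁ (gens8.getD 4 []) := hmat _ _ (by simp [gens8]) (by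
    simp [gens8, lsum, hbs, a1, a2, c1 _ a1, c1 _ a2, c2 _ a1, c2 _ a2, c3 _ a1, c3 _ a2, htwo])
  have g6 : C₀.Mat F.l₂ (gens8.getD 5 []) := hmat _ _ (by simp [gens8]) (by
    simp [gens8, lsum, hbs, b1, b2, d1 _ b1, d1 _ b2, d2 _ b1, d2 _ b2, d3 _ b1, d3 _ b2, htwo])
  have mem : ∀ i, i < 6 → gens8.getD i [] ∈ gens8 := fun i hi => by
    interval_cases i <;> simp [gens8]
  refine ⟨C₀.build gens8 (fun g hg => ?_) (fun k hk hk3 => ?_) (by decide +kernel) ?_⟩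
  · simp only [gens8, List.mem_cons, List.not_mem_nil, or_false] at hg
    rcases hg with rfl | rfl | rfl | rfl | rfl | rfl
    exacts [⟨_, F.hh₁, g1⟩, ⟨_, F.hh₂, g2⟩, ⟨_, F.hi, g3⟩, ⟨_, F.hj, g4⟩, ⟨_, F.hl₁, g5⟩,
      ⟨_, F.hl₂, g6⟩]
  · have hk0 : (k : K) ≠ 0 := fun h => by
      have := Nat.le_of_dvd hk ((CharP.cast_eq_zero_iff K 3 k).1 h)
      omega
    obtain ⟨z, hz, hzv⟩ := s.scal (k : K) hk0
    exact ⟨z, hz, fun v => by rw [hzv, Nat.cast_smul_eq_nsmul]⟩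
  intro P hstep hbase e he
  have adj : ∀ {γ p : AutGp V}, γ ∈ E → p ∈ E → (∃ g ∈ gens8, C₀.Mat γ g) →
      (∀ v : V, γ ⋅ (γ ⋅ (γ ⋅ (γ ⋅ v))) = v) → Sgn p γ (-1 : K) →
      ∀ {x : AutGp V}, x ∈ E → ∃ y ∈ E, Sgn p y (1 : K) ∧ (P y → P x) ∧
        ∀ z : AutGp V, Sgn z γ (1 : K) → Sgn z x (1 : K) → Sgn z y (1 : K) := by
    intro γ p hγ hp hg hsqγ hpγ x hx
    rcases sgn_sign s hsq hp hx with h | h
    · exact ⟨x, hx, h, id, fun _ _ h => h⟩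
    · refine ⟨γ * x, E.mul_mem hγ hx, ?_, fun hP => ?_, fun z h1 h3 => ?_⟩
      · simpa using hpγ.mul_right h (s.linE hγ)
      · have h' := hstep γ hγ hg _ (hstep γ hγ hg _ (hstep γ hγ hg _ hP))
        have h4 : γ * (γ * (γ * (γ * x))) = x := ext' fun v => by
          simp only [mul_apply']; exact hsqγ _
        rwa [h4] at h'
      · simpa using h1.mul_right h3 (s.linE hγ)
  obtain ⟨y1, hy1, s1, P1, -⟩ := adj F.hh₁ F.hl₁ ⟨_, mem 0 (by omega), g1⟩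
    (fun v => by rw [F.sqh₁, F.sqh₁]) F.l₁h₁ he
  obtain ⟨y2, hy2, s2, P2, pr2⟩ := adj F.hh₂ F.hl₂ ⟨_, mem 1 (by omega), g2⟩
    (fun v => by rw [F.sqh₂, F.sqh₂]) F.l₂h₂ hy1
  obtain ⟨y3, hy3, s3, P3, pr3⟩ := adj F.hi F.hj ⟨_, mem 2 (by omega), g3⟩
    (fun v => by rw [F.sqi, F.sqi, neg_neg]) (F.ij.symm mm) hy2
  obtain ⟨y4, hy4, s4, P4, pr4⟩ := adj F.hj F.hi ⟨_, mem 3 (by omega), g4⟩
    (fun v => by rw [F.sqj, F.sqj, neg_neg]) F.ij hy3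
  obtain ⟨y5, hy5, s5, P5, pr5⟩ := adj F.hl₁ F.hh₁ ⟨_, mem 4 (by omega), g5⟩
    (fun v => by rw [F.sql₁, F.sql₁]) (F.l₁h₁.symm mm) hy4
  obtain ⟨y6, hy6, s6, P6, pr6⟩ := adj F.hl₂ F.hh₂ ⟨_, mem 5 (by omega), g6⟩
    (fun v => by rw [F.sql₂, F.sql₂]) (F.l₂h₂.symm mm) hy5
  refine P1 (P2 (P3 (P4 (P5 (P6 ?_)))))
  have k1 : Sgn F.l₁ y6 (1 : K) := pr6 _ F.l₁l₂ (pr5 _ (Sgn.refl _)
    (pr4 _ (F.jl₁.symm m1) (pr3 _ (F.il₁.symm m1) (pr2 _ F.l₁h₂ s1))))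
  have k2 : Sgn F.l₂ y6 (1 : K) := pr6 _ (Sgn.refl _) (pr5 _ (F.l₁l₂.symm m1)
    (pr4 _ (F.jl₂.symm m1) (pr3 _ (F.il₂.symm m1) s2)))
  have k3 : Sgn F.j y6 (1 : K) := pr6 _ F.jl₂ (pr5 _ F.jl₁ (pr4 _ (Sgn.refl _) s3))
  have k4 : Sgn F.i y6 (1 : K) := pr6 _ F.il₂ (pr5 _ F.il₁ s4)
  have k5 : Sgn F.h₁ y6 (1 : K) := pr6 _ (F.l₂h₁.symm m1) s5
  have k6 : Sgn F.h₂ y6 (1 : K) := s6
  obtain ⟨t, ht⟩ : ∃ t : K, y6 ⋅ w = t • w := by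
    have h1 : F.l₁ ⋅ (y6 ⋅ w) = y6 ⋅ w := by rw [p1 k1, a1]
    have h4 : F.l₂ ⋅ (y6 ⋅ w) = y6 ⋅ w := by rw [p1 k2, b1]
    obtain ⟨k, hk, hkv⟩ := C₀.span (y6 ⋅ w)
    match k, hk with
    | [t₀, t₁, t₂, t₃, t₄, t₅, t₆, t₇], _ =>
      have hkv' : (t₀ : K) • w + (t₁ : K) • w' + (t₂ : K) • F.h₁ ⋅ w + (t₃ : K) • F.h₁ ⋅ w' +
          (t₄ : K) • F.h₂ ⋅ w + (t₅ : K) • F.h₂ ⋅ w' + (t₆ : K) • F.h₁ ⋅ (F.h₂ ⋅ w) +
          (t₇ : K) • F.h₁ ⋅ (F.h₂ ⋅ w') = y6 ⋅ w := by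
        rw [← hkv, hCbs, hbs]; simp [lsum, Nat.cast_smul_eq_nsmul, add_assoc]
      rw [← hkv'] at h1 h4
      simp only [map_add, hL₁ _ _, hL₂ _ _, a1, a2, b1, b2, c1 _ a1, c1 _ a2, c2 _ a1, c2 _ a2,
        c3 _ a1, c3 _ a2, d1 _ b1, d1 _ b2, d2 _ b1, d2 _ b2, d3 _ b1, d3 _ b2, smul_neg] at h1 h4
      obtain ⟨-, -, z2, z3, -, -, z6, z7⟩ := hzero 0 0 (2 * (t₂ : K)) (2 * (t₃ : K)) 0 0
        (2 * (t₆ : K)) (2 * (t₇ : K))
        (by rw [← sub_eq_zero.2 h1.symm]; simp only [zero_smul, mul_smul, two_smul]; abel)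
      obtain ⟨-, -, -, -, z4, z5, -, -⟩ := hzero 0 0 0 0 (2 * (t₄ : K)) (2 * (t₅ : K))
        (2 * (t₆ : K)) (2 * (t₇ : K))
        (by rw [← sub_eq_zero.2 h4.symm]; simp only [zero_smul, mul_smul, two_smul]; abel)
      rw [(mul_eq_zero.1 z2).resolve_left h2, (mul_eq_zero.1 z3).resolve_left h2,
        (mul_eq_zero.1 z4).resolve_left h2, (mul_eq_zero.1 z5).resolve_left h2,
        (mul_eq_zero.1 z6).resolve_left h2, (mul_eq_zero.1 z7).resolve_left h2] at hkv'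
      simp only [zero_smul, add_zero] at hkv'
      have hj' := p1 k3 w
      have hi' : y6 ⋅ w' = F.i ⋅ (y6 ⋅ w) := by rw [hw']; exact (p1 k4 w).symm
      rw [jw, map_add, hi', ← hkv'] at hj'
      simp only [map_add, hi _ _, hj _ _, jw, jw', ← hw', hw' ▸ F.sqi w, smul_neg, smul_add] at hj'
      obtain ⟨z1, -⟩ := pair_indep hK hi F.sqi hwne (a := 2 * (t₁ : K)) (b := -(2 * (t₁ : K))) (by
        rw [← hw', ← sub_eq_zero.2 hj']; simp only [neg_smul, mul_smul, two_smul]; abel)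
      refine ⟨(t₀ : K), ?_⟩
      rw [← hkv', (mul_eq_zero.1 z1).resolve_left h2, zero_smul, add_zero]
  have ht0 : t ≠ 0 := fun h => map_ne_zero' y6 hwne (by rw [ht, h, zero_smul])
  obtain ⟨k, hk, rfl⟩ := natCast_surj Nat.prime_three hK t
  have hk0 : 0 < k := Nat.pos_of_ne_zero fun h => ht0 (by rw [h, Nat.cast_zero])
  refine hbase y6 k hk0 hk fun v => ?_
  obtain ⟨c, -, rfl⟩ := C₀.span v
  rw [lsum_map', hCbs]
  have hcs : bs.map (fun v => y6 ⋅ v) = bs.map fun v => (k : K) • v := by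
    have hy' : y6 ⋅ w' = (k : K) • w' := by rw [hw', ← p1 k4, ht, hi]
    simp [hbs, ht, hy', p1 (k5.symm m1), p1 (k6.symm m1), hh₁ _ _, hh₂ _ _]
  show lsum c (bs.map fun v => y6 ⋅ v) = _
  rw [hcs, ← Nat.cast_smul_eq_nsmul K]
  exact (lsum_map (DistribSMul.toAddMonoidHom V (k : K)) c bs).symm

end Cert

theorem out_eight [Finite V] (s : Sys K G E) (hsq : SqHyp K E) (hK : Nat.card K = 3)
    (F : FrameEight K E) (hn : Module.finrank K V = 8) :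
    ∃ x y : V, Pair G x y ∧ Gen E x ∧ Out E x y := by
  haveI : Nontrivial V := nontrivial_of_ne _ _ F.w₀_ne
  obtain ⟨C⟩ := Cert.exists_coord8 s hsq hK F hn
  have hv := Cert.valid8
  have ho := Cert.outside8
  simp only [Bool.and_eq_true] at hv ho
  have hg := C.gen ⟨rfl, by decide⟩ Cert.generic8
  by_contra hno
  push Not at hno
  have hfail : ∀ J : Cert.Job, J.w = Cert.jobL1.w → Cert.Norm 3 8 J.u →
      Cert.outside 3 8 Cert.els8 Cert.jobL1.w J.u = true →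
      ∃ a ∈ G, a ⋅ C.vec J.w = C.vec J.w ∧ a ⋅ C.vec J.u = C.vec J.u ∧ a ≠ 1 := by
    intro J hw hu hout
    rw [hw]
    by_contra h
    push Not at h
    exact hno _ _ h hg (C.out hu hout)
  obtain ⟨a, ha, a1, a2, a3⟩ := hfail Cert.jobL1 rfl ⟨rfl, by decide⟩ ho.1
  obtain ⟨b, hb, b1, b2, b3⟩ := hfail Cert.jobL2 rfl ⟨rfl, by decide⟩ ho.2
  obtain ⟨A, hA, hAm⟩ := C.search rfl rfl rfl rfl hv.1 (fun e he => s.norm a ha e he) a1 a2 a3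
  obtain ⟨B, hB, hBm⟩ := C.search rfl rfl rfl rfl hv.2 (fun e he => s.norm b hb e he) b1 b2 b3
  have hA' := of_decide_eq_true (List.all_eq_true.1 Cert.result8a A hA)
  have hB' := of_decide_eq_true (List.all_eq_true.1 Cert.result8b B hB)
  subst hA' hB'
  exact C.not_three (three_not_dvd s hK) (G.mul_mem ha hb) (C.mat_mul hAm hBm) Cert.three8

end CfsgLib.BaseTwo73
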