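import Mathlib.GroupTheory.Nilpotent
import Mathlib.GroupTheory.GroupAction.ConjAct
import Cfsg.Agent.BaseTwo73.GroupBase
import Cfsg.Agent.OddOrder.PiCore

/-!
In a π-solvable group some three conjugates of a Hall π-subgroup meet in the π-core.
-/

open Pointwise
open CfsgLib.OddOrder (IsPiSubgroup)

set_option linter.style.haveILetI false

namespace CfsgLib.BaseTwo73.PiSolvable

/-- Consecutive indices are powers of primes in `π` or `π'`-numbers. -/
def Step {G : Type*} [Group G] (π : Set ℕ) (a b : Subgroup G) : Prop :=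
  (∃ p ∈ π, p.Prime ∧ ∃ k : ℕ, a.relIndex b ∣ p ^ k) ∨
    ∀ q : ℕ, q.Prime → q ∣ a.relIndex b → q ∉ π

variable {G : Type*} [Group G] {π : Set ℕ}

theorem Step.of_dvd {G' : Type*} [Group G'] {a b : Subgroup G} {a' b' : Subgroup G'}
    (h : Step π a b) (hd : a'.relIndex b' ∣ a.relIndex b) : Step π a' b' := by
  rcases h with ⟨p, hp, hp', k, hk⟩ | h
  · exact Or.inl ⟨p, hp, hp', k, hd.trans hk⟩
  · exact Or.inr fun q hq hqd => h q hq (hqd.trans hd)

theorem relIndex_map_dvd {G' : Type*} [Group G'] (f : G →* G') (a b : Subgroup G) :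
    (a.map f).relIndex (b.map f) ∣ a.relIndex b := by
  rw [← Subgroup.relIndex_comap]
  exact Subgroup.relIndex_dvd_of_le_left b (Subgroup.le_comap_map f a)

theorem relIndex_le_dvd {a b L : Subgroup G} [a.Normal] (hL : L ≤ b) :
    a.relIndex L ∣ a.relIndex b := by
  have := Subgroup.relIndex_dvd_index_of_normal (a.subgroupOf b) (L.subgroupOf b)
  rwa [Subgroup.relIndex_subgroupOf hL] at this

theorem relIndex_inf_dvd {a b C : Subgroup G} [a.Normal] :
    (a ⊓ C).relIndex (b ⊓ C) ∣ a.relIndex b := by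
  have : (a ⊓ C).relIndex (b ⊓ C) = a.relIndex (b ⊓ C) := by
    rw [← Subgroup.inf_relIndex_right (a ⊓ C) (b ⊓ C), ← Subgroup.inf_relIndex_right a (b ⊓ C)]
    congr 1
    rw [inf_assoc, inf_eq_right.mpr (inf_le_right : b ⊓ C ≤ C)]
  rw [this]
  exact relIndex_le_dvd inf_le_left

variable [Finite G]

/-- A π-group having such a series is solvable. -/
theorem isSolvable_of_series {n : ℕ} (N : Fin (n + 1) → Subgroup G) (h0 : N 0 = ⊥)
    (hlast : N (Fin.last n) = ⊤) (hn : ∀ i, (N i).Normal)
    (hstep : ∀ i : Fin n, Step π (N i.castSucc) (N i.succ)) {H : Subgroup G}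
    (hH : IsPiSubgroup π H) : Group.IsSolvable H := by
  suffices h : ∀ i, Group.IsSolvable ↥(N i ⊓ H) by
    have := h (Fin.last n)
    rwa [hlast, top_inf_eq] at this
  intro i
  induction i using Fin.induction with
  | zero =>
    rw [h0, bot_inf_eq]
    infer_instance
  | succ j ih =>
    haveI := hn j.castSucc
    set a := N j.castSucc
    set L := N j.succ ⊓ H
    have hdvd : a.relIndex L ∣ a.relIndex (N j.succ) := relIndex_le_dvd inf_le_left
    have hdvd' : a.relIndex L ∣ Nat.card L := Subgroup.relIndex_dvd_card a L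
    haveI : (a.subgroupOf L).Normal := inferInstance
    have hquot : Group.IsSolvable (↥L ⧸ a.subgroupOf L) := by
      have hcard : Nat.card (↥L ⧸ a.subgroupOf L) = a.relIndex L := rfl
      rcases hstep j with ⟨p, -, hp, k, hk⟩ | h
      · obtain ⟨m, -, hm⟩ := (Nat.dvd_prime_pow hp).mp (hdvd.trans hk)
        haveI : Fact p.Prime := ⟨hp⟩
        haveI := (IsPGroup.of_card (n := m) (hcard.trans hm)).isNilpotent
        infer_instance
      · have h1 : a.relIndex L = 1 := by
          by_contra h1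
          obtain ⟨q, hq, hqd⟩ := Nat.exists_prime_and_dvd h1
          exact h q hq (hqd.trans hdvd)
            (hH q hq (hqd.trans (hdvd'.trans (Subgroup.card_dvd_of_le inf_le_right))))
        haveI : Subsingleton (↥L ⧸ a.subgroupOf L) := (Nat.card_eq_one_iff_unique.mp (hcard.trans h1)).1
        infer_instance
    haveI := ih
    have hsub : Group.IsSolvable (a.subgroupOf L) := by
      have hle : (a.subgroupOf L).map L.subtype ≤ a ⊓ H := by
        rw [Subgroup.subgroupOf_map_subtype]
        exact inf_le_inf_left a inf_le_right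
      haveI := CfsgLib.Coprime.isSolvable_of_le hle
      exact Group.isSolvable_of_isSolvable_injective
        (f := ((a.subgroupOf L).equivMapOfInjective L.subtype L.subtype_injective).toMonoidHom)
        (MulEquiv.injective _)
    exact Group.isSolvable_of_ker_le_range (a.subgroupOf L).subtype (QuotientGroup.mk' (a.subgroupOf L))
      (by rw [QuotientGroup.ker_mk', Subgroup.range_subtype])

/-- Hall–Higman Lemma 1.2.3. -/
theorem centralizer_le_piCore {n : ℕ} (N : Fin (n + 1) → Subgroup G) (h0 : N 0 = ⊥)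
    (hlast : N (Fin.last n) = ⊤) (hn : ∀ i, (N i).Normal)
    (hstep : ∀ i : Fin n, Step π (N i.castSucc) (N i.succ)) (hmono : ∀ i : Fin n, N i.castSucc ≤ N i.succ) (hcore : Cfsg.piCore π G = ⊥) :
    Subgroup.centralizer (Cfsg.piCore πᶜ G : Set G) ≤ Cfsg.piCore πᶜ G := by
  set K := Cfsg.piCore πᶜ G with hK
  have hKπ : IsPiSubgroup πᶜ K := CfsgLib.OddOrder.isPiSubgroup_piCore _ _
  set C := Subgroup.centralizer (K : Set G)
  suffices h : ∀ i, N i ⊓ C ≤ K by
    have := h (Fin.last n)
    rwa [hlast, top_inf_eq] at this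
  intro i
  induction i using Fin.induction with
  | zero => simp [h0]
  | succ j ih =>
    haveI := hn j.castSucc
    haveI := hn j.succ
    set M := N j.castSucc ⊓ C
    set L := N j.succ ⊓ C
    haveI : C.Normal := inferInstance
    haveI : M.Normal := inferInstance
    haveI : L.Normal := inferInstance
    have hM : IsPiSubgroup πᶜ M := CfsgLib.OddOrder.isPiSubgroup_mono ih hKπ
    have hd : Nat.card L ∣ Nat.card M * M.relIndex L := by
      have e1 : M.relIndex L * Nat.card ↥(M.subgroupOf L) = Nat.card L := by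
        rw [mul_comm]; exact Subgroup.card_mul_index _
      rw [← e1, mul_comm]
      refine Nat.mul_dvd_mul_right ?_ _
      rw [← Subgroup.card_map_of_injective (f := L.subtype) L.subtype_injective,
        Subgroup.subgroupOf_map_subtype]
      exact Subgroup.card_dvd_of_le inf_le_left
    rcases (hstep j).of_dvd (relIndex_inf_dvd (C := C)) with ⟨p, hpπ, hp, k, hk⟩ | h
    · haveI : Fact p.Prime := ⟨hp⟩
      let P : Sylow p L := default
      set P' := (P : Subgroup L).map L.subtype with hP'
      have hPL : P' ≤ L := Subgroup.map_subtype_le _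
      have hcentr : M ≤ Subgroup.centralizer (P' : Set G) :=
        ih.trans (Subgroup.le_centralizer_iff.mp (hPL.trans inf_le_right))
      have hpM : (Nat.card M).Coprime (p ^ k) :=
        ((hp.coprime_iff_not_dvd.mpr fun hd => hM p hp hd hpπ).pow_left k).symm
      have hPM : P' ≤ Subgroup.normalizer (M : Set G) := Subgroup.le_normalizer_of_normal
      have hPcard : Nat.card P' = p ^ (Nat.card L).factorization p := by
        rw [hP', Subgroup.card_map_of_injective L.subtype_injective, P.card_eq_multiplicity]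
      have hdisj : M ⊓ P' = ⊥ := Subgroup.inf_eq_bot_of_coprime (by
        rw [hPcard]
        exact ((hp.coprime_iff_not_dvd.mpr fun hd => hM p hp hd hpπ).pow_left _).symm)
      have hL : L ≤ M ⊔ P' := by
        refine (Subgroup.eq_of_le_of_card_ge (sup_le (inf_le_inf_right C ?_) hPL) (Nat.le_of_dvd
          Nat.card_pos ?_)).ge
        · exact hmono j
        · rw [CfsgLib.Coprime.card_sup_eq hPM hdisj, hPcard]
          refine Nat.dvd_trans hd (Nat.mul_dvd_mul_left _ ?_)
          obtain ⟨m, -, hm⟩ := (Nat.dvd_prime_pow hp).mp hk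
          rw [hm]
          refine pow_dvd_pow p ((hp.pow_dvd_iff_le_factorization Nat.card_pos.ne').mp ?_)
          rw [← hm]
          exact (Subgroup.relIndex_dvd_card M L)
      have hnorm : (P : Subgroup L).Normal := by
        have hN : L ≤ Subgroup.normalizer (P' : Set G) := hL.trans
          (sup_le (hcentr.trans (Subgroup.centralizer_le_normalizer _)) Subgroup.le_normalizer)
        have := (Subgroup.normal_subgroupOf_iff_le_normalizer hPL).mpr hN
        rwa [hP', Subgroup.subgroupOf, Subgroup.comap_map_eq_self_of_injective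
          L.subtype_injective] at this
      haveI := P.characteristic_of_normal hnorm
      haveI : P'.Normal := inferInstance
      have hP0 : P' = ⊥ := le_bot_iff.mp (hcore ▸ CfsgLib.OddOrder.le_piCore
        (CfsgLib.OddOrder.isPiSubgroup_of_isPGroup (P.isPGroup'.map _) hpπ))
      rw [hP0, sup_bot_eq] at hL
      exact hL.trans ih
    · refine CfsgLib.OddOrder.le_piCore fun r hr hrd => ?_
      rcases hr.dvd_mul.mp (hrd.trans hd) with h' | h'
      · exact hM r hr h'
      · exact h r hr h'

theorem piCore_quotient_eq_bot (π : Set ℕ) (G : Type*) [Group G] [Finite G] :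
    Cfsg.piCore π (G ⧸ Cfsg.piCore π G) = ⊥ := by
  set O := Cfsg.piCore π G
  set N := (Cfsg.piCore π (G ⧸ O)).comap (QuotientGroup.mk' O)
  have hN : N ≤ O := CfsgLib.OddOrder.le_piCore (hN := inferInstance) fun r hr hrd => by
    have h1 : Nat.card N = Nat.card O * Nat.card (Cfsg.piCore π (G ⧸ O)) := by
      rw [← Subgroup.card_mul_index (O.subgroupOf N),
        Nat.card_congr (Subgroup.subgroupOfEquivOfLe
          (by intro x hx; simp [N, (QuotientGroup.eq_one_iff x).mpr hx])).toEquiv]
      congr 1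
      show O.relIndex N = _
      conv_lhs => rw [show O = (⊥ : Subgroup (G ⧸ O)).comap (QuotientGroup.mk' O) by
        rw [MonoidHom.comap_bot, QuotientGroup.ker_mk']]
      rw [Subgroup.relIndex_comap, Subgroup.map_comap_eq_self_of_surjective
        (QuotientGroup.mk'_surjective O), Subgroup.relIndex_bot_left]
    rcases hr.dvd_mul.mp (h1 ▸ hrd) with h | h
    · exact CfsgLib.OddOrder.isPiSubgroup_piCore π G r hr h
    · exact CfsgLib.OddOrder.isPiSubgroup_piCore π (G ⧸ O) r hr h
  rw [← Subgroup.map_comap_eq_self_of_surjective (QuotientGroup.mk'_surjective O)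
    (Cfsg.piCore π (G ⧸ O)), Subgroup.map_eq_bot_iff, QuotientGroup.ker_mk']
  exact hN

theorem piCore_le_hall {H : Subgroup G} (hH : IsPiSubgroup π H)
    (hidx : ∀ p : ℕ, p.Prime → p ∈ π → ¬ p ∣ H.index) : Cfsg.piCore π G ≤ H := by
  have hsup : IsPiSubgroup π (H ⊔ Cfsg.piCore π G) :=
    CfsgLib.OddOrder.isPiSubgroup_sup_of_normal hH (CfsgLib.OddOrder.isPiSubgroup_piCore π G)
  rw [← sup_eq_left, eq_comm]
  refine le_antisymm le_sup_left (Subgroup.relIndex_eq_one.mp ?_)
  by_contra h1
  obtain ⟨q, hq, hqd⟩ := Nat.exists_prime_and_dvd h1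
  exact hidx q hq (hsup q hq (hqd.trans (Subgroup.relIndex_dvd_card _ _)))
    (hqd.trans (Subgroup.relIndex_dvd_index_of_le le_sup_left))

/-- Conjugation action of a subgroup on a normal subgroup with a trivial intersection. -/
theorem exists_inf_conj_eq_bot {H K : Subgroup G} [K.Normal] (hsol : Group.IsSolvable H)
    (hcop : (Nat.card H).Coprime (Nat.card K)) (hself : Subgroup.centralizer (K : Set G) ≤ K) :
    ∃ x y : G, H ⊓ MulAut.conj x • H ⊓ MulAut.conj y • H = ⊥ := by
  have hdisj : H ⊓ K = ⊥ := Subgroup.inf_eq_bot_of_coprime hcop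
  letI : MulDistribMulAction H K :=
    MulDistribMulAction.compHom K ((MulAut.conjNormal (H := K)).comp H.subtype)
  have hsmul : ∀ (h : H) (k : K), ((h • k : K) : G) = (h : G) * k * (h : G)⁻¹ := fun _ _ => rfl
  haveI : FaithfulSMul H K := ⟨fun {a b} hab => by
    have hc : ((a⁻¹ * b : H) : G) ∈ Subgroup.centralizer (K : Set G) :=
      Subgroup.mem_centralizer_iff.mpr fun k hk => by
        have h1 : (a⁻¹ * b) • (⟨k, hk⟩ : K) = ⟨k, hk⟩ := by rw [mul_smul, ← hab, inv_smul_smul]
        have h2 := congrArg Subtype.val h1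
        rw [hsmul] at h2
        simp only [Subgroup.coe_mul, Subgroup.coe_inv, inv_inv, mul_inv_rev] at h2 ⊢
        conv_lhs => rw [← h2]
        group
    have := Subgroup.mem_inf.mpr ⟨(a⁻¹ * b).2, hself hc⟩
    rw [hdisj, Subgroup.mem_bot] at this
    exact eq_of_inv_mul_eq_one (Subtype.ext this)⟩
  obtain ⟨x, y, hxy⟩ := GroupBase.exists_pair hsol hcop
  refine ⟨x, y, eq_bot_iff.mpr fun g hg => ?_⟩
  obtain ⟨⟨hgH, hgx⟩, hgy⟩ := hg
  have key : ∀ z : K, g ∈ MulAut.conj (z : G) • H → (⟨g, hgH⟩ : H) • z = z := by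
    intro z hz
    rw [CfsgLib.Coprime.mem_conj_smul] at hz
    have hmem : g⁻¹ * ((z : G)⁻¹ * g * z) ∈ K := by
      have := K.mul_mem ((‹K.Normal›).conj_mem _ (K.inv_mem z.2) g⁻¹) z.2
      simpa [mul_assoc] using this
    have h1 : g⁻¹ * ((z : G)⁻¹ * g * z) ∈ H ⊓ K := ⟨H.mul_mem (H.inv_mem hgH) hz, hmem⟩
    rw [hdisj, Subgroup.mem_bot, inv_mul_eq_one] at h1
    refine Subtype.ext ?_
    rw [hsmul]
    show g * (z : G) * g⁻¹ = z
    rw [mul_inv_eq_iff_eq_mul]
    calc g * (z : G) = z * ((z : G)⁻¹ * g * z) := by group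
      _ = z * g := by rw [← h1]
  exact Subgroup.mem_bot.mpr (congrArg Subtype.val (hxy ⟨g, hgH⟩ (key x hgx) (key y hgy)))

theorem exists_three_conj (π : Set ℕ) {n : ℕ} (N : Fin (n + 1) → Subgroup G) (h0 : N 0 = ⊥)
    (hlast : N (Fin.last n) = ⊤) (hn : ∀ i, (N i).Normal)
    (hstep : ∀ i : Fin n, Step π (N i.castSucc) (N i.succ))
    (hmono : ∀ i : Fin n, N i.castSucc ≤ N i.succ) {H : Subgroup G}
    (hH : IsPiSubgroup π H) (hidx : ∀ p : ℕ, p.Prime → p ∈ π → ¬ p ∣ H.index) :
    ∃ x y : G, H ⊓ MulAut.conj x • H ⊓ MulAut.conj y • H = Cfsg.piCore π G := by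
  set O := Cfsg.piCore π G with hO
  set f := QuotientGroup.mk' O
  have hf : Function.Surjective f := QuotientGroup.mk'_surjective O
  have hcore : Cfsg.piCore π (G ⧸ O) = ⊥ := piCore_quotient_eq_bot π G
  have hself := centralizer_le_piCore (fun i => (N i).map f) (by simp [h0])
    (by simp [hlast, Subgroup.map_top_of_surjective f hf]) (fun i => (hn i).map f hf)
    (fun i => (hstep i).of_dvd (relIndex_map_dvd f _ _))
    (fun i => Subgroup.map_mono (hmono i)) hcore
  haveI := isSolvable_of_series N h0 hlast hn hstep hH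
  have hsolbar : Group.IsSolvable (H.map f) :=
    Group.isSolvable_of_surjective (f := f.subgroupMap H) (f.subgroupMap_surjective H)
  obtain ⟨x', y', hxy⟩ := exists_inf_conj_eq_bot hsolbar
    (CfsgLib.OddOrder.coprime_card_of_isPiSubgroup (CfsgLib.OddOrder.isPiSubgroup_map f hH)
      (CfsgLib.OddOrder.isPiSubgroup_piCore πᶜ (G ⧸ O)) disjoint_compl_right) hself
  obtain ⟨x, rfl⟩ := hf x'
  obtain ⟨y, rfl⟩ := hf y'
  refine ⟨x, y, le_antisymm (fun g hg => ?_) ?_⟩
  · obtain ⟨⟨h1, h2⟩, h3⟩ := hg
    have hmem : f g ∈ H.map f ⊓ MulAut.conj (f x) • H.map f ⊓ MulAut.conj (f y) • H.map f := by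
      rw [← CfsgLib.Solvable.map_conj_smul, ← CfsgLib.Solvable.map_conj_smul]
      exact ⟨⟨Subgroup.mem_map_of_mem f h1, Subgroup.mem_map_of_mem f h2⟩,
        Subgroup.mem_map_of_mem f h3⟩
    rw [hxy, Subgroup.mem_bot] at hmem
    exact (QuotientGroup.eq_one_iff g).mp hmem
  · have hle : ∀ z : G, O ≤ MulAut.conj z • H := fun z g hg => by
      rw [CfsgLib.Coprime.mem_conj_smul]
      refine piCore_le_hall hH hidx ?_
      simpa using (inferInstance : O.Normal).conj_mem g hg z⁻¹
    exact le_inf (le_inf (piCore_le_hall hH hidx) (hle x)) (hle y)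

end CfsgLib.BaseTwo73.PiSolvable
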