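import Cfsg.Agent.BaseTwo73.Step
import Cfsg.Agent.BaseTwo73.Model
import Cfsg.Agent.BaseTwo73.Fpf

/-!
# Bases of two vectors for a normalizer of a group of symplectic type
-/

set_option autoImplicit false
set_option linter.style.haveILetI false

namespace CfsgLib.BaseTwo73

open CfsgLib.RegOrbit

universe v u

variable {V : Type v} [AddCommGroup V] {K : Type u} [Field K] [Module K V]
  {G E : Subgroup (AutGp V)}

local notation:80 a " ⋅ " v:81 => ((a : AutGp _) : AddMonoid.End _) v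

variable [Finite V]

theorem Split.nontrivial_W {s : Sys K G E} (D : Split s) : Nontrivial D.W :=
  nontrivial_of_ne (⟨D.w₀, D.w₀_fix⟩ : D.W) 0 fun h => D.w₀_ne (congrArg Subtype.val h)

theorem Split.isSolvable_G₁ {s : Sys K G E} (D : Split s) (hsol : Group.IsSolvable G) :
    Group.IsSolvable D.G₁ := by
  haveI : Group.IsSolvable D.H := isSolvable_of_le inf_le_left hsol
  exact Group.isSolvable_of_surjective D.res.rangeRestrict_surjective

theorem Gen.ne_zero {s : Sys K G E} (D : Split s) {x : V} (h : Gen E x) : x ≠ 0 := fun hx =>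
  D.ne_one (h D.l D.hl (by rw [hx, map_zero]))

theorem gen_of_fpf (hE : Fpf E) {x : V} (hx : x ≠ 0) : Gen E x := fun e he h => hE e he x hx h

/-- A generic base over a field with at least seven elements, below the bound. -/
theorem gen_pair [Finite K] (h2 : (2 : K) ≠ 0) (hq : 7 ≤ Nat.card K) {N : ℕ}
    (ih : CopBelow.{v} N) (m : ℕ) : ∀ (U : Type v) [AddCommGroup U] [Finite U] [Module K U]
      [Nontrivial U] (G E : Subgroup (AutGp U)), Nat.card U = m → m < N → Sys K G E →
      Group.IsSolvable G → ∃ w u : U, w ≠ 0 ∧ u ≠ 0 ∧ Pair G w u ∧ Gen E w := by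
  induction m using Nat.strong_induction_on with
  | _ m IH =>
    intro U _ _ _ _ G E hm hN s hsol
    by_cases hE : Fpf E
    · obtain ⟨x, y, hx, hp⟩ :=
        exists_pair_ne_zero (ih U _ inferInstance G (by omega) hsol s.cop)
      obtain ⟨y', hy', hp'⟩ := hp.ne_zero_right hx
      exact ⟨x, y', hx, hy', hp', gen_of_fpf hE hx⟩
    · obtain ⟨D⟩ := exists_split s hE
      haveI := D.nontrivial_W
      have hlt := D.card_lt
      obtain ⟨w, u, hw, hu, hp, hg⟩ := IH (Nat.card D.W) (by omega) D.W D.G₁ D.E₁ rfl (by omega)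
        D.sys (D.isSolvable_G₁ hsol)
      obtain ⟨x, y, hp', hg', ho⟩ := D.step_seven h2 hq hp hg hw hu
      exact ⟨x, y, hg'.ne_zero D, ho.1, hp', hg'⟩

theorem SqHyp.expHyp [Nontrivial V] (hsq : SqHyp K E) : ExpHyp K E := by
  intro x hx r hr h
  obtain ⟨c, hc, -⟩ := hsq x hx
  have h2 : Scal K (x ^ 2) := ⟨c, fun v => by rw [pow_two, mul_apply', hc]⟩
  rcases hr.eq_two_or_odd' with rfl | hodd
  · exact h2
  obtain ⟨m, hm⟩ := hodd.mul hodd
  rw [hm, pow_succ, pow_mul] at h
  obtain ⟨t, ht⟩ := h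
  obtain ⟨t', ht'⟩ := h2.pow m
  have hne : t' ≠ 0 := fun h0 => by
    obtain ⟨v, hv⟩ := exists_ne (0 : V)
    exact map_ne_zero' ((x ^ 2) ^ m) hv (by rw [ht', h0, zero_smul])
  refine (Scal.of_smul hne (b := (x ^ 2) ^ m * x) (fun v => ?_) ⟨t, ht⟩).pow r
  rw [mul_apply', ht']

/-- The hypotheses over the fields with three and five elements. -/
theorem small_facts (hK : Nat.card K = 3 ∨ Nat.card K = 5) :
    Finite K ∧ (2 : K) ≠ 0 ∧ ∀ a : AutGp V, Lin K a := by
  have hp : (Nat.card K).Prime := by rcases hK with h | h <;> rw [h] <;> norm_num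
  haveI := charP_of_card hp rfl
  refine ⟨Nat.finite_of_card_ne_zero hp.ne_zero, fun h => ?_, lin_of_prime hp rfl⟩
  have h' := (CharP.cast_eq_zero_iff K (Nat.card K) 2).1 (by exact_mod_cast h)
  have := Nat.le_of_dvd (by norm_num) h'
  omega

/-- Over five elements a fixed point free group consists of scalars. -/
theorem fpf_five (s : Sys K G E) (hE : Fpf E) (hsq : SqHyp K E) (hK : Nat.card K = 5)
    [Nontrivial V] {x : AutGp V} (hx : x ∈ E) : Scal K x := by
  obtain ⟨_, h2, -⟩ := small_facts (V := V) (K := K) (Or.inr hK)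
  haveI := charP_of_card (by norm_num) hK
  by_contra h
  refine s.neg_one_not_square hE hsq.expHyp h2 ⟨x, hx, h⟩ ⟨2, ?_⟩
  have h5 : (5 : K) = 0 := by exact_mod_cast CharP.cast_eq_zero K 5
  linear_combination -h5

/-- The exceptions to the existence of a generic base outside an orbit. -/
def Exc (s : Sys K G E) : Prop :=
  Module.finrank K V = 1 ∨ (Module.finrank K V = 2 ∧ ∃ x ∈ E, ¬ Scal K x) ∨
    (Nat.card K = 3 ∧ Module.finrank K V = 4 ∧
      ∃ D : Split s, Fpf D.E₁ ∧ ∃ x ∈ D.E₁, ¬ Scal K x)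

/-- The claim about a system. -/
def Good (s : Sys K G E) : Prop :=
  (∃ x y : V, Pair G x y ∧ Gen E x ∧ Out E x y) ∨ Exc s

theorem exists_notMem_union {P U : AddSubgroup V} (hP : P ≠ ⊤) (hU : U ≠ ⊤) :
    ∃ y, y ∉ P ∧ y ∉ U := by
  obtain ⟨x, hx⟩ : ∃ x, x ∉ P := by
    by_contra h; push Not at h; exact hP (eq_top_iff.2 fun x _ => h x)
  obtain ⟨y, hy⟩ : ∃ y, y ∉ U := by
    by_contra h; push Not at h; exact hU (eq_top_iff.2 fun x _ => h x)
  by_cases hxU : x ∈ U
  swap
  · exact ⟨x, hx, hxU⟩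
  by_cases hyP : y ∈ P
  swap
  · exact ⟨y, hyP, hy⟩
  exact ⟨x + y, fun h => hx ((P.add_mem_cancel_right hyP).1 h),
    fun h => hy ((U.add_mem_cancel_left hxU).1 h)⟩

theorem good_of_fpf [Nontrivial V] (s : Sys K G E) (hE : Fpf E) (hsq : SqHyp K E)
    (hK : Nat.card K = 3 ∨ Nat.card K = 5) {w u₀ : V} (hw : w ≠ 0) (hp₀ : Pair G w u₀) :
    Good s := by
  obtain ⟨_, h2, hlin⟩ := small_facts (V := V) (K := K) hK
  haveI : Module.Finite K V := Module.Finite.of_finite
  have hg := gen_of_fpf hE hw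
  by_cases hn1 : Module.finrank K V = 1
  · exact Or.inr (Or.inl hn1)
  -- a second vector off the line
  obtain ⟨u, hp, hu⟩ : ∃ u, Pair G w u ∧ ∀ t : K, u ≠ t • w := by
    by_cases h : ∃ t : K, u₀ = t • w
    · obtain ⟨t, rfl⟩ := h
      by_contra hno
      push Not at hno
      refine hn1 (finrank_eq_one w hw fun y => ?_)
      obtain ⟨c, hc⟩ := hno y fun a ha h1 _ => hp₀ a ha h1 (by rw [hlin a, h1])
      exact ⟨c, hc.symm⟩
    · push Not at h; exact ⟨u₀, hp₀, h⟩
  have hu0 : u ≠ 0 := fun h => hu 0 (by rw [h, zero_smul])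
  by_cases hsc : ∀ e ∈ E, Scal K e
  · refine Or.inl ⟨w, u, hp, hg, hu0, fun e he h => ?_⟩
    obtain ⟨t, ht⟩ := hsc e he
    exact hu t (by rw [← h, ht])
  push Not at hsc
  by_cases hn2 : Module.finrank K V = 2
  · exact Or.inr (Or.inr (Or.inl ⟨hn2, hsc⟩))
  have hn3 : 3 ≤ Module.finrank K V := by
    have := Module.finrank_pos (R := K) (M := V)
    omega
  have hK3 : Nat.card K = 3 := hK.resolve_right fun h5 => by
    obtain ⟨x, hx, hx'⟩ := hsc
    exact hx' (fpf_five s hE hsq h5 hx)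
  by_cases hue : ∀ e ∈ E, e ⋅ w ≠ u
  · exact Or.inl ⟨w, u, hp, hg, hu0, hue⟩
  push Not at hue
  obtain ⟨e₀, he₀, he₀w⟩ := hue
  by_cases hwe : ∀ e ∈ E, e ⋅ w ≠ u + w
  · refine Or.inl ⟨w, u + w, fun a ha h1 h3 => hp a ha h1 ?_, hg, fun h => ?_, hwe⟩
    · rw [map_add, h1] at h3; exact add_right_cancel h3
    · exact hu (-1) (by rw [neg_one_smul]; exact eq_neg_of_add_eq_zero_left h)
  push Not at hwe
  obtain ⟨g₀, hg₀, hg₀w⟩ := hwe
  have hns₁ : ¬ Scal K e₀ := fun ⟨t, ht⟩ => hu t (by rw [← he₀w, ht])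
  have hns₂ : ¬ Scal K g₀ := fun ⟨t, ht⟩ => hu (t - 1) (by
    rw [sub_smul, one_smul, ← ht, hg₀w, add_sub_cancel_right])
  have hexp := hsq.expHyp
  obtain ⟨d, hd, f, hf, hfv, hff⟩ := s.exists_unit hE hexp h2 he₀ hns₁
  obtain ⟨d', hd', f', hf', hfv', hff'⟩ := s.exists_unit hE hexp h2 hg₀ hns₂
  have hQ : Quat K E f f' := by
    refine ⟨hf, hf', hff, hff', (s.fpf_sign hE hexp hf hf').resolve_left fun hc => ?_⟩
    rcases s.cent_unit hE hexp h2 hf hff hf' hc with h | ⟨t, ht⟩
    · exact hns₂ (Scal.of_smul hd' hfv' h)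
    have h1 := ht w
    rw [hfv', hfv, hg₀w, he₀w] at h1
    -- the line of `u` does not contain `w`
    have h3 : (t * d - d') • u = d' • w := by
      rw [sub_smul, mul_smul, ← h1, smul_add]; abel
    by_cases h0 : t * d - d' = 0
    · rw [h0, zero_smul] at h3
      exact hw ((smul_eq_zero.1 h3.symm).resolve_left hd')
    · exact hu ((t * d - d')⁻¹ * d') (by rw [mul_smul, ← h3, inv_smul_smul₀ h0])
  set P : Submodule K V := Submodule.span K ({w, u} : Set V) with hPdef
  have hwP : w ∈ P := Submodule.subset_span (by simp)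
  have huP : u ∈ P := Submodule.subset_span (by simp)
  have hfw : f ⋅ w = d • u := by rw [hfv, he₀w]
  have hEw : ∀ e ∈ E, e ⋅ w ∈ P := by
    intro e he
    have hfu : f ⋅ u = d⁻¹ • -w := by
      rw [← hff w, hfw, s.lin f hf, inv_smul_smul₀ hd]
    have h4 : f ⋅ (f' ⋅ w) ∈ P := by
      rw [hfv', hg₀w, s.lin f hf, map_add, hfu, hfw]
      exact P.smul_mem _ (P.add_mem (P.smul_mem _ (P.neg_mem hwP)) (P.smul_mem _ huP))
    obtain ⟨t, h | h | h | h⟩ := hQ.cases s hE hexp h2 he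
    · rw [h]; exact P.smul_mem _ hwP
    · rw [h, hfw]; exact P.smul_mem _ (P.smul_mem _ huP)
    · rw [h, hfv', hg₀w]; exact P.smul_mem _ (P.smul_mem _ (P.add_mem huP hwP))
    · rw [h]; exact P.smul_mem _ h4
  have hPtop : P.toAddSubgroup ≠ ⊤ := fun h => by
    classical
    have htop : P = ⊤ := eq_top_iff.2 fun x _ => show x ∈ P.toAddSubgroup by rw [h]; trivial
    have h1 := finrank_span_finset_le_card (R := K) ({w, u} : Finset V)
    rw [Finset.coe_pair, Set.finrank, ← hPdef, htop, finrank_top] at h1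
    have := h1.trans Finset.card_le_two
    omega
  have h3dvd := three_not_dvd s hK3
  have hcard3 : (3 : K) = 0 := by
    haveI := charP_of_card Nat.prime_three hK3
    exact_mod_cast CharP.cast_eq_zero K 3
  have hshift : ∀ a ∈ G, a ⋅ w = w → ∀ t : K, a ⋅ u = u + t • w → a = 1 := by
    intro a ha haw t hau
    have hn : ∀ n : ℕ, (a ^ n) ⋅ u = u + (n : K) • (t • w) := by
      intro n
      induction n with
      | zero => rw [pow_zero, Nat.cast_zero, zero_smul, add_zero]; rfl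
      | succ n ih =>
        rw [pow_succ', mul_apply', ih, map_add, hau, hlin a, hlin a, haw, Nat.cast_succ, add_smul,
          one_smul]
        abel
    have h1 : a ^ 3 = 1 := hp _ (G.pow_mem ha 3) (pow_fix haw 3) (by
      rw [hn, Nat.cast_ofNat, hcard3, zero_smul, add_zero])
    by_contra hne
    haveI := Fact.mk Nat.prime_three
    refine h3dvd ?_
    rw [← orderOf_eq_prime h1 hne, ← Subgroup.orderOf_mk a ha]
    exact orderOf_dvd_natCard _
  have hform : ∀ a ∈ G, a ⋅ w = w → a ≠ 1 → ∃ t : K, a ⋅ u = -u + t • w := by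
    intro a ha haw hne
    have hmem : a ⋅ u ∈ P := by
      rw [← he₀w, show a ⋅ (e₀ ⋅ w) = (a * e₀ * a⁻¹) ⋅ w by
        rw [mul_apply', mul_apply', inv_fix haw]]
      exact hEw _ (s.norm a ha _ he₀)
    obtain ⟨t, b, htb⟩ := Submodule.mem_span_pair.1 hmem
    rcases three_cases hK3 b with rfl | rfl | rfl
    · exfalso
      refine hu t (inj' a ?_)
      show a ⋅ u = a ⋅ (t • w)
      rw [← htb, hlin a, haw, zero_smul, add_zero]
    · exact absurd (hshift a ha haw t (by rw [← htb, one_smul, add_comm])) hne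
    · exact ⟨t, by rw [← htb, neg_one_smul, add_comm]⟩
  have hout : ∀ y, y ∉ P → Out E w y := fun y hy =>
    ⟨fun h => hy (h ▸ P.zero_mem), fun e he h => hy (h ▸ hEw e he)⟩
  by_cases htriv : ∀ a ∈ G, a ⋅ w = w → a = 1
  · obtain ⟨y, hy⟩ : ∃ y, y ∉ P := by
      by_contra h; push Not at h; exact hPtop (eq_top_iff.2 fun x _ => h x)
    exact Or.inl ⟨w, y, fun a ha h1 _ => htriv a ha h1, hg, hout y hy⟩
  push Not at htriv
  obtain ⟨a₀, ha₀, ha₀w, ha₀ne⟩ := htriv
  have huniq : ∀ a ∈ G, a ⋅ w = w → a ≠ 1 → a = a₀ := by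
    intro a ha haw hne
    obtain ⟨t, ht⟩ := hform a ha haw hne
    obtain ⟨t₀, ht₀⟩ := hform a₀ ha₀ ha₀w ha₀ne
    have hsq₀ : a₀ * a₀ = 1 := hp _ (G.mul_mem ha₀ ha₀) (by rw [mul_apply', ha₀w, ha₀w]) (by
      rw [mul_apply', ht₀, map_add, map_neg, ht₀, hlin a₀, ha₀w]; abel)
    have h1 : a * a₀ = 1 := hshift _ (G.mul_mem ha ha₀) (by rw [mul_apply', ha₀w, haw]) (t₀ - t) (by
      rw [mul_apply', ht₀, map_add, map_neg, ht, hlin a, haw, sub_smul]; abel)
    exact mul_right_cancel (h1.trans hsq₀.symm)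
  let U : AddSubgroup V :=
    { carrier := {y | a₀ ⋅ y = y}
      zero_mem' := map_zero _
      add_mem' := fun {x y} (hx : _ = x) (hy : _ = y) => show _ = _ by rw [map_add, hx, hy]
      neg_mem' := fun {x} (hx : _ = x) => show _ = _ by rw [map_neg, hx] }
  obtain ⟨y, hyP, hyU⟩ := exists_notMem_union hPtop
    (show U ≠ ⊤ from fun h => ha₀ne (eq_one_of_forall fun v => show v ∈ U by rw [h]; trivial))
  refine Or.inl ⟨w, y, fun a ha h1 h3 => ?_, hg, hout y hyP⟩
  by_contra hne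
  exact hyU (show a₀ ⋅ y = y by rw [← huniq a ha h1 hne]; exact h3)

/-- The claim passes from the fixed space to the whole space. -/
theorem good_of_split {s : Sys K G E} (hsq : SqHyp K E) (hK : Nat.card K = 3 ∨ Nat.card K = 5)
    (D : Split s) (h : Good D.sys) : Good s := by
  haveI := D.nontrivial
  haveI := D.nontrivial_W
  obtain ⟨_, h2, -⟩ := small_facts (V := V) (K := K) hK
  have hn := D.finrank_eq (D.r_eq_two hK)
  rcases h with ⟨w, u, hp, hg, ho⟩ | h1 | ⟨hn1, x, hx, hx'⟩ | ⟨hK3, hn1, D₂, hf, x, hx, hx'⟩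
  · refine Or.inl (D.step_out h2 hp hg (fun h0 => ?_) ho)
    subst h0
    obtain ⟨e, he, hne⟩ : ∃ e ∈ D.E₁, e ≠ 1 := by
      obtain ⟨z, hz, hzv⟩ := D.sys.scal (-1 : K) (neg_ne_zero.2 one_ne_zero)
      refine ⟨z, hz, fun h1 => ?_⟩
      obtain ⟨v, hv⟩ := exists_ne (0 : D.W)
      have h3 := hzv v
      rw [h1, one_apply'] at h3
      have h4 : (2 : K) • v = 0 := by rw [two_smul]; nth_rewrite 2 [h3]; simp
      exact hv ((smul_eq_zero.1 h4).resolve_left h2)
    exact hne (hg e he (map_zero _))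
  · refine Or.inr (Or.inr (Or.inl ⟨by omega, D.l, D.hl, fun ⟨t, ht⟩ => D.ne_one ?_⟩))
    have h3 := ht D.w₀
    rw [D.w₀_fix] at h3
    have ht1 : (1 : K) = t := smul_left_injective K D.w₀_ne ((one_smul K _).trans h3)
    exact eq_one_of_forall fun v => by rw [ht, ← ht1, one_smul]
  · by_cases hf : Fpf D.E₁
    · refine Or.inr (Or.inr (Or.inr ⟨hK.resolve_right fun h5 => hx' ?_, by omega, D, hf, x, hx, hx'⟩))
      exact fpf_five D.sys hf (hsq.sub D) h5 hx
    · obtain ⟨D₂⟩ := exists_split D.sys hf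
      have hn2 := D₂.finrank_eq (D₂.r_eq_two hK)
      obtain ⟨F, -, -⟩ := exists_frameFour hsq hK D D₂
      rcases hK with hK | hK
      · exact Or.inl (out_three s hsq hK F (by omega))
      · exact Or.inl (out_five s hsq hK F (by omega))
  · haveI := D₂.nontrivial_W
    have hn2 := D₂.finrank_eq (D₂.r_eq_two hK)
    obtain ⟨F⟩ := exists_frameEight hsq hK3 D D₂ hf (by omega) hx hx'
    exact Or.inl (out_eight s hsq hK3 F (by omega))

/-- The claim over three and five elements, below the bound. -/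
theorem good_below (hK : Nat.card K = 3 ∨ Nat.card K = 5) {N : ℕ} (ih : CopBelow.{v} N) (m : ℕ) :
    ∀ (U : Type v) [AddCommGroup U] [Finite U] [Module K U] [Nontrivial U]
      (G E : Subgroup (AutGp U)), Nat.card U = m → m < N → ∀ s : Sys K G E, SqHyp K E →
      Group.IsSolvable G → Good s := by
  induction m using Nat.strong_induction_on with
  | _ m IH =>
    intro U _ _ _ _ G E hm hN s hsq hsol
    by_cases hE : Fpf E
    · obtain ⟨x, y, hx, hp⟩ :=
        exists_pair_ne_zero (ih U _ inferInstance G (by omega) hsol s.cop)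
      exact good_of_fpf s hE hsq hK hx hp
    · obtain ⟨D⟩ := exists_split s hE
      haveI := D.nontrivial_W
      have hlt := D.card_lt
      exact good_of_split hsq hK D (IH (Nat.card D.W) (by omega) D.W D.G₁ D.E₁ rfl (by omega)
        D.sys (hsq.sub D) (D.isSolvable_G₁ hsol))

end CfsgLib.BaseTwo73
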