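import Cfsg.Agent.BaseThree.Main
import Mathlib.GroupTheory.SpecificGroups.Cyclic
import Mathlib.GroupTheory.PGroup

/-!
# Sets of vectors with trivial stabilizer
-/

set_option autoImplicit false
set_option linter.style.haveILetI false

namespace CfsgLib.BaseTwo73

open CfsgLib.RegOrbit

universe v

variable {M : Type v} [AddCommGroup M]

local notation:80 a " ⋅ " v:81 => ((a : AutGp _) : AddMonoid.End _) v

/-- A set of vectors whose stabilizer is trivial. -/
def SetBase (H : Subgroup (AutGp M)) : Prop :=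
  ∃ S : Set M, ∀ h ∈ H, (∀ x : M, h ⋅ x ∈ S ↔ x ∈ S) → h = 1

theorem SetBase.of_single {H : Subgroup (AutGp M)} {b : M}
    (h : ∀ g ∈ H, g ⋅ b = b → g = 1) : SetBase H :=
  ⟨{b}, fun g hg hS => h g hg (Set.mem_singleton_iff.1 ((hS b).2 rfl))⟩

theorem SetBase.of_pair {H : Subgroup (AutGp M)} {b x : M}
    (h : ∀ g ∈ H, g ⋅ b = b → g ⋅ x = x → g = 1)
    (hswap : ∀ g ∈ H, g ⋅ b = x → g ⋅ x ≠ b) : SetBase H := by
  refine ⟨{b, x}, fun g hg hS => ?_⟩
  have hinj : Function.Injective ((g : AddMonoid.End M) : M → M) := fun y z hyz => by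
    rw [← inv_apply' g y, hyz, inv_apply']
  by_cases hxb : x = b
  · subst hxb
    have h1 := (hS x).2 (Or.inl rfl)
    simp only [Set.mem_insert_iff, Set.mem_singleton_iff, or_self] at h1
    exact h g hg h1 h1
  rcases (hS b).2 (Or.inl rfl) with h1 | h1 <;> rcases (hS x).2 (Or.inr rfl) with h2 | h2
  · exact absurd (hinj (h2.trans h1.symm)) hxb
  · exact h g hg h1 h2
  · exact absurd h2 (hswap g hg h1)
  · exact absurd (hinj (h2.trans h1.symm)) hxb

/-- An independent base of three vectors gives a set when two is neither zero nor one. -/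
theorem SetBase.of_indep {q : ℕ} [Fact q.Prime] (hq : 5 ≤ q) [Module (ZMod q) M]
    {H : Subgroup (AutGp M)} (hB : BaseThree.Base H) : SetBase H := by
  classical
  obtain ⟨a₁, a₂, a₃, hbase⟩ := hB
  have hlin : ∀ (a : AutGp M) (c : ZMod q) (x : M), a ⋅ (c • x) = c • a ⋅ x := fun a c x =>
    (AddMonoidHom.toZModLinearMap q (a : AddMonoid.End M)).map_smul c x
  set t : Fin 3 → M := ![a₁, a₂, a₃] with ht
  have hbase' : ∀ g ∈ H, (∀ i, g ⋅ t i = t i) → g = 1 := fun g hg h =>
    hbase g hg (h 0) (h 1) (h 2)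
  have n2 : (2 : ZMod q) ≠ 0 := fun h => by
    have h' := (CharP.cast_eq_zero_iff (ZMod q) q 2).1 (by exact_mod_cast h)
    have := Nat.le_of_dvd (by norm_num) h'
    omega
  have n3 : (3 : ZMod q) ≠ 0 := fun h => by
    have h' := (CharP.cast_eq_zero_iff (ZMod q) q 3).1 (by exact_mod_cast h)
    have := Nat.le_of_dvd (by norm_num) h'
    omega
  by_cases hall : ∀ i, t i = 0
  · exact ⟨∅, fun g hg _ => hbase' g hg fun i => by rw [hall, map_zero]⟩
  push Not at hall
  obtain ⟨i, hi⟩ := hall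
  set a := t i with ha
  have two_ne : (2 : ZMod q) • a ≠ a := fun h => hi (by
    rw [two_smul] at h; exact add_eq_left.1 h)
  have inj : ∀ g : AutGp M, Function.Injective ((g : AddMonoid.End M) : M → M) := fun g y z hyz =>
    by rw [← inv_apply' g y, hyz, inv_apply']
  by_cases hb : ∀ j, ∃ c : ZMod q, t j = c • a
  · refine SetBase.of_single (b := a) fun g hg hga => hbase' g hg fun j => ?_
    obtain ⟨c, hc⟩ := hb j
    rw [hc, hlin, hga]
  push Not at hb
  obtain ⟨j, hj⟩ := hb
  set b := t j with hb'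
  have hab : ∀ x y : ZMod q, x • a + y • b = 0 → x = 0 ∧ y = 0 := by
    intro x y h
    by_cases hy : y = 0
    · rw [hy, zero_smul, add_zero] at h
      exact ⟨(smul_eq_zero.1 h).resolve_right hi, hy⟩
    · refine absurd ?_ (hj (-(y⁻¹ * x)))
      rw [neg_smul, mul_smul, eq_neg_of_add_eq_zero_left h, smul_neg, neg_neg, smul_smul,
        inv_mul_cancel₀ hy, one_smul]
  by_cases hc : ∀ k, ∃ x y : ZMod q, t k = x • a + y • b
  · -- two vectors: `{a, 2a, b}`
    refine ⟨{a, (2 : ZMod q) • a, b}, fun g hg hS => ?_⟩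
    have mem : ∀ x, x ∈ ({a, (2 : ZMod q) • a, b} : Set M) →
        g ⋅ x = a ∨ g ⋅ x = (2 : ZMod q) • a ∨ g ⋅ x = b := fun x hx => (hS x).2 hx
    have ha2 := mem _ (Or.inr (Or.inl rfl))
    rw [hlin] at ha2
    have hga : g ⋅ a = a := by
      rcases mem _ (Or.inl rfl) with h | h | h
      · exact h
      all_goals
        exfalso
        rw [h] at ha2
        rcases ha2 with e | e | e
      · exact n3 (by
          linear_combination (hab (2 * 2 - 1) 0 (by rw [sub_smul, one_smul, mul_smul, e]; simp)).1)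
      · exact n2 (by
          linear_combination (hab (2 * 2 - 2) 0 (by rw [sub_smul, mul_smul, e]; simp)).1)
      · exact one_ne_zero (α := ZMod q)
          (neg_eq_zero.1 (hab (2 * 2) (-1) (by rw [neg_one_smul, mul_smul, e]; simp)).2)
      · exact one_ne_zero (α := ZMod q)
          (neg_eq_zero.1 (hab (-1) 2 (by rw [neg_one_smul, e]; simp)).1)
      · exact n2 (hab (-2) 2 (by rw [neg_smul, e]; simp)).2
      · exact one_ne_zero (α := ZMod q) (by
          linear_combination (hab 0 (2 - 1) (by rw [sub_smul, one_smul, e]; simp)).2)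
    have hgb : g ⋅ b = b := by
      rcases mem _ (Or.inr (Or.inr rfl)) with h | h | h
      · exact absurd (inj g (h.trans hga.symm)) fun h' => hj 1 (by rw [one_smul]; exact h')
      · exact absurd (inj g (h.trans (by rw [hlin, hga] : g ⋅ ((2 : ZMod q) • a) = _).symm))
          fun h' => hj 2 h'
      · exact h
    refine hbase' g hg fun k => ?_
    obtain ⟨x, y, hk⟩ := hc k
    rw [hk, map_add, hlin, hlin, hga, hgb]
  push Not at hc
  obtain ⟨k, hk⟩ := hc
  set c := t k with hc'
  have hind : ∀ x y z : ZMod q, x • a + y • b + z • c = 0 → x = 0 ∧ y = 0 ∧ z = 0 := by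
    intro x y z h
    by_cases hz : z = 0
    · rw [hz, zero_smul, add_zero] at h
      obtain ⟨h1, h2⟩ := hab x y h
      exact ⟨h1, h2, hz⟩
    · refine absurd ?_ (hk (-(z⁻¹ * x)) (-(z⁻¹ * y)))
      rw [neg_smul, neg_smul, mul_smul, mul_smul, ← neg_add, ← smul_add,
        eq_neg_of_add_eq_zero_left h, smul_neg, neg_neg, smul_smul, inv_mul_cancel₀ hz, one_smul]
  -- coordinates of the five vectors
  let v : ZMod q × ZMod q × ZMod q → M := fun e => e.1 • a + e.2.1 • b + e.2.2 • c
  have vinj : ∀ e e', v e = v e' → e = e' := by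
    intro e e' h
    obtain ⟨h1, h2, h3⟩ := hind (e.1 - e'.1) (e.2.1 - e'.2.1) (e.2.2 - e'.2.2) (by
      rw [← sub_eq_zero.2 h]; simp only [v, sub_smul]; abel)
    exact Prod.ext (sub_eq_zero.1 h1) (Prod.ext (sub_eq_zero.1 h2) (sub_eq_zero.1 h3))
  let Co : Set (ZMod q × ZMod q × ZMod q) :=
    {(1, 0, 0), (2, 0, 0), (0, 1, 0), (0, 0, 1), (1, 1, 0)}
  refine ⟨v '' Co, fun g hg hS => ?_⟩
  have img : ∀ e ∈ Co, ∃ e' ∈ Co, g ⋅ v e = v e' := fun e he => by
    obtain ⟨e', he', h⟩ := (hS (v e)).2 ⟨e, he, rfl⟩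
    exact ⟨e', he', h.symm⟩
  have va : v (1, 0, 0) = a := by simp [v]
  have vb : v (0, 1, 0) = b := by simp [v]
  have vc : v (0, 0, 1) = c := by simp [v]
  have vadd : ∀ e e', v (e + e') = v e + v e' := fun e e' => by
    simp only [v, Prod.fst_add, Prod.snd_add, add_smul]; abel
  obtain ⟨e₁, he₁, h₁⟩ := img (1, 0, 0) (by simp [Co])
  obtain ⟨e₂, he₂, h₂⟩ := img (2, 0, 0) (by simp [Co])
  obtain ⟨e₃, he₃, h₃⟩ := img (0, 1, 0) (by simp [Co])
  obtain ⟨e₄, he₄, h₄⟩ := img (0, 0, 1) (by simp [Co])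
  obtain ⟨e₅, he₅, h₅⟩ := img (1, 1, 0) (by simp [Co])
  have r2 : e₂ = e₁ + e₁ := vinj _ _ (by
    rw [vadd, ← h₁, ← map_add, ← vadd, ← h₂]; congr 2; simp; ring)
  have r5 : e₅ = e₁ + e₃ := vinj _ _ (by
    rw [vadd, ← h₁, ← h₃, ← map_add, ← vadd, ← h₅]; congr 2; simp)
  have d13 : e₁ ≠ e₃ := fun h => by
    have h' := inj g (h₁.trans ((congrArg v h).trans h₃.symm))
    have := congrArg Prod.fst (vinj _ _ h')
    exact one_ne_zero (α := ZMod q) this
  have n1 : (1 : ZMod q) ≠ 0 := one_ne_zero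
  have k21 : (2 : ZMod q) ≠ 1 := fun h => n1 (by linear_combination h)
  have k31 : (3 : ZMod q) ≠ 1 := fun h => n2 (by linear_combination h)
  have k32 : (3 : ZMod q) ≠ 2 := fun h => n1 (by linear_combination h)
  have hp11 : (1 : ZMod q) + 1 = 2 := by norm_num
  have hp22 : (2 : ZMod q) + 2 = 4 := by norm_num
  have hp12 : (1 : ZMod q) + 2 = 3 := by norm_num
  have k41 : (4 : ZMod q) ≠ 1 := fun h => n3 (by linear_combination h)
  have k42 : (4 : ZMod q) ≠ 2 := fun h => n2 (by linear_combination h)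
  have f1 : e₁ = (1, 0, 0) := by
    have h := r2 ▸ he₂
    simp only [Co, Set.mem_insert_iff, Set.mem_singleton_iff] at he₁ h
    rcases he₁ with rfl | rfl | rfl | rfl | rfl
    · rfl
    all_goals simp [Prod.ext_iff, hp11, hp22, n1, n2, k21, k41, k42] at h
  have f3 : e₃ = (0, 1, 0) := by
    have h := r5 ▸ he₅
    rw [f1] at h d13
    simp only [Co, Set.mem_insert_iff, Set.mem_singleton_iff] at he₃ h
    rcases he₃ with rfl | rfl | rfl | rfl | rfl
    · exact absurd rfl d13
    · simp [Prod.ext_iff, hp12, n1, n2, n3, k31, k32] at h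
    · rfl
    · simp [Prod.ext_iff, n1] at h
    · simp [Prod.ext_iff, hp11, n1, n2, k21] at h
  have ga : g ⋅ a = a := by
    have h := h₁
    rwa [f1, va] at h
  have gb : g ⋅ b = b := by
    have h := h₃
    rwa [f3, vb] at h
  have f4 : e₄ = (0, 0, 1) := by
    have ne : ∀ e, e.2.2 = (0 : ZMod q) → g ⋅ v e = v e → e₄ ≠ e := fun e he hge heq => by
      have h' := vinj _ _ (inj g (h₄.trans ((congrArg v heq).trans hge.symm)))
      rw [← h'] at he
      exact n1 he
    simp only [Co, Set.mem_insert_iff, Set.mem_singleton_iff] at he₄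
    rcases he₄ with h | h | h | h | h
    · exact absurd h (ne _ rfl (by rw [va, ga]))
    · exact absurd h (ne _ rfl (by simp [v, hlin, ga]))
    · exact absurd h (ne _ rfl (by rw [vb, gb]))
    · exact h
    · exact absurd h (ne _ rfl (by simp [v, ga, gb]))
  have gc : g ⋅ c = c := by
    have h := h₄
    rwa [f4, vc] at h
  refine hbase' g hg fun l => ?_
  have hl : l = i ∨ l = j ∨ l = k := by
    have h1 : j ≠ i := fun h => hj 1 (by rw [hb', h, one_smul])
    have h2 : k ≠ i := fun h => hk 1 0 (by rw [hc', h, one_smul, zero_smul, add_zero])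
    have h3 : k ≠ j := fun h => hk 0 1 (by rw [hc', h, one_smul, zero_smul, zero_add])
    omega
  rcases hl with rfl | rfl | rfl
  · exact ga
  · exact gb
  · exact gc

/-- The fixed subgroup of an element. -/
def fixAdd (a : AutGp M) : AddSubgroup M where
  carrier := {x | a ⋅ x = x}
  zero_mem' := map_zero _
  add_mem' := fun {x y} (hx : _ = x) (hy : _ = y) => show _ = _ by rw [map_add, hx, hy]
  neg_mem' := fun {x} (hx : _ = x) => show _ = _ by rw [map_neg, hx]

theorem two_pow_mod {d r : ℕ} (hd : d < 6) (hr : r.Prime) (hr3 : r ≠ 3) (hr2 : r ≠ 2)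
    (h : 2 ^ d ≡ 1 [MOD r]) (h0 : d ≠ 0) :
    ((d = 3 ∧ r = 7) ∨ (d = 4 ∧ r = 5) ∨ (d = 5 ∧ r = 31)) ∧
      ∀ e ≤ d, 2 ^ e ≡ 1 [MOD r] → e = 0 ∨ e = d := by
  have h1 : r ∣ 2 ^ d - 1 := (Nat.modEq_iff_dvd' Nat.one_le_two_pow).1 h.symm
  have hmain : (d = 3 ∧ r = 7) ∨ (d = 4 ∧ r = 5) ∨ (d = 5 ∧ r = 31) := by
    have hle : r ≤ 31 := (Nat.le_of_dvd (by
      have : 2 ≤ 2 ^ d := by
        calc 2 = 2 ^ 1 := rfl
          _ ≤ 2 ^ d := Nat.pow_le_pow_right (by norm_num) (by omega)
      omega) h1).trans (by interval_cases d <;> norm_num)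
    interval_cases d <;> interval_cases r <;> (revert hr hr3 h0 h1; decide)
  refine ⟨hmain, ?_⟩
  rcases hmain with ⟨rfl, rfl⟩ | ⟨rfl, rfl⟩ | ⟨rfl, rfl⟩ <;> decide

variable [Finite M]

theorem exists_card_pow_two [Nontrivial M] (h2 : ∀ x : M, 2 • x = 0) (U : AddSubgroup M)
    {d : ℕ} (hd : Nat.card M = 2 ^ d) : ∃ e ≤ d, Nat.card U = 2 ^ e :=
  (Nat.dvd_prime_pow Nat.prime_two).1 (hd ▸ U.card_addSubgroup_dvd_card)

/-- Small irreducible groups of exponent two. -/
theorem SetBase.of_small {H : Subgroup (AutGp M)} [Nontrivial M] (hsol : Group.IsSolvable H)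
    (h3 : ¬ 3 ∣ Nat.card H) (hirr : Irred H) (h2 : ∀ x : M, 2 • x = 0) (hm : Nat.card M < 64) :
    SetBase H := by
  classical
  haveI := hsol
  obtain ⟨b, hb⟩ := exists_ne (0 : M)
  by_cases hH : Subsingleton H
  · exact SetBase.of_single (b := b) fun g hg _ =>
      congrArg Subtype.val (Subsingleton.elim (⟨g, hg⟩ : H) 1)
  haveI : Nontrivial H := not_subsingleton_iff_nontrivial.1 hH
  obtain ⟨N, hN, hN1, hmin⟩ := Solvable.exists_minimal_normal (G := H)
  have hab := Solvable.mul_comm_of_minimal_normal hN1 hmin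
  obtain ⟨c₀, hc₀, hc₀1⟩ := N.bot_or_exists_ne_one.resolve_left hN1
  obtain ⟨r, hr, hdvd⟩ := Nat.exists_prime_and_dvd (mt orderOf_eq_one_iff.1 hc₀1)
  obtain ⟨s, hs⟩ := hdvd
  set c : H := c₀ ^ s with hcdef
  have hcN : c ∈ N := N.pow_mem hc₀ s
  have hcr : orderOf c = r := by
    have hs0 : 0 < s := by
      rcases Nat.eq_zero_or_pos s with rfl | h
      · have := orderOf_pos c₀; omega
      · exact h
    rw [hcdef, orderOf_pow_of_dvd (by omega) (hs ▸ dvd_mul_left s r), hs, Nat.mul_div_cancel _ hs0]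
  have hc1 : c ≠ 1 := fun h => hr.ne_one (by rw [← hcr, h, orderOf_one])
  -- the normal subgroup has exponent `r`
  let N' : Subgroup H :=
    { carrier := {x | x ∈ N ∧ x ^ r = 1}
      one_mem' := ⟨N.one_mem, one_pow r⟩
      mul_mem' := fun {x y} hx hy => ⟨N.mul_mem hx.1 hy.1, by
        rw [(show Commute x y from hab x hx.1 y hy.1).mul_pow, hx.2, hy.2, one_mul]⟩
      inv_mem' := fun {x} hx => ⟨N.inv_mem hx.1, by rw [inv_pow, hx.2, inv_one]⟩ }
  have hN' : N'.Normal := ⟨fun x hx g => ⟨hN.conj_mem x hx.1 g, by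
    rw [conj_pow, hx.2, mul_one, mul_inv_cancel]⟩⟩
  have hexpN : ∀ x ∈ N, x ^ r = 1 := by
    have hle : N ≤ N' := by
      rcases hmin N' hN' (fun x hx => hx.1) with h | h
      · exact absurd (show c ∈ N' from ⟨hcN, hcr ▸ pow_orderOf_eq_one c⟩)
          (by rw [h, Subgroup.mem_bot]; exact hc1)
      · exact h.ge
    exact fun x hx => (hle hx).2
  haveI := Fact.mk hr
  have hpN : IsPGroup r N := fun x => ⟨1, by rw [pow_one]; exact Subtype.ext (hexpN x x.2)⟩
  -- a subgroup of exponent `r` acting, with the congruence on its fixed points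
  have hcong : ∀ (P : Subgroup H), P ≤ N → ∀ U : AddSubgroup M,
      (∀ x ∈ P, ∀ u ∈ U, (x : AutGp M) ⋅ u ∈ U) →
      Nat.card U ≡ Nat.card {u : U // ∀ x ∈ P, (x : AutGp M) ⋅ (u : M) = u} [MOD r] := by
    intro P hP U hU
    letI : MulAction P U :=
      { smul := fun x u => ⟨((x : H) : AutGp M) ⋅ (u : M), hU x x.2 u u.2⟩
        one_smul := fun u => Subtype.ext rfl
        mul_smul := fun x y u => Subtype.ext rfl }
    have hP' : IsPGroup r P := hpN.to_le hP
    refine (hP'.card_modEq_card_fixedPoints U).trans (congrArg (· % r) ?_)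
    exact Nat.card_congr (Equiv.subtypeEquivRight fun u =>
      ⟨fun h x hx => congrArg Subtype.val (h ⟨x, hx⟩), fun h x => Subtype.ext (h x x.2)⟩)
  obtain ⟨d, hd⟩ : ∃ d, Nat.card M = 2 ^ d := by
    haveI := Fact.mk Nat.prime_two
    refine ⟨_, (IsPGroup.iff_card.1 (fun x : Multiplicative M => ⟨1, ?_⟩ :
      IsPGroup 2 (Multiplicative M))).choose_spec.trans rfl⟩
    rw [pow_one]; exact h2 _
  have hd6 : d < 6 := (Nat.pow_lt_pow_iff_right (by norm_num : 1 < 2)).1 (hd ▸ hm)
  have hd0 : d ≠ 0 := fun h => by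
    have := Finite.one_lt_card (α := M)
    rw [hd, h] at this; omega
  have hr3 : r ≠ 3 := fun h => h3 (h ▸ hcr ▸ orderOf_dvd_natCard c)
  have hmodN : 2 ^ d ≡ 1 [MOD r] := by
    have h := hcong N le_rfl ⊤ (fun _ _ _ _ => AddSubgroup.mem_top _)
    rw [AddSubgroup.card_top, hd] at h
    refine h.trans (congrArg (· % r) ?_)
    rw [Nat.card_eq_one_iff_unique]
    refine ⟨⟨fun u w => ?_⟩, ⟨⟨0, fun x _ => map_zero _⟩⟩⟩
    let T : AddSubgroup M :=
      { carrier := {u | ∀ x ∈ N, (x : AutGp M) ⋅ u = u}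
        zero_mem' := fun x _ => map_zero _
        add_mem' := fun {u w} hu hw x hx => by rw [map_add, hu x hx, hw x hx]
        neg_mem' := fun {u} hu x hx => by rw [map_neg, hu x hx] }
    have hT : Inv H T := fun h hh u hu x hx => by
      have h' := hu ((⟨h, hh⟩ : H)⁻¹ * x * ⟨h, hh⟩) (by
        simpa using hN.conj_mem x hx (⟨h, hh⟩ : H)⁻¹)
      rw [Subgroup.coe_mul, Subgroup.coe_mul, Subgroup.coe_inv, mul_apply', mul_apply'] at h'
      conv_rhs => rw [← h', apply_inv']
    rcases hirr T hT with h | h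
    · have h0 : ∀ z : {u : (⊤ : AddSubgroup M) // ∀ x ∈ N, (x : AutGp M) ⋅ (u : M) = u},
          ((z : (⊤ : AddSubgroup M)) : M) = 0 := fun z => by
        have : ((z : (⊤ : AddSubgroup M)) : M) ∈ T := z.2
        rwa [h, AddSubgroup.mem_bot] at this
      exact Subtype.ext (Subtype.ext ((h0 u).trans (h0 w).symm))
    · exact absurd (Subtype.ext (eq_one_of_forall fun u =>
        (show u ∈ T by rw [h]; trivial) c hcN)) hc1
  have hr2 : r ≠ 2 := fun h => by
    rw [h] at hmodN
    have : 2 ^ d % 2 = 1 := hmodN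
    rw [Nat.pow_mod] at this
    simp [hd0] at this
  obtain ⟨hmain, hgap⟩ := two_pow_mod hd6 hr hr3 hr2 hmodN hd0
  -- elements of `N` act freely
  have hfree : ∀ x ∈ N, ∀ u : M, u ≠ 0 → (x : AutGp M) ⋅ u = u → x = 1 := by
    intro x hx u hu hxu
    by_contra hne
    have h := hcong (Subgroup.zpowers x) ((Subgroup.zpowers_le).2 hx) ⊤
      (fun _ _ _ _ => AddSubgroup.mem_top _)
    rw [AddSubgroup.card_top, hd] at h
    obtain ⟨e, he, hecard⟩ := exists_card_pow_two h2 (fixAdd (x : AutGp M)) hd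
    have heq : Nat.card {u : (⊤ : AddSubgroup M) // ∀ y ∈ Subgroup.zpowers x,
        (y : AutGp M) ⋅ (u : M) = u} = 2 ^ e := by
      rw [← hecard]
      refine Nat.card_congr
        { toFun := fun u => ⟨((u : (⊤ : AddSubgroup M)) : M), u.2 x (Subgroup.mem_zpowers x)⟩
          invFun := fun u => ⟨⟨(u : M), AddSubgroup.mem_top _⟩, fun y hy => ?_⟩
          left_inv := fun _ => rfl
          right_inv := fun _ => rfl }
      obtain ⟨k, rfl⟩ := (isOfFinOrder_of_finite x).mem_powers_iff_mem_zpowers.2 hy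
      simp only [SubgroupClass.coe_pow]
      exact pow_fix u.2 k
    rw [heq] at h
    rcases hgap e he (h.symm.trans hmodN) with rfl | rfl
    · rw [pow_zero, Nat.card_eq_one_iff_unique] at hecard
      haveI := hecard.1
      exact hu (congrArg Subtype.val (Subsingleton.elim
        (⟨u, hxu⟩ : fixAdd (x : AutGp M)) ⟨0, map_zero _⟩))
    · exact hne (Subtype.ext (eq_one_of_forall fun w => show w ∈ fixAdd (x : AutGp M) by
        rw [AddSubgroup.eq_top_of_card_eq _ (hecard.trans hd.symm)]; trivial))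
  -- invariant subgroups
  have hinvc : ∀ U : AddSubgroup M, (∀ u ∈ U, (c : AutGp M) ⋅ u ∈ U) → U ≠ ⊥ → U = ⊤ := by
    intro U hU hU0
    have h := hcong (Subgroup.zpowers c) ((Subgroup.zpowers_le).2 hcN) U (fun y hy u hu => by
      obtain ⟨k, rfl⟩ := (isOfFinOrder_of_finite c).mem_powers_iff_mem_zpowers.2 hy
      clear hy
      simp only [SubgroupClass.coe_pow]
      induction k with
      | zero => rw [pow_zero]; exact hu
      | succ k ih => rw [pow_succ', mul_apply']; exact hU _ ih)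
    have h1 : Nat.card {u : U // ∀ y ∈ Subgroup.zpowers c, (y : AutGp M) ⋅ (u : M) = u} = 1 := by
      rw [Nat.card_eq_one_iff_unique]
      refine ⟨⟨fun u w => ?_⟩, ⟨⟨0, fun x _ => map_zero _⟩⟩⟩
      have h0 : ∀ z : {u : U // ∀ y ∈ Subgroup.zpowers c, (y : AutGp M) ⋅ (u : M) = u},
          ((z : U) : M) = 0 := fun z => by
        by_contra hz
        exact hc1 (hfree c hcN _ hz (z.2 c (Subgroup.mem_zpowers c)))
      exact Subtype.ext (Subtype.ext ((h0 u).trans (h0 w).symm))
    rw [h1] at h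
    obtain ⟨e, he, hecard⟩ := exists_card_pow_two h2 U hd
    rw [hecard] at h
    rcases hgap e he h with rfl | rfl
    · exact absurd (AddSubgroup.card_eq_one.1 (by rw [hecard, pow_zero])) hU0
    · exact AddSubgroup.eq_top_of_card_eq _ (hecard.trans hd.symm)
  -- the normal subgroup is generated by `c`
  have hcardN : Nat.card N ≤ 2 ^ d - 1 := by
    rw [← hd]
    haveI : Fintype M := Fintype.ofFinite M
    have hinj : Function.Injective fun x : N =>
        (⟨((x : H) : AutGp M) ⋅ b, fun h => hb (by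
          rw [← inv_apply' ((x : H) : AutGp M) b, h, map_zero])⟩ : {u : M // u ≠ 0}) := by
      intro x y hxy
      have h1 := congrArg Subtype.val hxy
      refine Subtype.ext (inv_mul_eq_one.1 (hfree _ (N.mul_mem (N.inv_mem y.2) x.2) b hb ?_)).symm
      show (((y : H)⁻¹ * x : H) : AutGp M) ⋅ b = b
      rw [Subgroup.coe_mul, Subgroup.coe_inv, mul_apply']
      exact (congrArg _ h1).trans (inv_apply' _ _)
    have h := Nat.card_le_card_of_injective _ hinj
    rw [Nat.card_eq_fintype_card (α := {u : M // u ≠ 0}), Fintype.card_subtype_compl,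
      Fintype.card_subtype_eq] at h
    rwa [Nat.card_eq_fintype_card (α := M)]
  have hNc : N = Subgroup.zpowers c := by
    refine (Subgroup.eq_of_le_of_card_ge ((Subgroup.zpowers_le).2 hcN) ?_).symm
    rw [Nat.card_zpowers, hcr]
    obtain ⟨k, hk⟩ := IsPGroup.iff_card.1 hpN
    rw [hk]
    rcases k with _ | _ | k
    · rw [pow_zero]; exact hr.one_le
    · rw [pow_one]
    · exfalso
      have h5 : r ^ 2 ≤ r ^ (k + 2) := Nat.pow_le_pow_right hr.pos (by omega)
      rw [hk] at hcardN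
      rw [show k + 1 + 1 = k + 2 from rfl] at hcardN
      rcases hmain with ⟨rfl, rfl⟩ | ⟨rfl, rfl⟩ | ⟨rfl, rfl⟩ <;> norm_num at hcardN h5 <;> omega
  -- stabilizers embed in the automorphisms of `N`
  let St : M → Subgroup H := fun u => (MulAction.stabilizer (AutGp M) u).comap H.subtype
  have hmemSt : ∀ (u : M) (g : H), g ∈ St u ↔ (g : AutGp M) ⋅ u = u := fun u g => Iff.rfl
  have hcomm : ∀ u : M, u ≠ 0 → ∀ g ∈ St u, g * c = c * g → g = 1 := by
    intro u hu g hg hgc
    refine Subtype.ext (eq_one_of_forall fun w => ?_)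
    have hgc' : ∀ x : M, (g : AutGp M) ⋅ ((c : AutGp M) ⋅ x) = (c : AutGp M) ⋅ ((g : AutGp M) ⋅ x) :=
      fun x => by rw [← mul_apply', ← mul_apply', ← Subgroup.coe_mul, hgc, Subgroup.coe_mul]
    show w ∈ fixAdd (g : AutGp M)
    rw [hinvc (fixAdd (g : AutGp M)) (fun x (hx : _ = x) => show _ = _ by rw [hgc', hx]) fun h =>
      hu (by have : u ∈ fixAdd (g : AutGp M) := hg; rwa [h, AddSubgroup.mem_bot] at this)]
    trivial
  have hconj : ∀ g : H, ∃ k : ℕ, g * c * g⁻¹ = c ^ k := fun g => by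
    obtain ⟨k, hk⟩ := (isOfFinOrder_of_finite c).mem_powers_iff_mem_zpowers.2
      (hNc ▸ hN.conj_mem c hcN g)
    exact ⟨k, hk.symm⟩
  have hdiv : ∀ u : M, u ≠ 0 → Nat.card (St u) ∣ r - 1 := by
    intro u hu
    haveI := hN
    let θ : St u →* MulAut N := (MulAut.conjNormal (H := N)).comp (St u).subtype
    have hθ : Function.Injective θ := by
      refine (injective_iff_map_eq_one θ).2 fun g hg => ?_
      refine Subtype.ext (hcomm u hu g g.2 ?_)
      have h := congrArg Subtype.val (DFunLike.congr_fun hg ⟨c, hcN⟩)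
      simp only [θ, MonoidHom.comp_apply, Subgroup.coe_subtype, MulAut.conjNormal_apply,
        MulAut.one_apply] at h
      exact mul_inv_eq_iff_eq_mul.1 h
    haveI : IsCyclic N := by rw [hNc]; infer_instance
    have hNr : Nat.card N = r := by rw [hNc, Nat.card_zpowers, hcr]
    have hM : Nat.card (MulAut N) = r - 1 := by
      rw [IsCyclic.card_mulAut, hNr, Nat.totient_prime hr]
    exact hM ▸ Subgroup.card_dvd_of_injective θ hθ
  -- involutions fixing a vector invert `c`
  have hinv : ∀ u : M, u ≠ 0 → ∀ t ∈ St u, t ≠ 1 → t * t = 1 → t * c * t⁻¹ = c⁻¹ := by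
    intro u hu t ht ht1 htt
    obtain ⟨k, hk⟩ := hconj t
    have h1 : c ^ (k * k) = c ^ 1 := by
      rw [pow_mul, ← hk, conj_pow, ← hk, pow_one,
        show t * (t * c * t⁻¹) * t⁻¹ = t * t * c * (t * t)⁻¹ by group, htt]
      group
    have h4 : k * k ≡ 1 [MOD r] := hcr ▸ pow_eq_pow_iff_modEq.1 h1
    have h5 : (k : ZMod r) * k = 1 := by
      have := (ZMod.natCast_eq_natCast_iff _ _ r).2 h4
      simpa using this
    rcases mul_self_eq_one_iff.1 h5 with h6 | h6
    · exfalso
      refine ht1 (hcomm u hu t ht ?_)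
      have h7 : c ^ k = c := by
        conv_rhs => rw [← pow_one c]
        refine pow_eq_pow_iff_modEq.2 ?_
        rw [hcr]
        exact (ZMod.natCast_eq_natCast_iff _ _ r).1 (by simpa using h6)
      rw [h7] at hk
      exact mul_inv_eq_iff_eq_mul.1 hk
    · rw [hk, eq_inv_iff_mul_eq_one, ← pow_succ]
      refine orderOf_dvd_iff_pow_eq_one.1 ?_
      rw [hcr, ← CharP.cast_eq_zero_iff (ZMod r) r]
      push_cast
      rw [h6, neg_add_cancel]
  have hinvpt : ∀ u : M, u ≠ 0 → ∀ t ∈ St u, t ≠ 1 → t * t = 1 → ∀ k : ℕ,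
      (t : AutGp M) ⋅ (((c ^ k : H) : AutGp M) ⋅ u) = ((c ^ k : H) : AutGp M) ⋅ u → c ^ k = 1 := by
    intro u hu t ht ht1 htt k hk
    have h1 : t * c ^ k * t⁻¹ = (c ^ k)⁻¹ := by rw [← conj_pow, hinv u hu t ht ht1 htt, inv_pow]
    have h2 : ((c ^ k : H) : AutGp M)⁻¹ ⋅ u = ((c ^ k : H) : AutGp M) ⋅ u := by
      rw [← Subgroup.coe_inv, ← h1, Subgroup.coe_mul, Subgroup.coe_mul, Subgroup.coe_inv,
        mul_apply', mul_apply', inv_fix ((hmemSt u t).1 ht), hk]
    have h3 : c ^ k * c ^ k = 1 := hfree _ (N.mul_mem (N.pow_mem hcN k) (N.pow_mem hcN k)) u hu (by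
      rw [Subgroup.coe_mul, mul_apply', ← h2, apply_inv'])
    have h4 : orderOf (c ^ k) ∣ Nat.gcd 2 r :=
      Nat.dvd_gcd (orderOf_dvd_of_pow_eq_one (by rw [pow_two, h3]))
        (orderOf_dvd_of_pow_eq_one (hexpN _ (N.pow_mem hcN k)))
    rw [(Nat.coprime_primes Nat.prime_two hr).2 (Ne.symm hr2)] at h4
    exact orderOf_eq_one_iff.1 (Nat.dvd_one.1 h4)
  have hfixsq : ∀ t : H, t * t = 1 → Nat.card M ≤
      Nat.card (fixAdd (t : AutGp M)) * Nat.card (fixAdd (t : AutGp M)) := by
    intro t htt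
    let f : M →+ M := AddMonoidHom.id M + (show M →+ M from ((t : AutGp M) : AddMonoid.End M))
    have htt' : ∀ x : M, (t : AutGp M) ⋅ ((t : AutGp M) ⋅ x) = x := fun x => by
      rw [← mul_apply', ← Subgroup.coe_mul, htt]; rfl
    have hker : f.ker ≤ fixAdd (t : AutGp M) := fun x (hx : x + (t : AutGp M) ⋅ x = 0) =>
      show _ = _ by
        rw [eq_neg_of_add_eq_zero_right hx, neg_eq_iff_add_eq_zero, ← two_nsmul, h2]
    have hrange : f.range ≤ fixAdd (t : AutGp M) := by
      rintro _ ⟨x, rfl⟩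
      show (t : AutGp M) ⋅ (x + (t : AutGp M) ⋅ x) = x + (t : AutGp M) ⋅ x
      rw [map_add, htt', add_comm]
    calc Nat.card M = Nat.card f.range * Nat.card f.ker := by
          rw [← AddSubgroup.index_ker f, mul_comm, AddSubgroup.card_mul_index]
      _ ≤ _ := Nat.mul_le_mul (AddSubgroup.card_le_of_le hrange) (AddSubgroup.card_le_of_le hker)
  -- when `N` is transitive there is no involution with a fixed vector
  have hnoinv : 2 ^ d = r + 1 → ∀ u : M, u ≠ 0 → ∀ t ∈ St u, t * t = 1 → t = 1 := by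
    intro hdr u hu t ht htt
    by_contra ht1
    haveI : Fintype M := Fintype.ofFinite M
    have hbij : Function.Bijective fun x : N =>
        (⟨((x : H) : AutGp M) ⋅ u, fun h => hu (by
          rw [← inv_apply' ((x : H) : AutGp M) u, h, map_zero])⟩ : {w : M // w ≠ 0}) := by
      refine (Nat.bijective_iff_injective_and_card _).2 ⟨fun x y hxy => ?_, ?_⟩
      · have h1 := congrArg Subtype.val hxy
        refine Subtype.ext (inv_mul_eq_one.1 (hfree _ (N.mul_mem (N.inv_mem y.2) x.2) u hu ?_)).symm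
        show (((y : H)⁻¹ * x : H) : AutGp M) ⋅ u = u
        rw [Subgroup.coe_mul, Subgroup.coe_inv, mul_apply']
        exact (congrArg _ h1).trans (inv_apply' _ _)
      · rw [hNc, Nat.card_zpowers, hcr, Nat.card_eq_fintype_card, Fintype.card_subtype_compl,
          Fintype.card_subtype_eq, ← Nat.card_eq_fintype_card, hd, hdr]
        omega
    have hsmall : Nat.card (fixAdd (t : AutGp M)) ≤ 2 := by
      have hinj : Function.Injective fun x : fixAdd (t : AutGp M) => decide ((x : M) = 0) := by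
        intro x y hxy
        simp only [decide_eq_decide] at hxy
        have key : ∀ z : fixAdd (t : AutGp M), (z : M) ≠ 0 → (z : M) = u := fun z hz => by
          obtain ⟨x, hx⟩ := hbij.2 ⟨z, hz⟩
          obtain ⟨k, hk⟩ := (isOfFinOrder_of_finite c).mem_powers_iff_mem_zpowers.2
            (show (x : H) ∈ Subgroup.zpowers c by rw [← hNc]; exact x.2)
          have hx' : ((x : H) : AutGp M) ⋅ u = (z : M) := congrArg Subtype.val hx
          rw [show (x : H) = c ^ k from hk.symm] at hx'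
          have h0 := hinvpt u hu t ht ht1 htt k (by rw [hx']; exact z.2)
          rw [h0] at hx'
          exact hx'.symm
        by_cases hx : (x : M) = 0
        · exact Subtype.ext (hx.trans (hxy.1 hx).symm)
        · exact Subtype.ext ((key x hx).trans (key y fun h => hx (hxy.2 h)).symm)
      simpa using Nat.card_le_card_of_injective _ hinj
    have h := hfixsq t htt
    rw [hd] at h
    have h4 : 2 ^ d ≤ 4 := h.trans (Nat.mul_le_mul hsmall hsmall)
    rcases hmain with ⟨rfl, rfl⟩ | ⟨rfl, rfl⟩ | ⟨rfl, rfl⟩ <;> norm_num at h4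
  have h3St : ∀ u, ¬ 3 ∣ Nat.card (St u) := fun u h =>
    h3 (h.trans (St u).card_subgroup_dvd_card)
  rcases hmain with ⟨rfl, rfl⟩ | ⟨rfl, rfl⟩ | ⟨rfl, rfl⟩
  · -- dimension three
    refine SetBase.of_single (b := b) fun g hg hgb => ?_
    have hdvd2 : Nat.card (St b) ∣ 2 := by
      have h := hdiv b hb
      exact (((Nat.prime_three.coprime_iff_not_dvd).2 (h3St b)).symm).dvd_of_dvd_mul_right
        (show Nat.card (St b) ∣ 2 * 3 from h)
    have hsq : (⟨g, hg⟩ : H) * ⟨g, hg⟩ = 1 := by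
      have := orderOf_dvd_natCard (⟨⟨g, hg⟩, hgb⟩ : St b)
      have h' := orderOf_dvd_iff_pow_eq_one.1 (this.trans hdvd2)
      rw [pow_two] at h'
      exact congrArg Subtype.val h'
    exact congrArg Subtype.val (hnoinv (by norm_num) b hb ⟨g, hg⟩ hgb hsq)
  · -- dimension four
    obtain ⟨x₀, hx₀, hx₀b⟩ : ∃ x : M, x ≠ 0 ∧ ∀ g : H, (g : AutGp M) ⋅ b ≠ x := by
      by_contra hno
      push Not at hno
      haveI : Fintype M := Fintype.ofFinite M
      letI : MulAction H M :=
        { smul := fun g x => (g : AutGp M) ⋅ x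
          one_smul := fun x => rfl
          mul_smul := fun g g' x => rfl }
      have horb : MulAction.orbit H b = {x : M | x ≠ 0} := by
        ext x
        refine ⟨?_, fun hx => ?_⟩
        · rintro ⟨g, rfl⟩
          exact fun h0 => hb (by
            rw [← inv_apply' (g : AutGp M) b, show (g : AutGp M) ⋅ b = 0 from h0, map_zero])
        · obtain ⟨g, hg⟩ := hno x hx
          exact ⟨g, hg⟩
      have h15 : Nat.card {x : M | x ≠ 0} = 15 := by
        show Nat.card {x : M // x ≠ 0} = 15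
        rw [Nat.card_eq_fintype_card, Fintype.card_subtype_compl,
          Fintype.card_subtype_eq, ← Nat.card_eq_fintype_card, hd]
        norm_num
      refine h3 ((show 3 ∣ 15 by norm_num).trans ?_)
      rw [← h15, ← horb, Nat.card_congr (MulAction.orbitEquivQuotientStabilizer H b)]
      exact Subgroup.card_quotient_dvd_card _
    by_cases htriv : ∀ g ∈ H, g ⋅ b = b → g = 1
    · exact SetBase.of_single htriv
    push Not at htriv
    obtain ⟨g₀, hg₀, hg₀b, hg₀1⟩ := htriv
    have h4 : ∀ g ∈ St b, g ^ 4 = 1 := fun g hg => by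
      have := (orderOf_dvd_natCard (⟨g, hg⟩ : St b)).trans (hdiv b hb)
      exact congrArg Subtype.val (orderOf_dvd_iff_pow_eq_one.1 this)
    -- a power of a nontrivial element is an involution
    have hpow : ∀ g ∈ St b, g ≠ 1 → ∃ k, g ^ k ≠ 1 ∧ g ^ k * g ^ k = 1 := fun g hg hg1 => by
      by_cases h : g * g = 1
      · exact ⟨1, by rwa [pow_one], by rw [pow_one]; exact h⟩
      · exact ⟨2, by rwa [pow_two], by rw [← pow_add]; exact h4 g hg⟩
    obtain ⟨k₀, hk₀, hk₀'⟩ := hpow ⟨g₀, hg₀⟩ hg₀b (fun h => hg₀1 (congrArg Subtype.val h))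
    set t : H := (⟨g₀, hg₀⟩ : H) ^ k₀
    have htb : t ∈ St b := (St b).pow_mem hg₀b k₀
    have huniq : ∀ s ∈ St b, s ≠ 1 → s * s = 1 → s = t := by
      intro s hs hs1 hss
      have h1 := hinv b hb s hs hs1 hss
      have h5 := hinv b hb t htb hk₀ hk₀'
      have h6 : (t⁻¹ * s) * c = c * (t⁻¹ * s) := by
        rw [← mul_inv_eq_iff_eq_mul, show t⁻¹ * s * c * (t⁻¹ * s)⁻¹ = t⁻¹ * (s * c * s⁻¹) * t by
          group, h1, ← h5, show t⁻¹ * (t * c * t⁻¹) * t = c by group]
      exact (inv_mul_eq_one.1 (hcomm b hb _ ((St b).mul_mem ((St b).inv_mem htb) hs) h6)).symm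
    obtain ⟨x, hxb, htx⟩ : ∃ x : M, (∀ g : H, (g : AutGp M) ⋅ b ≠ x) ∧ (t : AutGp M) ⋅ x ≠ x := by
      by_cases h : (t : AutGp M) ⋅ x₀ = x₀
      swap
      · exact ⟨x₀, hx₀b, h⟩
      refine ⟨(c : AutGp M) ⋅ x₀, fun g hg => hx₀b (c⁻¹ * g) ?_, fun h' => ?_⟩
      · rw [Subgroup.coe_mul, Subgroup.coe_inv, mul_apply', hg, inv_apply']
      · have h0 := hinvpt x₀ hx₀ t h hk₀ hk₀' 1 (by rwa [pow_one])
        exact hc1 (by rwa [pow_one] at h0)
    refine SetBase.of_pair (b := b) (x := x) (fun g hg hgb hgx => ?_)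
      (fun g hg hgbx _ => hxb ⟨g, hg⟩ hgbx)
    by_contra hne
    obtain ⟨k, hk, hk'⟩ := hpow ⟨g, hg⟩ hgb fun h => hne (congrArg Subtype.val h)
    have := huniq _ ((St b).pow_mem hgb k) hk hk'
    refine htx ?_
    rw [← this, SubgroupClass.coe_pow]
    exact pow_fix hgx k
  · -- dimension five
    have hnone : ∀ g ∈ H, g * g = 1 → g = 1 := by
      intro g hg hgg
      by_contra hne
      have hgg' : (⟨g, hg⟩ : H) * ⟨g, hg⟩ = 1 := Subtype.ext hgg
      have h := hfixsq ⟨g, hg⟩ hgg'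
      have hcard : 1 < Nat.card (fixAdd g) := by
        by_contra h1
        push Not at h1
        have h' := h.trans (Nat.mul_le_mul h1 h1)
        rw [hd] at h'
        norm_num at h'
      haveI := (Finite.one_lt_card_iff_nontrivial).1 hcard
      obtain ⟨u, hu⟩ := exists_ne (0 : fixAdd g)
      exact hne (congrArg Subtype.val (hnoinv (by norm_num) (u : M)
        (fun h => hu (Subtype.ext h)) ⟨g, hg⟩ u.2 hgg'))
    by_cases htriv : ∀ g ∈ H, g ⋅ b = b → g = 1
    · exact SetBase.of_single htriv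
    push Not at htriv
    obtain ⟨g₀, hg₀, hg₀b, hg₀1⟩ := htriv
    obtain ⟨x, hx⟩ : ∃ x : M, g₀ ⋅ x ≠ x := by
      by_contra h; push Not at h; exact hg₀1 (eq_one_of_forall h)
    have hcard5 : Nat.card (St b) = 5 := by
      have h30 : Nat.card (St b) ∣ 30 := hdiv b hb
      have hodd : ¬ 2 ∣ Nat.card (St b) := fun h => by
        haveI := Fact.mk Nat.prime_two
        obtain ⟨z, hz⟩ := exists_prime_orderOf_dvd_card' 2 h
        have hz2 : ((z : H) : AutGp M) * ((z : H) : AutGp M) = 1 := by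
          have := pow_orderOf_eq_one z
          rw [hz, pow_two] at this
          exact congrArg (fun w : St b => ((w : H) : AutGp M)) this
        have h1 : z = 1 := Subtype.ext (Subtype.ext (hnone _ (z : H).2 hz2))
        rw [h1, orderOf_one] at hz
        omega
      have hne1 : Nat.card (St b) ≠ 1 := fun h => hg₀1 (by
        haveI := (Nat.card_eq_one_iff_unique.1 h).1
        exact congrArg (fun w : St b => ((w : H) : AutGp M))
          (Subsingleton.elim (⟨⟨g₀, hg₀⟩, hg₀b⟩ : St b) 1))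
      have h3' := h3St b
      have hle := Nat.le_of_dvd (by norm_num) h30
      have key : ∀ n ≤ 30, n ∣ 30 → ¬ 2 ∣ n → ¬ 3 ∣ n → n ≠ 1 → n = 5 := by decide
      exact key _ hle h30 hodd h3' hne1
    refine SetBase.of_pair (b := b) (x := x) (fun g hg hgb hgx => ?_) (fun g hg h1 h5 => ?_)
    all_goals haveI := Fact.mk (show Nat.Prime 5 by norm_num)
    · by_contra hne
      have hmem : (⟨⟨g₀, hg₀⟩, hg₀b⟩ : St b) ∈ Subgroup.zpowers (⟨⟨g, hg⟩, hgb⟩ : St b) :=
        mem_zpowers_of_prime_card hcard5 fun h =>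
          hne (congrArg (fun w : St b => ((w : H) : AutGp M)) h)
      obtain ⟨k, hk⟩ := (isOfFinOrder_of_finite _).mem_powers_iff_mem_zpowers.2 hmem
      have hk' : g ^ k = g₀ := congrArg (fun w : St b => ((w : H) : AutGp M)) hk
      exact hx (by rw [← hk']; exact pow_fix hgx k)
    · -- a transposition squares to the identity
      have hgg : g * g = 1 := by
        by_contra hne
        have hb2 : (g * g) ⋅ b = b := by rw [mul_apply', h1, h5]
        have hx2 : (g * g) ⋅ x = x := by rw [mul_apply', h5, h1]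
        have hmem : (⟨⟨g₀, hg₀⟩, hg₀b⟩ : St b) ∈
            Subgroup.zpowers (⟨⟨g * g, H.mul_mem hg hg⟩, hb2⟩ : St b) :=
          mem_zpowers_of_prime_card hcard5 fun h =>
            hne (congrArg (fun w : St b => ((w : H) : AutGp M)) h)
        obtain ⟨k, hk⟩ := (isOfFinOrder_of_finite _).mem_powers_iff_mem_zpowers.2 hmem
        have hk' : (g * g) ^ k = g₀ := congrArg (fun w : St b => ((w : H) : AutGp M)) hk
        exact hx (by rw [← hk']; exact pow_fix hx2 k)
      rw [hnone g hg hgg] at h1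
      exact hx (by rw [← h1]; exact hg₀b)

end CfsgLib.BaseTwo73
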