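import Cfsg.Agent.BaseTwo73.Defs

/-!
# The decomposition along a singular element
-/

set_option autoImplicit false
set_option linter.style.haveILetI false

namespace CfsgLib.BaseTwo73

open CfsgLib.RegOrbit

universe v u

variable {V : Type v} [AddCommGroup V] [Finite V] {K : Type u} [Field K] [Module K V]
  {G E : Subgroup (AutGp V)}

local notation:80 a " ⋅ " v:81 => ((a : AutGp _) : AddMonoid.End _) v

/-- An element `l` of prime order `r` with fixed vectors and a partner `h` moving it by a root of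
unity. -/
structure Split (s : Sys K G E) where
  l : AutGp V
  hl : l ∈ E
  r : ℕ
  hr : r.Prime
  pow_r : l ^ r = 1
  ne_one : l ≠ 1
  w₀ : V
  w₀_ne : w₀ ≠ 0
  w₀_fix : l ⋅ w₀ = w₀
  h : AutGp V
  hh : h ∈ E
  ω : K
  ω_ne : ω ≠ 1
  swap : ∀ v : V, l ⋅ (h ⋅ v) = ω • h ⋅ (l ⋅ v)

/-- The group is fixed point free. -/
def Fpf (E : Subgroup (AutGp V)) : Prop :=
  ∀ e ∈ E, ∀ v : V, v ≠ 0 → e ⋅ v = v → e = 1

theorem exists_split (s : Sys K G E) (hE : ¬ Fpf E) : Nonempty (Split s) := by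
  classical
  simp only [Fpf, not_forall] at hE
  obtain ⟨e, he, v, hv, hev, he1⟩ := hE
  have hn1 : orderOf e ≠ 1 := fun h => he1 (orderOf_eq_one_iff.1 h)
  obtain ⟨r, hr, j, hj⟩ := Nat.exists_prime_and_dvd hn1
  have hpos : 0 < orderOf e := orderOf_pos e
  set l := e ^ j with hl
  have hlr : l ^ r = 1 := by rw [hl, ← pow_mul, mul_comm, ← hj, pow_orderOf_eq_one]
  have hl1 : l ≠ 1 := fun h => by
    have h1 := Nat.le_of_dvd (Nat.pos_of_ne_zero (fun h0 => by rw [h0, mul_zero] at hj; omega))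
      (orderOf_dvd_of_pow_eq_one h)
    have := hr.two_le
    rcases j with _ | j
    · simp at hj; omega
    · rw [hj] at h1; nlinarith
  have hlv : l ⋅ v = v := pow_fix hev j
  by_cases hc : ∀ y ∈ E, l * y = y * l
  · obtain ⟨t, ht⟩ := s.rad l (E.pow_mem he j) hc
    exfalso
    refine hl1 (ext' fun w => ?_)
    rw [ht, one_apply']
    have h1 : t • v = (1 : K) • v := by rw [← ht, hlv, one_smul]
    rw [smul_left_injective K hv h1, one_smul]
  · push Not at hc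
    obtain ⟨y, hy, hly⟩ := hc
    obtain ⟨t, ht⟩ := s.comm l (E.pow_mem he j) y hy
    exact ⟨⟨l, E.pow_mem he j, r, hr, hlr, hl1, v, hv, hlv, y, hy, t,
      fun h1 => hly (mul_comm_iff.2 fun w => by rw [ht, h1, one_smul]), ht⟩⟩

variable {s : Sys K G E} (D : Split s)

include D

theorem Split.nontrivial : Nontrivial V := nontrivial_of_ne _ _ D.w₀_ne

theorem Split.ω_pow : D.ω ^ D.r = 1 := by
  have h := s.pow_swap' D.hl D.hh D.swap D.r D.w₀
  rw [D.pow_r, one_apply', one_apply'] at h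
  exact smul_left_injective K (map_ne_zero' D.h D.w₀_ne) (h.symm.trans (one_smul K _).symm)

theorem Split.prim : IsPrimitiveRoot D.ω D.r :=
  IsPrimitiveRoot.mk_of_lt _ D.hr.pos D.ω_pow fun i hi0 hi h => by
    have h1 : orderOf D.ω ∣ Nat.gcd i D.r :=
      Nat.dvd_gcd (orderOf_dvd_of_pow_eq_one h) (orderOf_dvd_of_pow_eq_one D.ω_pow)
    rw [((D.hr.coprime_iff_not_dvd.2 (Nat.not_dvd_of_pos_of_lt hi0 hi)).symm).gcd_eq_one,
      Nat.dvd_one, orderOf_eq_one_iff] at h1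
    exact D.ω_ne h1

theorem Split.ω_ne_zero : D.ω ≠ 0 := D.prim.ne_zero D.hr.ne_zero

theorem Split.r_ne_zero : (D.r : K) ≠ 0 := by
  haveI : NeZero D.r := ⟨D.hr.ne_zero⟩
  exact D.prim.neZero'.out

theorem Split.exists_index {y : AutGp V} (hy : y ∈ E) :
    ∃ i < D.r, ∀ v : V, D.l ⋅ (y ⋅ v) = D.ω ^ i • y ⋅ (D.l ⋅ v) := by
  obtain ⟨t, ht⟩ := s.comm D.l D.hl y hy
  have h := s.pow_swap' D.hl hy ht D.r D.w₀
  rw [D.pow_r, one_apply', one_apply'] at h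
  have h1 : t ^ D.r = 1 :=
    smul_left_injective K (map_ne_zero' y D.w₀_ne) (h.symm.trans (one_smul K _).symm)
  haveI : NeZero D.r := ⟨D.hr.ne_zero⟩
  obtain ⟨i, hi, rfl⟩ := D.prim.eq_pow_of_pow_eq_one h1
  exact ⟨i, hi, ht⟩

/-- The centralizer of `l` in `E`. -/
def Split.M : Subgroup (AutGp V) := E ⊓ Subgroup.centralizer ({D.l} : Set (AutGp V))

theorem Split.mem_M {m : AutGp V} :
    m ∈ D.M ↔ m ∈ E ∧ ∀ v : V, D.l ⋅ (m ⋅ v) = m ⋅ (D.l ⋅ v) := by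
  rw [Split.M, Subgroup.mem_inf, Subgroup.mem_centralizer_singleton_iff, ← mul_comm_iff, eq_comm]

theorem Split.mem_M_of_fix {e : AutGp V} (he : e ∈ E) {w : V} (hw : w ≠ 0)
    (hlw : D.l ⋅ w = w) (hew : D.l ⋅ (e ⋅ w) = e ⋅ w) : e ∈ D.M := by
  obtain ⟨t, ht⟩ := s.comm D.l D.hl e he
  have h := ht w
  rw [hlw, hew] at h
  have h1 : t = 1 :=
    smul_left_injective K (map_ne_zero' e hw) (h.symm.trans (one_smul K _).symm)
  exact D.mem_M.2 ⟨he, fun v => by rw [ht, h1, one_smul]⟩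

theorem Split.h_pow_mem : D.h ^ D.r ∈ D.M :=
  D.mem_M.2 ⟨E.pow_mem D.hh _, fun v => by
    rw [s.pow_swap D.hl D.hh D.swap, D.ω_pow, one_smul]⟩

theorem Split.exists_mul {y : AutGp V} (hy : y ∈ E) : ∃ k : ℕ, ∃ m ∈ D.M, y = D.h ^ k * m := by
  obtain ⟨i, -, hi⟩ := D.exists_index hy
  refine ⟨i, (D.h ^ i)⁻¹ * y, D.mem_M.2 ⟨E.mul_mem (E.inv_mem (E.pow_mem D.hh i)) hy, fun v => ?_⟩,
    (mul_inv_cancel_left _ _).symm⟩
  apply inj' (D.h ^ i)
  apply smul_right_injective V (pow_ne_zero i D.ω_ne_zero)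
  show D.ω ^ i • (D.h ^ i) ⋅ (D.l ⋅ (((D.h ^ i)⁻¹ * y) ⋅ v)) = _
  rw [← s.pow_swap D.hl D.hh D.swap, mul_apply', apply_inv', hi]
  show _ = D.ω ^ i • (D.h ^ i) ⋅ (((D.h ^ i)⁻¹ * y) ⋅ (D.l ⋅ v))
  rw [mul_apply', apply_inv']

theorem Split.commute_all {x : AutGp V} (hxh : x * D.h = D.h * x)
    (hxM : ∀ m ∈ D.M, x * m = m * x) {y : AutGp V} (hy : y ∈ E) : x * y = y * x := by
  obtain ⟨k, m, hm, rfl⟩ := D.exists_mul hy
  exact (((show Commute x D.h from hxh).pow_right k).mul_right (hxM m hm)).eq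

/-- The fixed space of `l`. -/
def Split.W : Submodule K V where
  carrier := {v | D.l ⋅ v = v}
  zero_mem' := map_zero _
  add_mem' := fun {a b} (ha : _ = a) (hb : _ = b) => show _ = _ by rw [map_add, ha, hb]
  smul_mem' := fun t v (hv : _ = v) => show _ = _ by rw [s.lin D.l D.hl, hv]

theorem Split.mem_W {v : V} : v ∈ D.W ↔ D.l ⋅ v = v := Iff.rfl

theorem Split.M_maps {m : AutGp V} (hm : m ∈ D.M) {v : V} (hv : v ∈ D.W) : m ⋅ v ∈ D.W := by
  rw [D.mem_W, (D.mem_M.1 hm).2, hv]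

theorem Split.card_lt : Nat.card D.W < Nat.card V := by
  have h : D.W.toAddSubgroup ≠ ⊤ := fun h => D.ne_one (eq_one_of_forall fun v =>
    (show v ∈ D.W.toAddSubgroup by rw [h]; exact AddSubgroup.mem_top v))
  exact natCard_lt_of_ne_top h

theorem Split.pow_eigen {c : V} (hc : c ∈ D.W) (k : ℕ) :
    D.l ⋅ ((D.h ^ k) ⋅ c) = D.ω ^ k • (D.h ^ k) ⋅ c := by
  rw [s.pow_swap D.hl D.hh D.swap, hc]

theorem Split.h_eigen {c : V} (hc : c ∈ D.W) : D.l ⋅ (D.h ⋅ c) = D.ω • D.h ⋅ c := by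
  rw [D.swap, hc]

theorem Split.l_pow_eigen {ν : K} {x : V} (hx : D.l ⋅ x = ν • x) (j : ℕ) :
    (D.l ^ j) ⋅ x = ν ^ j • x := by
  induction j with
  | zero => rw [pow_zero, pow_zero, one_smul]; rfl
  | succ j ih => rw [pow_succ', mul_apply', ih, s.lin _ D.hl, hx, smul_smul, ← pow_succ]

theorem Split.eigen_pow_r {ν : K} {x : V} (hx0 : x ≠ 0) (hx : D.l ⋅ x = ν • x) : ν ^ D.r = 1 := by
  have h := D.l_pow_eigen hx D.r
  rw [D.pow_r, one_apply'] at h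
  exact smul_left_injective K hx0 (h.symm.trans (one_smul K x).symm)

/-- The projection to an eigenspace, up to the factor `r`. -/
noncomputable def Split.proj (ν : K) : V →+ V :=
  ∑ j ∈ Finset.range D.r, (DistribSMul.toAddMonoidHom V (ν⁻¹ ^ j)).comp
    ((D.l ^ j : AutGp V) : AddMonoid.End V)

theorem Split.proj_apply (ν : K) (v : V) :
    D.proj ν v = ∑ j ∈ Finset.range D.r, ν⁻¹ ^ j • (D.l ^ j) ⋅ v := by
  rw [Split.proj, AddMonoidHom.finsetSum_apply]; rfl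

theorem Split.proj_self {ν : K} (hν : ν ≠ 0) {x : V} (hx : D.l ⋅ x = ν • x) :
    D.proj ν x = (D.r : K) • x := by
  rw [D.proj_apply]
  simp only [D.l_pow_eigen hx, smul_smul, ← mul_pow, inv_mul_cancel₀ hν, one_pow, one_smul]
  rw [Finset.sum_const, Finset.card_range, Nat.cast_smul_eq_nsmul]

theorem Split.proj_other {ν ν' : K} (hν : ν ^ D.r = 1) {x : V} (hx : D.l ⋅ x = ν' • x)
    (hne : ν' ≠ ν) : D.proj ν x = 0 := by
  by_cases hx0 : x = 0
  · rw [hx0, map_zero]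
  have hν0 : ν ≠ 0 := fun h => by rw [h, zero_pow D.hr.ne_zero] at hν; exact zero_ne_one hν
  rw [D.proj_apply]
  simp only [D.l_pow_eigen hx, smul_smul, ← mul_pow, ← Finset.sum_smul]
  have h1 : (ν⁻¹ * ν') ^ D.r = 1 := by
    rw [mul_pow, inv_pow, hν, D.eigen_pow_r hx0 hx, inv_one, one_mul]
  rw [geom_sum_eq (fun h => hne ((inv_mul_eq_one₀ hν0).1 h).symm), h1, sub_self, zero_div, zero_smul]

/-- Every vector is a sum of translates of fixed vectors. -/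
theorem Split.decomp (v : V) :
    ∃ c : ℕ → V, (∀ k, c k ∈ D.W) ∧ v = ∑ k ∈ Finset.range D.r, (D.h ^ k) ⋅ c k := by
  have hr0 := D.r_ne_zero
  let c : ℕ → V := fun k => (D.r : K)⁻¹ • (D.h ^ k)⁻¹ ⋅ (D.proj (D.ω ^ k) v)
  refine ⟨c, fun k => D.W.smul_mem _ (D.mem_W.2 ?_), ?_⟩
  · set ν := D.ω ^ k with hν
    have hν0 : ν ≠ 0 := pow_ne_zero k D.ω_ne_zero
    have heig : D.l ⋅ (D.proj ν v) = ν • D.proj ν v := by
      rw [D.proj_apply, map_sum, Finset.smul_sum]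
      set f : ℕ → V := fun j => ν • ν⁻¹ ^ j • (D.l ^ j) ⋅ v with hf
      have h1 : ∀ j, D.l ⋅ (ν⁻¹ ^ j • (D.l ^ j) ⋅ v) = f (j + 1) := fun j => by
        simp only [hf]
        rw [s.lin _ D.hl, ← mul_apply', ← pow_succ', smul_smul, pow_succ' ν⁻¹, ← mul_assoc,
          mul_inv_cancel₀ hν0, one_mul]
      simp only [h1]
      have h2 := Finset.sum_range_succ' f D.r
      rw [Finset.sum_range_succ] at h2
      have h3 : f D.r = f 0 := by
        simp only [hf, D.pow_r, pow_zero]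
        rw [inv_pow, hν, ← pow_mul, mul_comm, pow_mul, D.ω_pow, one_pow, inv_one]
      rw [h3] at h2
      exact (add_right_cancel h2).symm
    apply inj' (D.h ^ k)
    apply smul_right_injective V hν0
    show ν • (D.h ^ k) ⋅ (D.l ⋅ ((D.h ^ k)⁻¹ ⋅ D.proj ν v)) = _
    rw [← s.pow_swap D.hl D.hh D.swap, apply_inv', heig]
  · have h1 : ∀ k, (D.h ^ k) ⋅ c k = (D.r : K)⁻¹ • D.proj (D.ω ^ k) v := fun k => by
      rw [s.lin _ (E.pow_mem D.hh k), apply_inv']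
    simp only [h1, ← Finset.smul_sum]
    have h2 : ∑ k ∈ Finset.range D.r, D.proj (D.ω ^ k) v = (D.r : K) • v := by
      simp only [D.proj_apply]
      rw [Finset.sum_comm]
      simp only [← Finset.sum_smul]
      rw [Finset.sum_eq_single 0]
      · simp
      · intro j hj hj0
        have hne : (D.ω ^ j)⁻¹ ≠ 1 := fun h =>
          D.prim.pow_ne_one_of_pos_of_lt hj0 (Finset.mem_range.1 hj) (inv_eq_one.1 h)
        have h3 : ∀ k, ((D.ω ^ k)⁻¹) ^ j = ((D.ω ^ j)⁻¹) ^ k := fun k => by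
          rw [inv_pow, inv_pow, ← pow_mul, ← pow_mul, mul_comm]
        simp only [h3]
        rw [geom_sum_eq hne, inv_pow, ← pow_mul, mul_comm, pow_mul, D.ω_pow, one_pow, inv_one,
          sub_self, zero_div, zero_smul]
      · exact fun h => absurd (Finset.mem_range.2 D.hr.pos) h
    rw [h2, inv_smul_smul₀ hr0]

theorem Split.eq_one_of_translates {a : AutGp V}
    (h : ∀ k < D.r, ∀ c ∈ D.W, a ⋅ ((D.h ^ k) ⋅ c) = (D.h ^ k) ⋅ c) : a = 1 :=
  eq_one_of_forall fun v => by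
    obtain ⟨c, hc, rfl⟩ := D.decomp v
    rw [map_sum]
    exact Finset.sum_congr rfl fun k hk => h k (Finset.mem_range.1 hk) _ (hc k)

/-- An element of `E` acting as a scalar on the fixed space is a scalar times a power of `l`. -/
theorem Split.exists_scalar_pow {u : AutGp V} (hu : u ∈ D.M)
    (hcomm : ∀ m ∈ D.M, ∀ v ∈ D.W, u ⋅ (m ⋅ v) = m ⋅ (u ⋅ v)) :
    ∃ (t : K) (k : ℕ), ∀ v : V, u ⋅ v = t • (D.l ^ k) ⋅ v := by
  haveI := D.nontrivial
  have huE := (D.mem_M.1 hu).1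
  have huM : ∀ m ∈ D.M, u * m = m * u := by
    intro m hm
    obtain ⟨t, ht⟩ := s.comm u huE m (D.mem_M.1 hm).1
    refine (s.comm_iff huE (D.mem_M.1 hm).1 ht).2 ?_
    have h1 := ht D.w₀
    rw [hcomm m hm _ D.w₀_fix] at h1
    exact smul_left_injective K (map_ne_zero' m (map_ne_zero' u D.w₀_ne))
      (h1.symm.trans (one_smul K _).symm)
  obtain ⟨η, hη⟩ := s.comm u huE D.h D.hh
  have h1 : η ^ D.r = 1 := by
    have h2 := s.pow_swap huE D.hh hη D.r D.w₀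
    rw [mul_comm_iff.1 (huM _ D.h_pow_mem) D.w₀] at h2
    exact smul_left_injective K (map_ne_zero' _ (map_ne_zero' u D.w₀_ne))
      (h2.symm.trans (one_smul K _).symm)
  haveI : NeZero D.r := ⟨D.hr.ne_zero⟩
  obtain ⟨k, -, rfl⟩ := D.prim.eq_pow_of_pow_eq_one h1
  set x := (D.l ^ k)⁻¹ * u with hx
  have hxE : x ∈ E := E.mul_mem (E.inv_mem (E.pow_mem D.hl k)) huE
  have hxh : x * D.h = D.h * x := by
    refine mul_comm_iff.2 fun v => inj' (D.l ^ k) ?_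
    rw [hx, mul_apply', apply_inv', hη, s.pow_swap' D.hl D.hh D.swap, mul_apply', apply_inv']
  have hxM : ∀ m ∈ D.M, x * m = m * x := fun m hm => by
    have h3 : Commute (D.l ^ k) m :=
      Commute.pow_left (mul_comm_iff.2 (D.mem_M.1 hm).2 : D.l * m = m * D.l) k
    exact (h3.inv_left.mul_left (huM m hm)).eq
  obtain ⟨t, ht⟩ := s.rad x hxE fun y hy => D.commute_all hxh hxM hy
  refine ⟨t, k, fun v => ?_⟩
  rw [← s.lin _ (E.pow_mem D.hl k), ← ht, hx, mul_apply', apply_inv']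

/-- An element of `E` fixing the fixed space is a power of `l`. -/
theorem Split.exists_pow_of_fix {u : AutGp V} (hu : u ∈ E) (hfix : ∀ v ∈ D.W, u ⋅ v = v) :
    ∃ k : ℕ, u = D.l ^ k := by
  have huM : u ∈ D.M := D.mem_M_of_fix hu D.w₀_ne D.w₀_fix (by rw [hfix _ D.w₀_fix]; exact D.w₀_fix)
  obtain ⟨t, k, ht⟩ := D.exists_scalar_pow huM fun m hm v hv => by
    rw [hfix v hv, hfix _ (D.M_maps hm hv)]
  refine ⟨k, ext' fun v => ?_⟩
  have h1 := ht D.w₀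
  rw [hfix _ D.w₀_fix, pow_fix D.w₀_fix] at h1
  rw [ht, smul_left_injective K D.w₀_ne (h1.symm.trans (one_smul K _).symm), one_smul]

/-- The normalizer of the group generated by `l`. -/
def Split.H : Subgroup (AutGp V) :=
  G ⊓ Subgroup.normalizer ((Subgroup.zpowers D.l : Subgroup (AutGp V)) : Set (AutGp V))

theorem Split.fix_zpowers {g : AutGp V} (hg : g ∈ Subgroup.zpowers D.l) {v : V} (hv : v ∈ D.W) :
    g ⋅ v = v := by
  obtain ⟨k, rfl⟩ := (isOfFinOrder_of_finite D.l).mem_powers_iff_mem_zpowers.2 hg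
  exact pow_fix hv k

theorem Split.H_maps {a : AutGp V} (ha : a ∈ D.H) {v : V} (hv : v ∈ D.W) : a ⋅ v ∈ D.W := by
  have h := (Subgroup.mem_normalizer_iff.1 ((D.H).inv_mem ha).2 D.l).1 (Subgroup.mem_zpowers D.l)
  rw [inv_inv] at h
  rw [D.mem_W, ← mul_apply', show D.l * a = a * (a⁻¹ * D.l * a) by group, mul_apply',
    D.fix_zpowers h hv]

theorem Split.M_le_H : D.M ≤ D.H := by
  intro m hm
  refine ⟨s.le (D.mem_M.1 hm).1, ?_⟩
  exact Subgroup.centralizer_le_normalizer _ (Subgroup.mem_centralizer_iff.2 fun x hx => by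
    obtain ⟨k, rfl⟩ := Subgroup.mem_zpowers_iff.1 hx
    exact ((show Commute D.l m from mul_comm_iff.2 (D.mem_M.1 hm).2).zpow_left k).eq)

/-- Restriction to the fixed space. -/
def Split.res : D.H →* AutGp D.W :=
  MonoidHom.toHomUnits
    { toFun := fun a => AddMonoidHom.mk' (fun v => ⟨(a : AutGp V) ⋅ (v : V), D.H_maps a.2 v.2⟩)
        fun v w => Subtype.ext (map_add ((a : AutGp V) : AddMonoid.End V) _ _)
      map_one' := AddMonoidHom.ext fun _ => Subtype.ext rfl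
      map_mul' := fun _ _ => AddMonoidHom.ext fun _ => Subtype.ext rfl }

theorem Split.res_apply (a : D.H) (v : D.W) :
    (((D.res a : AutGp D.W) : AddMonoid.End D.W) v : V) = (a : AutGp V) ⋅ (v : V) := rfl

/-- The group induced on the fixed space. -/
def Split.G₁ : Subgroup (AutGp D.W) := D.res.range

/-- The group of symplectic type induced on the fixed space. -/
def Split.E₁ : Subgroup (AutGp D.W) := (D.M.subgroupOf D.H).map D.res

theorem Split.mem_G₁ {b : AutGp D.W} :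
    b ∈ D.G₁ ↔ ∃ a, ∃ ha : a ∈ D.H, D.res ⟨a, ha⟩ = b :=
  ⟨fun ⟨a, ha⟩ => ⟨a.1, a.2, ha⟩, fun ⟨a, ha, h⟩ => ⟨⟨a, ha⟩, h⟩⟩

theorem Split.mem_E₁ {b : AutGp D.W} :
    b ∈ D.E₁ ↔ ∃ m, ∃ hm : m ∈ D.M, D.res ⟨m, D.M_le_H hm⟩ = b :=
  ⟨fun ⟨a, ha, h⟩ => ⟨a.1, ha, h⟩, fun ⟨m, hm, h⟩ => ⟨⟨m, D.M_le_H hm⟩, hm, h⟩⟩

theorem Split.sys : Sys K D.G₁ D.E₁ := by
  refine ⟨?_, ?_, ?_, ?_, ?_, ?_, ?_, ?_⟩
  · rintro _ ⟨a, -, rfl⟩; exact ⟨a, rfl⟩
  · rintro _ ⟨a, rfl⟩ _ ⟨m, hm, rfl⟩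
    refine ⟨a * m * a⁻¹, ?_, by rw [map_mul, map_mul, map_inv]⟩
    have hm' := D.mem_M.1 hm
    have hE : (a : AutGp V) * m * (a : AutGp V)⁻¹ ∈ E := s.norm _ a.2.1 _ hm'.1
    refine D.mem_M_of_fix hE D.w₀_ne D.w₀_fix ?_
    exact D.H_maps (a * m * a⁻¹ : D.H).2 D.w₀_fix
  · refine Nat.Coprime.coprime_dvd_right
      (AddSubgroup.card_addSubgroup_dvd_card D.W.toAddSubgroup) (Nat.Coprime.coprime_dvd_left ?_ s.cop)
    exact (Subgroup.card_range_dvd D.res).trans (Subgroup.card_dvd_of_le inf_le_left)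
  · rintro _ ⟨a, rfl⟩ t
    obtain ⟨t', ht⟩ := s.semi _ a.2.1 t
    exact ⟨t', fun v => Subtype.ext (ht v)⟩
  · rintro _ ⟨m, hm, rfl⟩ t v
    exact Subtype.ext (s.lin _ (D.mem_M.1 hm).1 t v)
  · intro t ht
    obtain ⟨z, hz, hzv⟩ := s.scal t ht
    have hzM : z ∈ D.M := D.mem_M.2 ⟨hz, fun v => by rw [hzv, hzv, s.lin _ D.hl]⟩
    exact ⟨_, D.mem_E₁.2 ⟨z, hzM, rfl⟩, fun v => Subtype.ext (hzv v)⟩
  · rintro _ ⟨x, hx, rfl⟩ _ ⟨y, hy, rfl⟩
    obtain ⟨t, ht⟩ := s.comm _ (D.mem_M.1 hx).1 _ (D.mem_M.1 hy).1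
    exact ⟨t, fun v => Subtype.ext (ht v)⟩
  · rintro _ ⟨x, hx, rfl⟩ hcomm
    obtain ⟨t, k, ht⟩ := D.exists_scalar_pow hx fun m hm v hv => by
      exact congrArg Subtype.val (mul_comm_iff.1 (hcomm _ (D.mem_E₁.2 ⟨m, hm, rfl⟩)) ⟨v, hv⟩)
    refine ⟨t, fun v => Subtype.ext ?_⟩
    show (x : AutGp V) ⋅ (v : V) = t • (v : V)
    exact (ht _).trans (congrArg (t • ·) (pow_fix v.2 k))

/-- An element of `E` fixing a generic vector of the fixed space fixes that space. -/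
theorem Split.fix_of_gen {w : D.W} (hw : Gen D.E₁ w) (hw0 : w ≠ 0) {e : AutGp V} (he : e ∈ E)
    (hew : e ⋅ (w : V) = w) : e ∈ D.M ∧ ∀ v ∈ D.W, e ⋅ v = v := by
  have heM : e ∈ D.M := D.mem_M_of_fix he (fun h => hw0 (Subtype.ext h)) w.2 (by rw [hew]; exact w.2)
  refine ⟨heM, fun v hv => ?_⟩
  have h := hw _ (D.mem_E₁.2 ⟨e, heM, rfl⟩) (Subtype.ext hew)
  exact congrArg (fun b : AutGp D.W => (((b : AddMonoid.End D.W) ⟨v, hv⟩ : D.W) : V)) h

end CfsgLib.BaseTwo73
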