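import Cfsg.Agent.BaseTwo73.Split

/-!
# Two vectors from two vectors of the fixed space
-/

set_option autoImplicit false
set_option linter.style.haveILetI false

namespace CfsgLib.BaseTwo73

open CfsgLib.RegOrbit

universe v u

variable {V : Type v} [AddCommGroup V] [Finite V] {K : Type u} [Field K] [Module K V]
  {G E : Subgroup (AutGp V)} {s : Sys K G E} (D : Split s)

local notation:80 a " ⋅ " v:81 => ((a : AutGp _) : AddMonoid.End _) v

include D

theorem Split.cancel {x y : V} (h : (D.r : K) • x = (D.r : K) • y) : x = y :=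
  smul_right_injective V D.r_ne_zero h

theorem Split.mem_H_of_fix {w : D.W} (hg : Gen D.E₁ w) (hw0 : w ≠ 0) {a : AutGp V} (ha : a ∈ G)
    (haw : a ⋅ (w : V) = w) : a ∈ D.H := by
  have key : ∀ b : AutGp V, b ∈ G → b ⋅ (w : V) = w → ∀ x ∈ Subgroup.zpowers D.l,
      b * x * b⁻¹ ∈ Subgroup.zpowers D.l := by
    intro b hb hbw x hx
    obtain ⟨i, rfl⟩ := Subgroup.mem_zpowers_iff.1 hx
    have he : b * D.l * b⁻¹ ∈ E := s.norm b hb _ D.hl
    obtain ⟨k, hk⟩ := D.exists_pow_of_fix he (D.fix_of_gen hg hw0 he (by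
      rw [mul_apply', mul_apply', inv_fix hbw, show D.l ⋅ (w : V) = w from w.2, hbw])).2
    rw [← conj_zpow, hk]
    exact zpow_mem (pow_mem (Subgroup.mem_zpowers _) k) i
  refine ⟨ha, Subgroup.mem_normalizer_iff.2 fun x => ⟨key a ha haw x, fun hx => ?_⟩⟩
  have h := key a⁻¹ (G.inv_mem ha) (inv_fix haw) _ hx
  rwa [inv_inv, show a⁻¹ * (a * x * a⁻¹) * a = x by group] at h

theorem Split.moved {a : AutGp V} (ha : a ∈ D.H) :
    ∃ j : ℕ, ¬ D.r ∣ j ∧ ∀ x : V, D.l ⋅ (a ⋅ x) = a ⋅ ((D.l ^ j) ⋅ x) := by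
  have h := (Subgroup.mem_normalizer_iff.1 ((D.H).inv_mem ha).2 D.l).1 (Subgroup.mem_zpowers D.l)
  rw [inv_inv] at h
  obtain ⟨j, hj⟩ := (isOfFinOrder_of_finite D.l).mem_powers_iff_mem_zpowers.2 h
  simp only at hj
  refine ⟨j, fun ⟨c, hc⟩ => D.ne_one ?_, fun x => ?_⟩
  · rw [hc, pow_mul, D.pow_r, one_pow] at hj
    calc D.l = a * (a⁻¹ * D.l * a) * a⁻¹ := by group
      _ = 1 := by rw [← hj, mul_one, mul_inv_cancel]
  · rw [hj, ← mul_apply', ← mul_apply']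
    congr 2
    group

theorem Split.fix_W {w u : D.W} (hp : Pair D.G₁ w u) {a : AutGp V} (ha : a ∈ D.H)
    (h1 : a ⋅ (w : V) = w) (h2 : a ⋅ (u : V) = u) : ∀ v ∈ D.W, a ⋅ v = v := fun v hv => by
  have h := hp _ (D.mem_G₁.2 ⟨a, ha, rfl⟩) (Subtype.ext h1) (Subtype.ext h2)
  exact congrArg (fun b : AutGp D.W => (((b : AddMonoid.End D.W) ⟨v, hv⟩ : D.W) : V)) h

theorem Split.ω_pow_ne {j : ℕ} (hj : ¬ D.r ∣ j) : D.ω ^ j ≠ 1 := fun h =>
  hj ((D.prim.pow_eq_one_iff_dvd j).1 h)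

theorem Split.smul_W_ne {w : D.W} (hw0 : w ≠ 0) {t : K} (ht : t ≠ 0) : t • (w : V) ≠ 0 :=
  smul_ne_zero ht fun h => hw0 (Subtype.ext h)

/-- The case of an involution. -/
theorem Split.pair_two (hr : D.r = 2) {w u : D.W} (hp : Pair D.G₁ w u) (hg : Gen D.E₁ w)
    (hw0 : w ≠ 0) {lam : K} (hlam : lam ≠ 0) :
    Pair G (w : V) ((u : V) + D.h ⋅ (lam • (w : V))) := by
  intro a ha h1 h2
  have haH := D.mem_H_of_fix hg hw0 ha h1
  obtain ⟨j, hj, hmove⟩ := D.moved haH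
  set x := D.h ⋅ (lam • (w : V)) with hx
  have hx0 : x ≠ 0 := map_ne_zero' _ (D.smul_W_ne hw0 hlam)
  have hxe : D.l ⋅ x = D.ω • x := D.h_eigen (D.W.smul_mem lam w.2)
  obtain ⟨t, ht⟩ := s.semi a ha (D.ω ^ j)
  have hax : D.l ⋅ (a ⋅ x) = t • a ⋅ x := by rw [hmove, D.l_pow_eigen hxe, ht]
  have ht1 : t ≠ 1 := fun h => D.ω_pow_ne hj (smul_left_injective K hx0 (by
    refine inj' a ?_
    show a ⋅ (D.ω ^ j • x) = a ⋅ ((1 : K) • x)
    rw [ht, h, one_smul, one_smul]))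
  have hau : D.l ⋅ (a ⋅ (u : V)) = (1 : K) • a ⋅ (u : V) := by
    rw [one_smul]; exact D.H_maps haH u.2
  have hu1 : D.l ⋅ (u : V) = (1 : K) • (u : V) := by rw [one_smul]; exact u.2
  have hsum : a ⋅ (u : V) + a ⋅ x = (u : V) + x := by rw [← map_add]; exact h2
  have hP := congrArg (D.proj 1) hsum
  rw [map_add, map_add, D.proj_self one_ne_zero hau, D.proj_other (one_pow _) hax ht1,
    D.proj_self one_ne_zero hu1, D.proj_other (one_pow _) hxe D.ω_ne, add_zero, add_zero] at hP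
  have hau' := D.cancel hP
  have hW := D.fix_W hp haH h1 hau'
  have hlin := s.lin_of_fix ha w.2 (fun h => hw0 (Subtype.ext h)) hW
  rw [hau'] at hsum
  have hahw : a ⋅ (D.h ⋅ (w : V)) = D.h ⋅ (w : V) := by
    have h3 := add_left_cancel hsum
    rw [hx, s.lin _ D.hh, hlin] at h3
    exact smul_right_injective V hlam h3
  set f := D.h⁻¹ * (a * D.h * a⁻¹) with hf
  have hfW := (D.fix_of_gen hg hw0 (E.mul_mem (E.inv_mem D.hh) (s.norm a ha _ D.hh)) (by
    rw [mul_apply', mul_apply', mul_apply', inv_fix h1, hahw, inv_apply'])).2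
  refine D.eq_one_of_translates fun k hk c hc => ?_
  rw [hr] at hk
  interval_cases k
  · rw [pow_zero]; exact hW c hc
  · rw [pow_one]
    have h3 := hfW c hc
    rw [mul_apply', mul_apply', mul_apply', inv_fix (hW c hc)] at h3
    have h4 := congrArg ((D.h : AddMonoid.End V) : V → V) h3
    rwa [apply_inv'] at h4

/-- The case of odd prime order. -/
theorem Split.pair_odd (hr : D.r ≠ 2) {w u : D.W} (hp : Pair D.G₁ w u) (hg : Gen D.E₁ w)
    (hw0 : w ≠ 0) {μ : K} (hμ2 : μ * μ = 1)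
    (hμ : ∀ j : ℕ, (D.h ^ 3) ⋅ (w : V) ≠ (μ * D.ω ^ j) • (w : V)) :
    Pair G (w : V) ((u : V) + D.h ⋅ (w : V) + (D.h ^ 2) ⋅ (μ • (w : V))) := by
  intro a ha h1 h2
  have hμ0 : μ ≠ 0 := fun h => by rw [h, mul_zero] at hμ2; exact zero_ne_one hμ2
  have haH := D.mem_H_of_fix hg hw0 ha h1
  obtain ⟨j, hj, hmove⟩ := D.moved haH
  set x := D.h ⋅ (w : V) with hx
  set y := (D.h ^ 2) ⋅ (μ • (w : V)) with hy
  have hx0 : x ≠ 0 := map_ne_zero' _ fun h => hw0 (Subtype.ext h)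
  have hy0 : y ≠ 0 := map_ne_zero' _ (D.smul_W_ne hw0 hμ0)
  have hxe : D.l ⋅ x = D.ω • x := D.h_eigen w.2
  have hye : D.l ⋅ y = D.ω ^ 2 • y := D.pow_eigen (D.W.smul_mem μ w.2) 2
  obtain ⟨t, ht⟩ := s.semi a ha (D.ω ^ j)
  have ht2 : ∀ v : V, a ⋅ ((D.ω ^ j * D.ω ^ j) • v) = (t * t) • a ⋅ v := fun v => by
    rw [mul_smul, ht, ht, smul_smul]
  have hax : D.l ⋅ (a ⋅ x) = t • a ⋅ x := by rw [hmove, D.l_pow_eigen hxe, ht]
  have hay : D.l ⋅ (a ⋅ y) = (t * t) • a ⋅ y := by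
    rw [hmove, D.l_pow_eigen hye, pow_two, mul_pow, ht2]
  have hω2 : D.ω ^ 2 ≠ 1 := D.ω_pow_ne fun h =>
    hr ((Nat.prime_dvd_prime_iff_eq D.hr Nat.prime_two).1 h)
  have htt : t * t ≠ 1 := fun h => by
    have h3 : D.ω ^ j * D.ω ^ j = 1 := smul_left_injective K hy0 (by
      refine inj' a ?_
      show a ⋅ ((D.ω ^ j * D.ω ^ j) • y) = a ⋅ ((1 : K) • y)
      rw [ht2, h, one_smul, one_smul])
    rw [← pow_add, ← two_mul] at h3
    rcases D.hr.dvd_mul.1 ((D.prim.pow_eq_one_iff_dvd _).1 h3) with h4 | h4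
    · exact hr ((Nat.prime_dvd_prime_iff_eq D.hr Nat.prime_two).1 h4)
    · exact hj h4
  have ht1 : t ≠ 1 := fun h => htt (by rw [h, mul_one])
  have hau : D.l ⋅ (a ⋅ (u : V)) = (1 : K) • a ⋅ (u : V) := by
    rw [one_smul]; exact D.H_maps haH u.2
  have hu1 : D.l ⋅ (u : V) = (1 : K) • (u : V) := by rw [one_smul]; exact u.2
  have hsum : a ⋅ (u : V) + a ⋅ x + a ⋅ y = (u : V) + x + y := by
    rw [← map_add, ← map_add]; exact h2
  have hP := congrArg (D.proj 1) hsum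
  rw [map_add, map_add, map_add, map_add, D.proj_self one_ne_zero hau,
    D.proj_other (one_pow _) hax ht1, D.proj_other (one_pow _) hay htt,
    D.proj_self one_ne_zero hu1, D.proj_other (one_pow _) hxe D.ω_ne,
    D.proj_other (one_pow _) hye hω2, add_zero, add_zero, add_zero, add_zero] at hP
  have hau' := D.cancel hP
  have hW := D.fix_W hp haH h1 hau'
  have hlin := s.lin_of_fix ha w.2 (fun h => hw0 (Subtype.ext h)) hW
  rw [hau', add_assoc, add_assoc] at hsum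
  have hxy := add_left_cancel hsum
  have hh' : a * D.h * a⁻¹ ∈ E := s.norm a ha _ D.hh
  set h' := a * D.h * a⁻¹ with hh'def
  have hah : ∀ c : V, a ⋅ (D.h ⋅ c) = h' ⋅ (a ⋅ c) := fun c => by
    rw [← mul_apply', ← mul_apply']
    congr 2
    rw [hh'def]
    group
  have hω12 : D.ω ^ 2 ≠ D.ω := fun h => D.ω_ne (by
    rw [pow_two] at h
    exact mul_left_cancel₀ D.ω_ne_zero (h.trans (mul_one D.ω).symm))
  have hω2r : (D.ω ^ 2) ^ D.r = 1 := by rw [← pow_mul, mul_comm, pow_mul, D.ω_pow, one_pow]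
  have ht0 : t ≠ 0 := fun h0 => smul_ne_zero (pow_ne_zero j D.ω_ne_zero) hx0 (inj' a (by
    show a ⋅ (D.ω ^ j • x) = a ⋅ (0 : V)
    rw [ht, h0, zero_smul, map_zero]))
  have htt' : t * t ≠ t := fun h => ht1 (mul_left_cancel₀ ht0 (h.trans (mul_one t).symm))
  have hPω := congrArg (D.proj D.ω) hxy
  rw [map_add, map_add, D.proj_self D.ω_ne_zero hxe, D.proj_other D.ω_pow hye hω12, add_zero]
    at hPω
  have hPω2 := congrArg (D.proj (D.ω ^ 2)) hxy
  rw [map_add, map_add, D.proj_self (pow_ne_zero 2 D.ω_ne_zero) hye,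
    D.proj_other hω2r hxe (Ne.symm hω12), zero_add] at hPω2
  by_cases htω : t = D.ω
  · subst htω
    rw [D.proj_self D.ω_ne_zero hax, D.proj_other D.ω_pow hay htt', add_zero] at hPω
    rw [D.proj_other hω2r hax (Ne.symm hω12), zero_add, D.proj_self (pow_ne_zero 2 D.ω_ne_zero)
      (by rw [pow_two]; exact hay)] at hPω2
    have hxx := D.cancel hPω
    have hyy := D.cancel hPω2
    obtain ⟨k, hk⟩ := D.exists_pow_of_fix (E.mul_mem (E.inv_mem D.hh) hh')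
      (D.fix_of_gen hg hw0 (E.mul_mem (E.inv_mem D.hh) hh') (by
        rw [hx, hah, h1] at hxx
        rw [mul_apply', hxx, inv_apply'])).2
    have hh'' : h' = D.h * D.l ^ k := by rw [← hk, mul_inv_cancel_left]
    have hy2 : (D.ω ^ k) • y = y := by
      conv_rhs => rw [← hyy, hy, pow_two, mul_apply', hah, hah, hlin, h1, hh'', mul_apply',
        mul_apply', pow_fix (D.W.smul_mem μ w.2), D.l_pow_eigen (D.h_eigen (D.W.smul_mem μ w.2)),
        s.lin _ D.hh]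
      rw [hy, pow_two, mul_apply']
    have hk1 : D.ω ^ k = 1 := smul_left_injective K hy0 (by
      show D.ω ^ k • y = (1 : K) • y
      rw [one_smul]; exact hy2)
    obtain ⟨c, rfl⟩ := (D.prim.pow_eq_one_iff_dvd k).1 hk1
    rw [pow_mul, D.pow_r, one_pow, mul_one] at hh''
    refine D.eq_one_of_translates fun i _ c hc => ?_
    revert c
    suffices key : ∀ i : ℕ, ∀ c ∈ D.W, a ⋅ ((D.h ^ i) ⋅ c) = (D.h ^ i) ⋅ c from fun c hc => key i c hc
    intro i c hc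
    induction i with
    | zero => rw [pow_zero]; exact hW c hc
    | succ i ih => rw [pow_succ', mul_apply', hah, ih, hh'']
  · have htt2 : t * t = D.ω := by
      by_contra h
      rw [D.proj_other D.ω_pow hax htω, D.proj_other D.ω_pow hay h, add_zero] at hPω
      exact smul_ne_zero D.r_ne_zero hx0 hPω.symm
    have ht2' : t = D.ω ^ 2 := by
      by_contra h
      rw [D.proj_other hω2r hax h, D.proj_other hω2r hay (by rw [htt2]; exact Ne.symm hω12),
        add_zero] at hPω2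
      exact smul_ne_zero D.r_ne_zero hy0 hPω2.symm
    rw [D.proj_other D.ω_pow hax htω, zero_add,
      D.proj_self D.ω_ne_zero (by rw [← htt2]; exact hay)] at hPω
    rw [D.proj_self (pow_ne_zero 2 D.ω_ne_zero) (by rw [← ht2']; exact hax),
      D.proj_other hω2r hay (by rw [htt2]; exact Ne.symm hω12), add_zero] at hPω2
    have hyx := D.cancel hPω
    have hxy' := D.cancel hPω2
    obtain ⟨f, hf, hfv⟩ := s.smul_mem' hμ0 (E.mul_mem (E.inv_mem (E.pow_mem D.hh 2)) hh')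
    obtain ⟨k, hk⟩ := D.exists_pow_of_fix hf (D.fix_of_gen hg hw0 hf (by
      rw [hx, hah, h1, hy] at hxy'
      rw [hfv, mul_apply', hxy', inv_apply', smul_smul, hμ2, one_smul])).2
    have hh'' : ∀ v : V, h' ⋅ v = μ • (D.h ^ 2) ⋅ ((D.l ^ k) ⋅ v) := fun v => by
      rw [← hk, hfv, s.lin _ (E.pow_mem D.hh 2), smul_smul, hμ2, one_smul, mul_apply' (D.h ^ 2)⁻¹ h',
        apply_inv']
    have hkey : (μ * D.ω ^ (2 * k)) • (D.h ^ 3) ⋅ (w : V) = (w : V) := by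
      refine inj' D.h ?_
      show D.h ⋅ ((μ * D.ω ^ (2 * k)) • (D.h ^ 3) ⋅ (w : V)) = x
      rw [← hyx, hy, pow_two, mul_apply', hah, hah, hlin, h1]
      rw [s.lin _ hh', s.lin _ hh', hh'', hh'', pow_fix w.2, s.lin _ (E.pow_mem D.hl k),
        D.l_pow_eigen (D.pow_eigen w.2 2), s.lin _ (E.pow_mem D.hh 2),
        s.lin _ (E.pow_mem D.hh 2), s.lin _ D.hh, ← mul_apply', ← mul_apply']
      simp only [smul_smul, ← pow_add, ← pow_succ']
      rw [← mul_assoc μ μ, hμ2, one_mul, ← pow_mul]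
    exfalso
    refine hμ ((D.r - 1) * (2 * k)) ?_
    have h5 : (μ * D.ω ^ ((D.r - 1) * (2 * k))) • _ = (μ * D.ω ^ ((D.r - 1) * (2 * k))) • _ :=
      congrArg (fun v : V => (μ * D.ω ^ ((D.r - 1) * (2 * k))) • v) hkey
    rw [smul_smul, mul_mul_mul_comm, hμ2, one_mul, ← pow_add, ← Nat.succ_mul, Nat.succ_eq_add_one,
      Nat.sub_add_cancel D.hr.one_le, pow_mul, D.ω_pow, one_pow, one_smul] at h5
    exact h5

/-- An element of `E` commuting with `l` and fixing both parts is the identity. -/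
theorem Split.gen_zero {w u : D.W} (hg : Gen D.E₁ w) (hw0 : w ≠ 0) (hu0 : u ≠ 0) {e : AutGp V}
    (he : e ∈ E) (heu : e ⋅ (u : V) = u) (hew : e ⋅ (D.h ⋅ (w : V)) = D.h ⋅ (w : V)) : e = 1 := by
  have hf : D.h⁻¹ * e * D.h ∈ E := E.mul_mem (E.mul_mem (E.inv_mem D.hh) he) D.hh
  have hW := (D.fix_of_gen hg hw0 hf (by rw [mul_apply', mul_apply', hew, inv_apply'])).2
  have hhc : ∀ c ∈ D.W, e ⋅ (D.h ⋅ c) = D.h ⋅ c := fun c hc => by
    have h := congrArg ((D.h : AddMonoid.End V) : V → V) (hW c hc)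
    rwa [mul_apply', mul_apply', apply_inv'] at h
  obtain ⟨η, hη⟩ := s.comm e he D.h D.hh
  have hc' : ∀ c ∈ D.W, η • e ⋅ c = c := fun c hc => inj' D.h (by
    show D.h ⋅ (η • e ⋅ c) = D.h ⋅ c
    rw [s.lin _ D.hh, ← hη, hhc c hc])
  have hη1 : η = 1 := by
    have h := hc' u u.2
    rw [heu] at h
    exact smul_left_injective K (fun h0 => hu0 (Subtype.ext h0)) (h.trans (one_smul K _).symm)
  refine D.eq_one_of_translates fun k _ c hc => ?_
  have h := s.pow_swap he D.hh hη k c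
  rw [hη1, one_pow, one_smul] at h
  have h2 := hc' c hc
  rw [hη1, one_smul] at h2
  rw [h, h2]

theorem Split.gen_two (hr : D.r = 2) {w u : D.W} (hg : Gen D.E₁ w) (hw0 : w ≠ 0) (hu0 : u ≠ 0)
    {lam : K} (hlam : lam ≠ 0)
    (hbad : ∀ e ∈ E, e ⋅ (u : V) = D.h ⋅ (lam • (w : V)) →
      e ⋅ (D.h ⋅ (lam • (w : V))) ≠ (u : V)) :
    Gen E ((u : V) + D.h ⋅ (lam • (w : V))) := by
  intro e he hfix
  obtain ⟨i, hi, hie⟩ := D.exists_index he
  set x := D.h ⋅ (lam • (w : V)) with hx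
  have hxe : D.l ⋅ x = D.ω • x := D.h_eigen (D.W.smul_mem lam w.2)
  have hu1 : D.l ⋅ (u : V) = (1 : K) • (u : V) := by rw [one_smul]; exact u.2
  have heu : D.l ⋅ (e ⋅ (u : V)) = D.ω ^ i • e ⋅ (u : V) := by rw [hie, u.2]
  have hex : D.l ⋅ (e ⋅ x) = (D.ω ^ i * D.ω) • e ⋅ x := by
    rw [hie, hxe, s.lin e he, smul_smul]
  have hsum : e ⋅ (u : V) + e ⋅ x = (u : V) + x := by rw [← map_add]; exact hfix
  have hP := congrArg (D.proj 1) hsum
  rw [map_add, map_add, D.proj_self one_ne_zero hu1, D.proj_other (one_pow _) hxe D.ω_ne,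
    add_zero] at hP
  rw [hr] at hi
  interval_cases i
  · rw [pow_zero] at heu hex
    rw [one_mul] at hex
    rw [D.proj_self one_ne_zero heu, D.proj_other (one_pow _) hex D.ω_ne, add_zero] at hP
    have h1 := D.cancel hP
    rw [h1] at hsum
    refine D.gen_zero hg hw0 hu0 he h1 ?_
    have h2 := add_left_cancel hsum
    rw [hx, s.lin _ D.hh, s.lin e he] at h2
    exact smul_right_injective V hlam h2
  · exfalso
    rw [pow_one] at heu hex
    have hω2 : D.ω * D.ω = 1 := by rw [← pow_two, ← hr, D.ω_pow]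
    rw [hω2] at hex
    rw [D.proj_other (one_pow _) heu D.ω_ne, D.proj_self one_ne_zero hex, zero_add] at hP
    have h1 := D.cancel hP
    rw [h1, add_comm (u : V) x] at hsum
    exact hbad e he (add_right_cancel hsum) h1

theorem Split.gen_odd (hr : D.r ≠ 2) {w u : D.W} (hg : Gen D.E₁ w) (hw0 : w ≠ 0) (hu0 : u ≠ 0)
    {μ : K} (hμ2 : μ * μ = 1) (hu : ∀ j : ℕ, (u : V) ≠ (μ * D.ω ^ j) • (w : V)) :
    Gen E ((u : V) + D.h ⋅ (w : V) + (D.h ^ 2) ⋅ (μ • (w : V))) := by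
  intro e he hfix
  have hμ0 : μ ≠ 0 := fun h => by rw [h, mul_zero] at hμ2; exact zero_ne_one hμ2
  obtain ⟨i, hi, hie⟩ := D.exists_index he
  set x := D.h ⋅ (w : V) with hx
  set y := (D.h ^ 2) ⋅ (μ • (w : V)) with hy
  have hxe : D.l ⋅ x = D.ω • x := D.h_eigen w.2
  have hye : D.l ⋅ y = D.ω ^ 2 • y := D.pow_eigen (D.W.smul_mem μ w.2) 2
  have hu1 : D.l ⋅ (u : V) = (1 : K) • (u : V) := by rw [one_smul]; exact u.2
  have hx0 : x ≠ 0 := map_ne_zero' _ fun h => hw0 (Subtype.ext h)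
  have hy0 : y ≠ 0 := map_ne_zero' _ (D.smul_W_ne hw0 hμ0)
  have hu0' : (u : V) ≠ 0 := fun h => hu0 (Subtype.ext h)
  set t := D.ω ^ i with ht
  have htr : t ^ D.r = 1 := by rw [ht, ← pow_mul, mul_comm, pow_mul, D.ω_pow, one_pow]
  have heu : D.l ⋅ (e ⋅ (u : V)) = t • e ⋅ (u : V) := by rw [hie, u.2]
  have hex : D.l ⋅ (e ⋅ x) = (t * D.ω) • e ⋅ x := by rw [hie, hxe, s.lin e he, smul_smul]
  have hey : D.l ⋅ (e ⋅ y) = (t * D.ω ^ 2) • e ⋅ y := by rw [hie, hye, s.lin e he, smul_smul]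
  have hω2 : D.ω ^ 2 ≠ 1 := D.ω_pow_ne fun h =>
    hr ((Nat.prime_dvd_prime_iff_eq D.hr Nat.prime_two).1 h)
  have hω12 : D.ω ^ 2 ≠ D.ω := fun h => D.ω_ne (by
    rw [pow_two] at h
    exact mul_left_cancel₀ D.ω_ne_zero (h.trans (mul_one D.ω).symm))
  have hω2r : (D.ω ^ 2) ^ D.r = 1 := by rw [← pow_mul, mul_comm, pow_mul, D.ω_pow, one_pow]
  have ht0 : t ≠ 0 := pow_ne_zero i D.ω_ne_zero
  have n1 : t * D.ω ≠ t := fun h => D.ω_ne (mul_left_cancel₀ ht0 (h.trans (mul_one t).symm))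
  have n2 : t * D.ω ^ 2 ≠ t := fun h => hω2 (mul_left_cancel₀ ht0 (h.trans (mul_one t).symm))
  have n3 : t * D.ω ^ 2 ≠ t * D.ω := fun h => hω12 (mul_left_cancel₀ ht0 h)
  have hsum : e ⋅ (u : V) + e ⋅ x + e ⋅ y = (u : V) + x + y := by
    rw [← map_add, ← map_add]; exact hfix
  have hP1 := congrArg (D.proj 1) hsum
  rw [map_add, map_add, map_add, map_add, D.proj_self one_ne_zero hu1,
    D.proj_other (one_pow _) hxe D.ω_ne, D.proj_other (one_pow _) hye hω2, add_zero, add_zero]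
    at hP1
  have hP2 := congrArg (D.proj D.ω) hsum
  rw [map_add, map_add, map_add, map_add, D.proj_other D.ω_pow hu1 (Ne.symm D.ω_ne),
    D.proj_self D.ω_ne_zero hxe, D.proj_other D.ω_pow hye hω12, zero_add, add_zero] at hP2
  have hP3 := congrArg (D.proj (D.ω ^ 2)) hsum
  rw [map_add, map_add, map_add, map_add, D.proj_other hω2r hu1 (Ne.symm hω2),
    D.proj_other hω2r hxe (Ne.symm hω12), D.proj_self (pow_ne_zero 2 D.ω_ne_zero) hye,
    zero_add, zero_add] at hP3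
  have noshift : ∀ f : AutGp V, f ∈ E → f ⋅ (u : V) = x → f ⋅ x = y → False := by
    intro f hf hfu hfx
    obtain ⟨g, hgE, hgv⟩ := s.smul_mem' hμ0
      (E.mul_mem (E.inv_mem (E.pow_mem D.hh 2)) (E.mul_mem hf D.hh))
    have hgW := (D.fix_of_gen hg hw0 hgE (by
      rw [hgv, mul_apply', mul_apply', hfx, hy, inv_apply', smul_smul, hμ2, one_smul])).2
    have hfc : ∀ c ∈ D.W, f ⋅ (D.h ⋅ c) = μ • (D.h ^ 2) ⋅ c := fun c hc => by
      have h := congrArg (fun v => μ • (D.h ^ 2) ⋅ v) (hgW c hc)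
      rwa [hgv, s.lin _ (E.pow_mem D.hh 2), mul_apply', apply_inv', mul_apply', smul_smul, hμ2,
        one_smul] at h
    obtain ⟨η, hη⟩ := s.comm f hf D.h D.hh
    have hfc' : ∀ c ∈ D.W, η • f ⋅ c = μ • D.h ⋅ c := fun c hc => inj' D.h (by
      show D.h ⋅ (η • f ⋅ c) = D.h ⋅ (μ • D.h ⋅ c)
      rw [s.lin _ D.hh, ← hη, hfc c hc, s.lin _ D.hh, pow_two, mul_apply'])
    have hw' : η • (w : V) = μ • (u : V) := inj' D.h (by
      show D.h ⋅ (η • (w : V)) = D.h ⋅ (μ • (u : V))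
      rw [s.lin _ D.hh, s.lin _ D.hh, ← hfc' u u.2, hfu, hx])
    have hη0 : η ≠ 0 := fun h => map_ne_zero' f (map_ne_zero' D.h hu0') (by rw [hη, h, zero_smul])
    have hpow : ∀ c ∈ D.W, η ^ D.r • f ⋅ c = f ⋅ c := fun c hc => by
      have hc' : (D.h ^ D.r) ⋅ c ∈ D.W := D.M_maps D.h_pow_mem hc
      refine inj' (D.h ^ D.r) ?_
      show (D.h ^ D.r) ⋅ (η ^ D.r • f ⋅ c) = (D.h ^ D.r) ⋅ (f ⋅ c)
      rw [s.lin _ (E.pow_mem D.hh _), ← s.pow_swap hf D.hh hη]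
      apply smul_right_injective V hη0
      show η • f ⋅ ((D.h ^ D.r) ⋅ c) = η • (D.h ^ D.r) ⋅ (f ⋅ c)
      rw [hfc' _ hc', ← s.lin _ (E.pow_mem D.hh _), hfc' c hc, s.lin _ (E.pow_mem D.hh _),
        ← mul_apply' D.h, ← mul_apply' (D.h ^ D.r), ← pow_succ', ← pow_succ]
    have hη1 : η ^ D.r = 1 := smul_left_injective K (map_ne_zero' f hu0')
      ((hpow u u.2).trans (one_smul K _).symm)
    haveI : NeZero D.r := ⟨D.hr.ne_zero⟩
    obtain ⟨k, -, rfl⟩ := D.prim.eq_pow_of_pow_eq_one hη1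
    refine hu k ?_
    rw [mul_smul, hw', smul_smul, hμ2, one_smul]
  by_cases ht1 : t = 1
  · rw [D.proj_self one_ne_zero (ht1 ▸ heu), D.proj_other (one_pow _) hex (ht1 ▸ n1),
      D.proj_other (one_pow _) hey (ht1 ▸ n2), add_zero, add_zero] at hP1
    have h1 := D.cancel hP1
    rw [D.proj_other D.ω_pow heu (by rw [ht1]; exact Ne.symm D.ω_ne),
      D.proj_self D.ω_ne_zero (by rw [ht1, one_mul] at hex; exact hex),
      D.proj_other D.ω_pow hey (by rw [ht1, one_mul]; exact hω12), zero_add, add_zero] at hP2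
    exact D.gen_zero hg hw0 hu0 he h1 (D.cancel hP2)
  exfalso
  rw [D.proj_other (one_pow _) heu ht1, zero_add] at hP1
  by_cases hA : t * D.ω = 1
  · -- the shift by two steps
    rw [D.proj_self one_ne_zero (hA ▸ hex), D.proj_other (one_pow _) hey (hA ▸ n3), add_zero]
      at hP1
    have hex' : e ⋅ x = (u : V) := D.cancel hP1
    have hB : t * D.ω ^ 2 = D.ω := by rw [pow_two, ← mul_assoc, hA, one_mul]
    rw [D.proj_other D.ω_pow heu (fun h => n2 (hB.trans h.symm)),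
      D.proj_other D.ω_pow hex (fun h => n3 (hB.trans h.symm)),
      D.proj_self D.ω_ne_zero (hB ▸ hey), zero_add, zero_add] at hP2
    have hey' : e ⋅ y = x := D.cancel hP2
    refine noshift e⁻¹ (E.inv_mem he) ?_ ?_
    · rw [← hex', inv_apply']
    · rw [← hey', inv_apply']
  · have hB : t * D.ω ^ 2 = 1 := by
      by_contra h
      rw [D.proj_other (one_pow _) hex hA, D.proj_other (one_pow _) hey h, add_zero] at hP1
      exact smul_ne_zero D.r_ne_zero hu0' hP1.symm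
    have hC : t = D.ω := by
      by_contra h
      have h' : t * D.ω ≠ D.ω := fun h5 => ht1 (mul_right_cancel₀ D.ω_ne_zero
        (h5.trans (one_mul D.ω).symm))
      rw [D.proj_other D.ω_pow heu h, D.proj_other D.ω_pow hex h',
        D.proj_other D.ω_pow hey (hB ▸ Ne.symm D.ω_ne), add_zero, add_zero] at hP2
      exact smul_ne_zero D.r_ne_zero hx0 hP2.symm
    have hD : t * D.ω = D.ω ^ 2 := by rw [hC, pow_two]
    rw [D.proj_self D.ω_ne_zero (hC ▸ heu), D.proj_other D.ω_pow hex (by rw [hD]; exact hω12),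
      D.proj_other D.ω_pow hey (hB ▸ Ne.symm D.ω_ne), add_zero, add_zero] at hP2
    rw [D.proj_other hω2r heu (by rw [hC]; exact Ne.symm hω12),
      D.proj_self (pow_ne_zero 2 D.ω_ne_zero) (hD ▸ hex),
      D.proj_other hω2r hey (hB ▸ Ne.symm hω2), zero_add, add_zero] at hP3
    exact noshift e he (D.cancel hP2) (D.cancel hP3)

/-- A sum with two parts of different kinds is not moved into the fixed space. -/
theorem Split.out_sum {u : D.W} (hu0 : u ≠ 0) {w : D.W} {c : V} (hc0 : c ≠ 0)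
    (hc : D.l ⋅ c = D.ω • c) {z : V} {ν : K} (hz : D.l ⋅ z = ν • z) (hν : ν ≠ 1)
    (hν' : ν ≠ D.ω ∨ z = 0) : ∀ e ∈ E, e ⋅ ((u : V) + c + z) ≠ (w : V) := by
  intro e he hew
  obtain ⟨i, hi, hie⟩ := D.exists_index he
  set t := D.ω ^ i with ht
  have ht0 : t ≠ 0 := pow_ne_zero i D.ω_ne_zero
  have htr : t ^ D.r = 1 := by rw [ht, ← pow_mul, mul_comm, pow_mul, D.ω_pow, one_pow]
  have htω : (t * D.ω) ^ D.r = 1 := by rw [mul_pow, htr, D.ω_pow, one_mul]
  have heu : D.l ⋅ (e ⋅ (u : V)) = t • e ⋅ (u : V) := by rw [hie, u.2]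
  have hec : D.l ⋅ (e ⋅ c) = (t * D.ω) • e ⋅ c := by rw [hie, hc, s.lin e he, smul_smul]
  have hez : D.l ⋅ (e ⋅ z) = (t * ν) • e ⋅ z := by rw [hie, hz, s.lin e he, smul_smul]
  have hw1 : D.l ⋅ (w : V) = (1 : K) • (w : V) := by rw [one_smul]; exact w.2
  have n1 : t * D.ω ≠ t := fun h => D.ω_ne (mul_left_cancel₀ ht0 (h.trans (mul_one t).symm))
  have n2 : t * ν ≠ t := fun h => hν (mul_left_cancel₀ ht0 (h.trans (mul_one t).symm))
  rw [map_add, map_add] at hew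
  have hP1 := congrArg (D.proj t) hew
  rw [map_add, map_add, D.proj_self ht0 heu, D.proj_other htr hec n1, D.proj_other htr hez n2,
    add_zero, add_zero] at hP1
  have ht1 : t = 1 := by
    by_contra h
    rw [D.proj_other htr hw1 (Ne.symm h)] at hP1
    exact smul_ne_zero D.r_ne_zero (map_ne_zero' e fun h0 => hu0 (Subtype.ext h0)) hP1
  have hP2 := congrArg (D.proj (t * D.ω)) hew
  have hz' : D.proj (t * D.ω) (e ⋅ z) = 0 := by
    rcases hν' with h | h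
    · exact D.proj_other htω hez fun h5 => h (mul_left_cancel₀ ht0 h5)
    · rw [h, map_zero, map_zero]
  rw [map_add, map_add, D.proj_other htω heu (Ne.symm n1),
    D.proj_self (mul_ne_zero ht0 D.ω_ne_zero) hec, hz', zero_add, add_zero,
    D.proj_other htω hw1 (by rw [ht1, one_mul]; exact Ne.symm D.ω_ne)] at hP2
  exact smul_ne_zero D.r_ne_zero (map_ne_zero' e hc0) hP2

theorem Split.exists_sign (hr : D.r ≠ 2) (h2 : (2 : K) ≠ 0) (w : D.W) (hw0 : w ≠ 0) :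
    ∃ μ : K, μ * μ = 1 ∧ ∀ j : ℕ, (D.h ^ 3) ⋅ (w : V) ≠ (μ * D.ω ^ j) • (w : V) := by
  by_cases h : ∃ i : ℕ, (D.h ^ 3) ⋅ (w : V) = D.ω ^ i • (w : V)
  · obtain ⟨i, hi⟩ := h
    refine ⟨-1, by ring, fun j hj => ?_⟩
    rw [hi] at hj
    have h1 := smul_left_injective K (fun h0 => hw0 (Subtype.ext h0)) hj
    have h3 := congrArg (· ^ D.r) h1
    rw [mul_pow, ← pow_mul, ← pow_mul, mul_comm i, mul_comm j, pow_mul, pow_mul, D.ω_pow, one_pow,
      one_pow, (D.hr.eq_two_or_odd'.resolve_left hr).neg_one_pow] at h3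
    exact h2 (by linear_combination h3)
  · push Not at h
    exact ⟨1, one_mul 1, fun j => by rw [one_mul]; exact h j⟩

/-- A base from a generic base of the fixed space. -/
theorem Split.step_pair (h2 : (2 : K) ≠ 0) {w u : D.W} (hp : Pair D.G₁ w u) (hg : Gen D.E₁ w)
    (hw0 : w ≠ 0) : ∃ x y : V, Pair G x y := by
  by_cases hr : D.r = 2
  · exact ⟨_, _, D.pair_two hr hp hg hw0 one_ne_zero⟩
  · obtain ⟨μ, hμ2, hμ⟩ := D.exists_sign hr h2 w hw0
    exact ⟨_, _, D.pair_odd hr hp hg hw0 hμ2 hμ⟩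

/-- A generic base, outside the orbit, from a generic base of the fixed space. -/
theorem Split.step_gen (h2 : (2 : K) ≠ 0) {w u : D.W} (hp : Pair D.G₁ w u) (hg : Gen D.E₁ w)
    (hw0 : w ≠ 0) (hu0 : u ≠ 0)
    (hex : D.r = 2 → ∃ lam : K, lam ≠ 0 ∧ ∀ e ∈ E, e ⋅ (u : V) = D.h ⋅ (lam • (w : V)) →
      e ⋅ (D.h ⋅ (lam • (w : V))) ≠ (u : V)) :
    ∃ x y : V, Pair G x y ∧ Gen E x ∧ Out E x y := by
  have hw0' : (w : V) ≠ 0 := fun h => hw0 (Subtype.ext h)
  by_cases hr : D.r = 2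
  · obtain ⟨lam, hlam, hbad⟩ := hex hr
    refine ⟨(u : V) + D.h ⋅ (lam • (w : V)), (w : V),
      fun a ha h1 h3 => D.pair_two hr hp hg hw0 hlam a ha h3 h1,
      D.gen_two hr hg hw0 hu0 hlam hbad, hw0', ?_⟩
    intro e he
    have h := D.out_sum hu0 (map_ne_zero' _ (D.smul_W_ne hw0 hlam))
      (D.h_eigen (D.W.smul_mem lam w.2)) (w := w) (z := 0) (ν := 0) (by simp) zero_ne_one
      (Or.inr rfl) e he
    rwa [add_zero] at h
  · obtain ⟨μ, hμ2, hμ⟩ := D.exists_sign hr h2 w hw0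
    have hμ0 : μ ≠ 0 := fun h => by rw [h, mul_zero] at hμ2; exact zero_ne_one hμ2
    obtain ⟨u', hu0', hp', hu'⟩ : ∃ u' : D.W, u' ≠ 0 ∧ Pair D.G₁ w u' ∧
        ∀ j : ℕ, (u' : V) ≠ (μ * D.ω ^ j) • (w : V) := by
      by_cases h : ∃ i : ℕ, (u : V) = (μ * D.ω ^ i) • (w : V)
      · obtain ⟨i, hi⟩ := h
        refine ⟨-u, neg_ne_zero.2 hu0, hp.neg, fun j hj => ?_⟩
        rw [Submodule.coe_neg, hi, ← neg_smul] at hj
        have h1 := smul_left_injective K hw0' hj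
        have h3 : -(D.ω ^ i) = D.ω ^ j := mul_left_cancel₀ hμ0 (by rw [mul_neg]; exact h1)
        have h4 := congrArg (· ^ D.r) h3
        rw [(D.hr.eq_two_or_odd'.resolve_left hr).neg_pow, ← pow_mul, ← pow_mul, mul_comm i,
          mul_comm j, pow_mul, pow_mul, D.ω_pow, one_pow, one_pow] at h4
        exact h2 (by linear_combination -h4)
      · push Not at h
        exact ⟨u, hu0, hp, h⟩
    have hω2 : D.ω ^ 2 ≠ 1 := D.ω_pow_ne fun h =>
      hr ((Nat.prime_dvd_prime_iff_eq D.hr Nat.prime_two).1 h)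
    have hω12 : D.ω ^ 2 ≠ D.ω := fun h => D.ω_ne (by
      rw [pow_two] at h
      exact mul_left_cancel₀ D.ω_ne_zero (h.trans (mul_one D.ω).symm))
    exact ⟨_, (w : V), fun a ha h1 h3 => D.pair_odd hr hp' hg hw0 hμ2 hμ a ha h3 h1,
      D.gen_odd hr hg hw0 hu0' hμ2 hu', hw0',
      D.out_sum hu0' (map_ne_zero' _ hw0') (D.h_eigen w.2) (D.pow_eigen (D.W.smul_mem μ w.2) 2)
        hω2 (Or.inl hω12)⟩

/-- The step when the second vector is outside the orbit of the first. -/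
theorem Split.step_out (h2 : (2 : K) ≠ 0) {w u : D.W} (hp : Pair D.G₁ w u) (hg : Gen D.E₁ w)
    (hw0 : w ≠ 0) (hu : Out D.E₁ w u) : ∃ x y : V, Pair G x y ∧ Gen E x ∧ Out E x y := by
  refine D.step_gen h2 hp hg hw0 hu.1 fun _ => ⟨1, one_ne_zero, fun e he h1 _ => ?_⟩
  rw [one_smul] at h1
  have hu0 : (u : V) ≠ 0 := fun h => hu.1 (Subtype.ext h)
  have hm : D.h⁻¹ * e ∈ D.M := D.mem_M_of_fix (E.mul_mem (E.inv_mem D.hh) he) hu0 u.2 (by
    rw [mul_apply', h1, inv_apply']; exact w.2)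
  refine hu.2 _ (D.mem_E₁.2 ⟨_, D.M.inv_mem hm, rfl⟩) (Subtype.ext ?_)
  show ((D.h⁻¹ * e)⁻¹ : AutGp V) ⋅ (w : V) = u
  rw [show (w : V) = (D.h⁻¹ * e) ⋅ (u : V) by rw [mul_apply', h1, inv_apply'], inv_apply']

/-- The step over fields with at least seven elements. -/
theorem Split.step_seven [Finite K] (h2 : (2 : K) ≠ 0) (hq : 7 ≤ Nat.card K) {w u : D.W}
    (hp : Pair D.G₁ w u) (hg : Gen D.E₁ w) (hw0 : w ≠ 0) (hu0 : u ≠ 0) :
    ∃ x y : V, Pair G x y ∧ Gen E x ∧ Out E x y := by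
  classical
  refine D.step_gen h2 hp hg hw0 hu0 fun hr => ?_
  have hw0' : (w : V) ≠ 0 := fun h => hw0 (Subtype.ext h)
  have hu0' : (u : V) ≠ 0 := fun h => hu0 (Subtype.ext h)
  by_contra hno
  push Not at hno
  obtain ⟨e, he, he1, he2⟩ := hno 1 one_ne_zero
  rw [one_smul] at he1 he2
  -- all nonzero scalars are fourth roots of unity
  have hroot : ∀ lam : K, lam ≠ 0 → lam ^ 4 = 1 := by
    intro lam hlam
    obtain ⟨e', he', h1, h3⟩ := hno lam hlam
    have hf : D.h⁻¹ * (e' * e⁻¹) * D.h ∈ E :=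
      E.mul_mem (E.mul_mem (E.inv_mem D.hh) (E.mul_mem he' (E.inv_mem he))) D.hh
    obtain ⟨g, hgE, hgv⟩ := s.smul_mem' (inv_ne_zero hlam) hf
    obtain ⟨k, hk⟩ := D.exists_pow_of_fix hgE (D.fix_of_gen hg hw0 hgE (by
      have h5 : e⁻¹ ⋅ (D.h ⋅ (w : V)) = u := by rw [← he1, inv_apply']
      rw [hgv, mul_apply', mul_apply', mul_apply', h5, h1, inv_apply', smul_smul,
        inv_mul_cancel₀ hlam, one_smul])).2
    -- the quotient acts on `u` as a scalar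
    have hq' : ∀ v : V, (e' * e⁻¹) ⋅ (D.h ⋅ v) = lam • D.h ⋅ ((D.l ^ k) ⋅ v) := fun v => by
      rw [← hk, hgv, s.lin _ D.hh, smul_smul, mul_inv_cancel₀ hlam, one_smul, mul_apply' _ D.h,
        mul_apply' D.h⁻¹, apply_inv']
    have hly : D.l ⋅ (D.h⁻¹ ⋅ (u : V)) = D.ω⁻¹ • D.h⁻¹ ⋅ (u : V) := by
      refine inj' D.h ?_
      show D.h ⋅ (D.l ⋅ (D.h⁻¹ ⋅ (u : V))) = D.h ⋅ (D.ω⁻¹ • D.h⁻¹ ⋅ (u : V))
      rw [s.lin _ D.hh, apply_inv']
      apply smul_right_injective V D.ω_ne_zero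
      show D.ω • D.h ⋅ (D.l ⋅ (D.h⁻¹ ⋅ (u : V))) = D.ω • D.ω⁻¹ • (u : V)
      rw [← D.swap, apply_inv', smul_smul, mul_inv_cancel₀ D.ω_ne_zero, one_smul]
      exact u.2
    have hqu : (e' * e⁻¹) ⋅ (u : V) = (lam * D.ω⁻¹ ^ k) • (u : V) := by
      conv_lhs => rw [← apply_inv' D.h (u : V)]
      rw [hq', D.l_pow_eigen hly, s.lin _ D.hh, apply_inv', smul_smul]
    rw [s.lin _ D.hh, s.lin _ he'] at h3
    have h4 : lam • (lam * D.ω⁻¹ ^ k) • (u : V) = (1 : K) • (u : V) := by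
      rw [one_smul]
      conv_rhs => rw [← h3]
      rw [← hqu, ← he2, mul_apply', inv_apply']
    rw [smul_smul] at h4
    have h5 : lam * lam * D.ω⁻¹ ^ k = 1 := by
      rw [mul_assoc]; exact smul_left_injective K hu0' h4
    have hω : D.ω⁻¹ ^ 2 = 1 := by rw [← hr, inv_pow, D.ω_pow, inv_one]
    calc lam ^ 4 = (lam * lam * D.ω⁻¹ ^ k) ^ 2 * ((D.ω⁻¹ ^ 2) ^ k)⁻¹ := by
          rw [mul_pow, ← pow_mul, ← pow_mul, mul_comm k, mul_assoc,
            mul_inv_cancel₀ (pow_ne_zero _ (inv_ne_zero D.ω_ne_zero))]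
          ring
      _ = 1 := by rw [h5, hω]; simp
  haveI := Fintype.ofFinite K
  have hle : Nat.card Kˣ ≤ 4 := by
    obtain ⟨g, hgen⟩ := IsCyclic.exists_generator (α := Kˣ)
    rw [← orderOf_eq_card_of_forall_mem_zpowers hgen]
    exact Nat.le_of_dvd (by norm_num) (orderOf_dvd_of_pow_eq_one (Units.ext (by
      rw [Units.val_pow_eq_pow_val, hroot _ g.ne_zero, Units.val_one])))
  rw [Nat.card_units] at hle
  omega

end CfsgLib.BaseTwo73
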