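import Cfsg.Agent.BaseTwo73.Recurse

/-!
# Bases of two vectors for a primitive group
-/

set_option autoImplicit false
set_option linter.style.haveILetI false

namespace CfsgLib.BaseTwo73

open CfsgLib.RegOrbit
open Polynomial (X C)

universe v u

variable {V : Type v} [AddCommGroup V] {K : Type u} [Field K] [Module K V]
  {G E : Subgroup (AutGp V)}

local notation:80 a " ⋅ " v:81 => ((a : AutGp _) : AddMonoid.End _) v

/-- In a finite field of odd order every element is a sum of two squares. -/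
theorem exists_two_squares [Finite K] (h2 : (2 : K) ≠ 0) (c : K) :
    ∃ a b : K, a * a + b * b = c := by
  classical
  haveI := Fintype.ofFinite K
  have hF : ringChar K ≠ 2 := fun h => h2 (by
    have h' : ((2 : ℕ) : K) = 0 := by rw [← h]; exact ringChar.Nat.cast_ringChar
    exact_mod_cast h')
  obtain ⟨a, b, h⟩ := FiniteField.exists_root_sum_quadratic
    (f := (X : Polynomial K) ^ 2) (g := (X : Polynomial K) ^ 2 + C (-c))
    (Polynomial.degree_X_pow 2) (Polynomial.degree_X_pow_add_C (by norm_num) _)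
    (FiniteField.odd_card_of_char_ne_two hF)
  simp only [Polynomial.eval_pow, Polynomial.eval_X, Polynomial.eval_add, Polynomial.eval_C] at h
  exact ⟨a, b, by linear_combination h⟩

variable [Finite V] [Finite K]

/-- The group is the scalars, or a quaternion group over them: two vectors will do. -/
theorem pair_fpf [Nontrivial V] (s : Sys K G E) (hE : Fpf E) (hexp : ExpHyp K E) (h2 : (2 : K) ≠ 0)
    (hcent : ∀ a ∈ G, Lin K a → (∀ e ∈ E, a * e = e * a) → Scal K a) :
    ∃ x y : V, Pair G x y := by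
  obtain ⟨g, hg⟩ := IsCyclic.exists_generator (α := Kˣ)
  set g₀ : K := (g : K) with hg₀def
  have hg0 : g₀ ≠ 0 := g.ne_zero
  -- linearity from the generator
  have hlin : ∀ (a : AutGp V), (∀ w : V, a ⋅ (g₀ • w) = g₀ • a ⋅ w) → Lin K a := by
    intro a ha t w
    by_cases ht : t = 0
    · rw [ht, zero_smul, map_zero, zero_smul]
    obtain ⟨k, hk⟩ := (isOfFinOrder_of_finite g).mem_powers_iff_mem_zpowers.2 (hg (Units.mk0 t ht))
    have htk : t = g₀ ^ k := by
      simp only at hk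
      rw [hg₀def, ← Units.val_pow_eq_pow_val, hk, Units.val_mk0]
    rw [htk]
    clear hk htk
    induction k generalizing w with
    | zero => rw [pow_zero, one_smul, one_smul]
    | succ k ih => rw [pow_succ', mul_smul, ha, ih, mul_smul]
  have hfix : ∀ a ∈ G, Scal K a → ∀ v : V, v ≠ 0 → a ⋅ v = v → a = 1 := by
    rintro a - ⟨t, ht⟩ v hv hav
    have h1 : t = 1 := smul_left_injective K hv ((ht v).symm.trans (hav.trans (one_smul K v).symm))
    exact eq_one_of_forall fun w => by rw [ht, h1, one_smul]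
  by_cases hsc : ∀ e ∈ E, Scal K e
  · obtain ⟨v, hv⟩ := exists_ne (0 : V)
    refine ⟨v, g₀ • v, fun a ha h1 h3 => hfix a ha ?_ v hv h1⟩
    obtain ⟨t, ht⟩ := s.semi a ha g₀
    rw [ht, h1] at h3
    have htg : t = g₀ := smul_left_injective K hv h3
    have hl := hlin a fun w => by rw [ht, htg]
    refine hcent a ha hl fun e he => ?_
    obtain ⟨c, hc⟩ := hsc e he
    exact mul_comm_iff.2 fun w => by rw [hc, hc, hl]
  push Not at hsc
  obtain ⟨i, j, Q⟩ := s.exists_quat hE hexp h2 hsc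
  obtain ⟨a, b, hab⟩ := exists_two_squares h2 (-1 : K)
  have hn1 := s.neg_one_not_square hE hexp h2 hsc
  have ha0 : a ≠ 0 := fun h => hn1 ⟨b, by rw [← hab, h]; ring⟩
  have mm : (-1 : K) * -1 = 1 := by ring
  have hLi := s.linE Q.hi
  have hLj := s.linE Q.hj
  have hji : ∀ w : V, j ⋅ (i ⋅ w) = -(i ⋅ (j ⋅ w)) := fun w => by
    rw [Q.ij.symm mm, neg_smul, one_smul]
  -- a vector whose translates span at most a plane
  have hT : ∀ w : V, a • i ⋅ (a • i ⋅ w + b • j ⋅ w) + b • j ⋅ (a • i ⋅ w + b • j ⋅ w) = w := by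
    intro w
    rw [map_add, map_add, hLi, hLi, hLj, hLj, Q.sqi, Q.sqj, hji]
    simp only [smul_add, smul_smul, smul_neg]
    rw [mul_comm b a]
    calc -((a * a) • w) + (a * b) • i ⋅ (j ⋅ w) + (-((a * b) • i ⋅ (j ⋅ w)) + -((b * b) • w))
        = -((a * a + b * b) • w) := by rw [add_smul]; abel
      _ = w := by rw [hab, neg_smul, one_smul, neg_neg]
  obtain ⟨v, ε, hv, hv'⟩ : ∃ (v : V) (ε : K), v ≠ 0 ∧ a • i ⋅ v + b • j ⋅ v = ε • v := by
    by_cases h : ∃ w : V, w + (a • i ⋅ w + b • j ⋅ w) ≠ 0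
    · obtain ⟨w, hw⟩ := h
      refine ⟨_, 1, hw, ?_⟩
      rw [map_add i.val w, map_add j.val w, one_smul, smul_add, smul_add, add_add_add_comm, hT w,
        add_comm]
    · push Not at h
      obtain ⟨w, hw⟩ := exists_ne (0 : V)
      exact ⟨w, -1, hw, by rw [neg_one_smul]; exact eq_neg_of_add_eq_zero_right (h w)⟩
  have hiv : i ⋅ v = (a⁻¹ * ε) • v + (-(a⁻¹ * b)) • j ⋅ v := by
    apply smul_right_injective V ha0
    show a • i ⋅ v = a • ((a⁻¹ * ε) • v + (-(a⁻¹ * b)) • j ⋅ v)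
    rw [smul_add, smul_smul, smul_smul, mul_inv_cancel_left₀ ha0, mul_neg,
      mul_inv_cancel_left₀ ha0, ← hv', neg_smul, add_neg_cancel_right]
  have hijv : i ⋅ (j ⋅ v) = (-(a⁻¹ * b)) • v + (-(a⁻¹ * ε)) • j ⋅ v := by
    have h := hji v
    rw [hiv, map_add, hLj, hLj, Q.sqj] at h
    rw [← neg_neg (i ⋅ (j ⋅ v)), ← h]
    simp only [neg_smul, smul_neg, neg_add, neg_neg]
    abel
  have hspan : ∀ e ∈ E, ∃ x y : K, e ⋅ v = x • v + y • j ⋅ v := by
    intro e he
    obtain ⟨t, h | h | h | h⟩ := Q.cases s hE hexp h2 he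
    · exact ⟨t, 0, by rw [h, zero_smul, add_zero]⟩
    · exact ⟨t * (a⁻¹ * ε), t * -(a⁻¹ * b), by rw [h, hiv, smul_add, smul_smul, smul_smul]⟩
    · exact ⟨0, t, by rw [h, zero_smul, zero_add]⟩
    · exact ⟨t * -(a⁻¹ * b), t * -(a⁻¹ * ε), by rw [h, hijv, smul_add, smul_smul, smul_smul]⟩
  refine ⟨v, g₀ • j ⋅ v, fun α hα h1 h3 => ?_⟩
  obtain ⟨t, ht⟩ := s.semi α hα g₀
  rw [ht] at h3
  have hjv : j ⋅ v ≠ 0 := map_ne_zero' j hv
  have ht0 : t ≠ 0 := fun h => by
    rw [h, zero_smul] at h3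
    exact smul_ne_zero hg0 hjv h3.symm
  have hαjv : α ⋅ (j ⋅ v) = (t⁻¹ * g₀) • j ⋅ v := by
    rw [mul_smul, ← h3, inv_smul_smul₀ ht0]
  -- elements agreeing at a vector
  have heq : ∀ e ∈ E, ∀ e' ∈ E, e ⋅ v = e' ⋅ v → e = e' := fun e he e' he' h => by
    have h5 := hE (e'⁻¹ * e) (E.mul_mem (E.inv_mem he') he) v hv (by rw [mul_apply', h, inv_apply'])
    exact (inv_mul_eq_one.1 h5).symm
  obtain ⟨μj, hμj, hμjv⟩ := s.smul_mem' (mul_ne_zero (inv_ne_zero ht0) hg0) Q.hj
  have hconj : α * j * α⁻¹ = μj := heq _ (s.norm α hα j Q.hj) _ hμj (by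
    rw [mul_apply', mul_apply', inv_fix h1, hαjv, hμjv])
  have hμ : (t⁻¹ * g₀) * (t⁻¹ * g₀) = 1 := by
    have h5 : μj ⋅ (μj ⋅ v) = -v := by
      rw [← hconj, mul_apply' (α * j), mul_apply' (α * j), mul_apply' α, mul_apply' α,
        inv_apply', Q.sqj, map_neg, apply_inv']
    rw [hμjv, hμjv, hLj, Q.sqj, smul_smul, smul_neg, neg_inj] at h5
    exact smul_left_injective K hv (h5.trans (one_smul K v).symm)
  have hαg : t = g₀ := by
    rcases mul_self_eq_one_iff.1 hμ with h | h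
    · exact (inv_mul_eq_one₀ ht0).1 h
    exfalso
    have htneg : t = -g₀ := by
      have := congrArg (fun x => t * x) h
      simp only [mul_inv_cancel_left₀ ht0] at this
      linear_combination this
    have hsq : ∀ (k : ℕ) (w : V), α ⋅ ((g₀ * g₀) ^ k • w) = (g₀ * g₀) ^ k • α ⋅ w := by
      intro k
      induction k with
      | zero => intro w; rw [pow_zero, one_smul, one_smul]
      | succ k ih => intro w; rw [pow_succ, mul_smul, ih, mul_smul g₀ g₀ w, ht, ht, htneg,
          smul_smul (-g₀) (-g₀), neg_mul_neg, smul_smul]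
    have hsq' : ∀ (c : K) (w : V), α ⋅ ((c * c) • w) = (c * c) • α ⋅ w := by
      intro c w
      by_cases hc : c = 0
      · rw [hc, mul_zero, zero_smul, map_zero, zero_smul]
      obtain ⟨k, hk⟩ := (isOfFinOrder_of_finite g).mem_powers_iff_mem_zpowers.2 (hg (Units.mk0 c hc))
      simp only at hk
      have hck : c * c = (g₀ * g₀) ^ k := by
        rw [mul_pow, hg₀def, ← Units.val_pow_eq_pow_val, hk, Units.val_mk0]
      rw [hck, hsq]
    obtain ⟨x, y, hxy⟩ := exists_two_squares h2 g₀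
    have h6 := ht (α⁻¹ ⋅ v)
    rw [← hxy, add_smul, map_add, hsq', hsq', ← add_smul, hxy, apply_inv', htneg] at h6
    have h7 := smul_left_injective K hv h6
    exact mul_ne_zero h2 hg0 (by linear_combination h7)
  have hl := hlin α fun w => by rw [ht, hαg]
  have hαj : α ⋅ (j ⋅ v) = j ⋅ v := by rw [hαjv, hαg, inv_mul_cancel₀ hg0, one_smul]
  refine hfix α hα (hcent α hα hl fun e he => ?_) v hv h1
  have h8 := heq _ (s.norm α hα e he) e he (by
    rw [mul_apply', mul_apply', inv_fix h1]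
    obtain ⟨x, y, hxy⟩ := hspan e he
    rw [hxy, map_add, hl, hl, h1, hαj])
  exact mul_inv_eq_iff_eq_mul.1 h8

/-- Two vectors for a group with the hypotheses of the primitive case. -/
theorem exists_pair [Nontrivial V] (s : Sys K G E) (hsol : Group.IsSolvable G)
    (ih : CopBelow.{v} (Nat.card V)) (h2 : (2 : K) ≠ 0) (hexp : ExpHyp K E)
    (hcent : ∀ a ∈ G, Lin K a → (∀ e ∈ E, a * e = e * a) → Scal K a)
    (hsq : Nat.card K = 3 ∨ Nat.card K = 5 → SqHyp K E) : ∃ x y : V, Pair G x y := by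
  by_cases hE : Fpf E
  · exact pair_fpf s hE hexp h2 hcent
  obtain ⟨D⟩ := exists_split s hE
  haveI := D.nontrivial_W
  have hlt := D.card_lt
  have hsolW := D.isSolvable_G₁ hsol
  by_cases hf : Fpf D.E₁
  · obtain ⟨x, y, hx, hp⟩ :=
      exists_pair_ne_zero (ih D.W _ inferInstance D.G₁ hlt hsolW D.sys.cop)
    exact D.step_pair h2 hp (gen_of_fpf hf hx) hx
  have hq : (Nat.card K = 3 ∨ Nat.card K = 5) ∨ 7 ≤ Nat.card K := by
    haveI := Fintype.ofFinite K
    have hF : ringChar K ≠ 2 := fun h => h2 (by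
      have h' : ((2 : ℕ) : K) = 0 := by rw [← h]; exact ringChar.Nat.cast_ringChar
      exact_mod_cast h')
    have h1 := FiniteField.odd_card_of_char_ne_two hF
    have h3 := Fintype.one_lt_card (α := K)
    rw [Nat.card_eq_fintype_card]
    omega
  rcases hq with hK | hq
  · obtain ⟨-, -, hlin⟩ := small_facts (V := D.W) (K := K) hK
    by_cases hn1 : Module.finrank K D.W = 1
    · have hw : (⟨D.w₀, D.w₀_fix⟩ : D.W) ≠ 0 := fun h => D.w₀_ne (congrArg Subtype.val h)
      set w : D.W := ⟨D.w₀, D.w₀_fix⟩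
      haveI : Module.Finite K D.W := Module.Finite.of_finite
      have key : ∀ a : AutGp D.W, a ⋅ w = w → a = 1 := fun a ha => eq_one_of_forall fun z => by
        obtain ⟨c, rfl⟩ := (finrank_eq_one_iff_of_nonzero' w hw).1 hn1 z
        rw [hlin a, ha]
      exact D.step_pair h2 (u := w) (fun a _ h _ => key a h) (fun e _ h => key e h) hw
    · have hn := D.finrank_eq (D.r_eq_two hK)
      haveI : Module.Finite K D.W := Module.Finite.of_finite
      have hpos := Module.finrank_pos (R := K) (M := D.W)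
      have hgood := good_of_split (hsq hK) hK D
        (good_below hK ih _ D.W D.G₁ D.E₁ rfl hlt D.sys ((hsq hK).sub D) hsolW)
      rcases hgood with ⟨x, y, hp, -, -⟩ | h | ⟨h, -⟩ | ⟨-, -, D', hf', -⟩
      · exact ⟨x, y, hp⟩
      · omega
      · omega
      · haveI := D'.nontrivial_W
        obtain ⟨x, y, hx, hp⟩ := exists_pair_ne_zero
          (ih D'.W _ inferInstance D'.G₁ D'.card_lt (D'.isSolvable_G₁ hsol) D'.sys.cop)
        exact D'.step_pair h2 hp (gen_of_fpf hf' hx) hx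
  · obtain ⟨w, u, hw, -, hp, hg⟩ :=
      gen_pair h2 hq ih _ D.W D.G₁ D.E₁ rfl hlt D.sys hsolW
    exact D.step_pair h2 hp hg hw

end CfsgLib.BaseTwo73
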